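import Groth.Prelude.Def_EGA41
import Mathlib.RingTheory.AdicCompletion.RingHom
import Mathlib.RingTheory.Ideal.Quotient.Operations

/-! Lifting maps from adically formally smooth algebras into adically complete rings. -/

universe u

namespace Groth.Agent.Alg.AdicLift

variable {A B C : Type u} [CommRing A] [CommRing B] [CommRing C] [Algebra A B] [Algebra A C]

/-- Glue two maps into `C/I₁` and `C/I₂` which agree in `C/(I₁ + I₂)`. -/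
theorem exists_glue (I₁ I₂ : Ideal C) (v₁ : B →ₐ[A] C ⧸ I₁) (v₂ : B →ₐ[A] C ⧸ I₂)
    (h : ∀ b, Ideal.Quotient.factor (le_sup_left : I₁ ≤ I₁ ⊔ I₂) (v₁ b) =
      Ideal.Quotient.factor (le_sup_right : I₂ ≤ I₁ ⊔ I₂) (v₂ b)) :
    ∃ w : B →ₐ[A] C ⧸ I₁ ⊓ I₂, (Ideal.Quotient.factorₐ A (inf_le_left : I₁ ⊓ I₂ ≤ I₁)).comp w = v₁ ∧
      (Ideal.Quotient.factorₐ A (inf_le_right : I₁ ⊓ I₂ ≤ I₂)).comp w = v₂ := by
  have hex : ∀ b, ∃ c : C, Ideal.Quotient.mk I₁ c = v₁ b ∧ Ideal.Quotient.mk I₂ c = v₂ b := fun b => by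
    obtain ⟨c₁, h₁⟩ := Ideal.Quotient.mk_surjective (v₁ b)
    obtain ⟨c₂, h₂⟩ := Ideal.Quotient.mk_surjective (v₂ b)
    have h12 := h b
    rw [← h₁, ← h₂, Ideal.Quotient.factor_mk, Ideal.Quotient.factor_mk, Ideal.Quotient.eq] at h12
    obtain ⟨x, hx, y, hy, hxy⟩ := Submodule.mem_sup.mp h12
    refine ⟨c₁ - x, ?_, ?_⟩
    · rw [map_sub, h₁, Ideal.Quotient.eq_zero_iff_mem.mpr hx, sub_zero]
    · rw [← h₂, Ideal.Quotient.eq, show c₁ - x - c₂ = y by rw [sub_sub, add_comm, ← sub_sub, ← hxy, add_sub_cancel_left]]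
      exact hy
  choose c hc₁ hc₂ using hex
  have huniq : ∀ x y : C, Ideal.Quotient.mk I₁ x = Ideal.Quotient.mk I₁ y →
      Ideal.Quotient.mk I₂ x = Ideal.Quotient.mk I₂ y →
      Ideal.Quotient.mk (I₁ ⊓ I₂) x = Ideal.Quotient.mk (I₁ ⊓ I₂) y := fun x y h₁ h₂ =>
    Ideal.Quotient.eq.mpr ⟨Ideal.Quotient.eq.mp h₁, Ideal.Quotient.eq.mp h₂⟩
  refine ⟨{ toFun := fun b => Ideal.Quotient.mk (I₁ ⊓ I₂) (c b)
            map_one' := by
              rw [← map_one (Ideal.Quotient.mk (I₁ ⊓ I₂))]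
              exact huniq _ _ (by simp [hc₁]) (by simp [hc₂])
            map_mul' := fun x y => by
              rw [← map_mul]
              exact huniq _ _ (by simp [hc₁]) (by simp [hc₂])
            map_zero' := by
              rw [← map_zero (Ideal.Quotient.mk (I₁ ⊓ I₂))]
              exact huniq _ _ (by simp [hc₁]) (by simp [hc₂])
            map_add' := fun x y => by
              rw [← map_add]
              exact huniq _ _ (by simp [hc₁]) (by simp [hc₂])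
            commutes' := fun a => by
              rw [← Ideal.Quotient.mk_algebraMap]
              exact huniq _ _ (by simp [hc₁]) (by simp [hc₂]) }, AlgHom.ext fun b => hc₁ b, AlgHom.ext fun b => hc₂ b⟩

variable {𝔞 : Ideal A} {𝔟 : Ideal B} {𝔠 : Ideal C} (J : Ideal C)

/-- One step of the lifting. -/
theorem exists_step (hB : EGA41.IsFormallySmoothAdic A 𝔞 B 𝔟) (hAC : ∃ k : ℕ, (𝔞 ^ k).map (algebraMap A C) ≤ 𝔠)
    (hJ : ∃ t : ℕ, J ^ t ≤ 𝔠) (u : B →ₐ[A] C ⧸ J)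
    (hu : ∃ k : ℕ, (𝔟 ^ k).map u.toRingHom ≤ 𝔠.map (Ideal.Quotient.mk J)) (n : ℕ)
    (v : B →ₐ[A] C ⧸ 𝔠 ^ n) (hvk : ∃ k, ∀ x ∈ 𝔟 ^ k, v x = 0)
    (hvu : ∀ b, Ideal.Quotient.factor (le_sup_right : 𝔠 ^ n ≤ J ⊔ 𝔠 ^ n) (v b) =
      Ideal.Quotient.factor (le_sup_left : J ≤ J ⊔ 𝔠 ^ n) (u b)) :
    ∃ v' : B →ₐ[A] C ⧸ 𝔠 ^ (n + 1), (∃ k, ∀ x ∈ 𝔟 ^ k, v' x = 0) ∧
      (∀ b, Ideal.Quotient.factor (le_sup_right : 𝔠 ^ (n + 1) ≤ J ⊔ 𝔠 ^ (n + 1)) (v' b) =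
        Ideal.Quotient.factor (le_sup_left : J ≤ J ⊔ 𝔠 ^ (n + 1)) (u b)) ∧
      (Ideal.Quotient.factorPow 𝔠 (Nat.le_succ n)).comp v'.toRingHom = v.toRingHom := by
  obtain ⟨t, ht⟩ := hJ
  obtain ⟨ku, hku⟩ := hu
  obtain ⟨ka, hka⟩ := hAC
  obtain ⟨kv, hkv⟩ := hvk
  have hc : 𝔠 ^ (n + 1) ≤ 𝔠 ^ n := Ideal.pow_le_pow_right (Nat.le_succ n)
  let v₁ : B →ₐ[A] C ⧸ (J ⊔ 𝔠 ^ (n + 1)) := (Ideal.Quotient.factorₐ A (le_sup_left : J ≤ J ⊔ 𝔠 ^ (n + 1))).comp u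
  obtain ⟨w, hw₁, hw₂⟩ := exists_glue (J ⊔ 𝔠 ^ (n + 1)) (𝔠 ^ n) v₁ v fun b => by
    obtain ⟨c, hcu⟩ := Ideal.Quotient.mk_surjective (u b)
    obtain ⟨d, hdv⟩ := Ideal.Quotient.mk_surjective (v b)
    have h1 := hvu b
    rw [← hcu, ← hdv, Ideal.Quotient.factor_mk, Ideal.Quotient.factor_mk, Ideal.Quotient.eq] at h1
    have h2 : v₁ b = Ideal.Quotient.mk _ c := by
      change Ideal.Quotient.factor (le_sup_left : J ≤ J ⊔ 𝔠 ^ (n + 1)) (u b) = _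
      rw [← hcu, Ideal.Quotient.factor_mk]
    rw [h2, ← hdv, Ideal.Quotient.factor_mk, Ideal.Quotient.factor_mk, Ideal.Quotient.eq, ← neg_sub]
    exact neg_mem ((sup_le_sup_right le_sup_left _ : J ⊔ 𝔠 ^ n ≤ J ⊔ 𝔠 ^ (n + 1) ⊔ 𝔠 ^ n) h1)
  let K := (J ⊔ 𝔠 ^ (n + 1)) ⊓ 𝔠 ^ n
  have hle : 𝔠 ^ (n + 1) ≤ K := le_inf le_sup_right hc
  have hJc : J ⊔ 𝔠 ^ (n + 1) ≤ J ⊔ 𝔠 := sup_le_sup_left (Ideal.pow_le_self n.succ_ne_zero) _
  have hKn : K ^ ((t + 1) * (n + 1)) ≤ 𝔠 ^ (n + 1) := by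
    refine (Ideal.pow_right_mono (inf_le_left.trans hJc) _).trans ?_
    rw [pow_mul]
    refine Ideal.pow_right_mono ?_ _
    calc (J ⊔ 𝔠) ^ (t + 1) ≤ J ^ (t + 1) ⊔ 𝔠 := by
          induction (t + 1) with
          | zero => simp
          | succ m ih =>
            rw [pow_succ, pow_succ]
            refine (Ideal.mul_mono ih le_rfl).trans ?_
            rw [Ideal.sup_mul, Ideal.mul_sup]
            exact sup_le (sup_le le_sup_left (le_sup_of_le_right Ideal.mul_le_right)) (le_sup_of_le_right Ideal.mul_le_left)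
      _ ≤ 𝔠 := sup_le ((Ideal.pow_le_pow_right (Nat.le_succ t)).trans ht) le_rfl
  let q : C ⧸ 𝔠 ^ (n + 1) →ₐ[A] C ⧸ K := Ideal.Quotient.factorₐ A hle
  let Jn : Ideal (C ⧸ 𝔠 ^ (n + 1)) := K.map (Ideal.Quotient.mk _)
  have hJn : Jn ^ ((t + 1) * (n + 1)) = ⊥ := by
    rw [← Ideal.map_pow, Ideal.map_eq_bot_iff_le_ker, Ideal.mk_ker]; exact hKn
  let e : ((C ⧸ 𝔠 ^ (n + 1)) ⧸ Jn) ≃ₐ[A] C ⧸ K := DoubleQuot.quotQuotEquivQuotOfLEₐ A hle
  let w' : B →ₐ[A] (C ⧸ 𝔠 ^ (n + 1)) ⧸ Jn := e.symm.toAlgHom.comp w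
  have hwk : ∀ x ∈ 𝔟 ^ (ku * (n + 1) + kv), w x = 0 := fun x hx => by
    obtain ⟨c, hcw⟩ := Ideal.Quotient.mk_surjective (w x)
    have h1 : Ideal.Quotient.mk (𝔠 ^ n) c = 0 := by
      rw [← hkv x (Ideal.pow_le_pow_right (by omega) hx), ← hw₂, AlgHom.comp_apply, ← hcw]
      rfl
    have h2 : Ideal.Quotient.mk (J ⊔ 𝔠 ^ (n + 1)) c = 0 := by
      rw [show Ideal.Quotient.mk (J ⊔ 𝔠 ^ (n + 1)) c = v₁ x by rw [← hw₁, AlgHom.comp_apply, ← hcw]; rfl]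
      have h3 : u x ∈ (𝔠 ^ (n + 1)).map (Ideal.Quotient.mk J) := by
        rw [Ideal.map_pow]
        refine Ideal.pow_right_mono hku (n + 1) ?_
        rw [← Ideal.map_pow, ← pow_mul]
        exact Ideal.mem_map_of_mem _ (Ideal.pow_le_pow_right (by omega) hx)
      obtain ⟨d, hd, hdu⟩ := (Ideal.mem_map_iff_of_surjective _ Ideal.Quotient.mk_surjective).mp h3
      change Ideal.Quotient.factor (le_sup_left : J ≤ J ⊔ 𝔠 ^ (n + 1)) (u x) = 0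
      rw [← hdu, Ideal.Quotient.factor_mk, Ideal.Quotient.eq_zero_iff_mem]
      exact Ideal.mem_sup_right hd
    rw [← hcw, Ideal.Quotient.eq_zero_iff_mem]
    exact ⟨Ideal.Quotient.eq_zero_iff_mem.mp h2, Ideal.Quotient.eq_zero_iff_mem.mp h1⟩
  obtain ⟨v', hv'⟩ := hB (C ⧸ 𝔠 ^ (n + 1)) Jn ⟨_, hJn⟩
    ⟨ka * (n + 1), by
      rw [pow_mul, Ideal.map_pow, IsScalarTower.algebraMap_eq A C (C ⧸ 𝔠 ^ (n + 1)), ← Ideal.map_map, ← Ideal.map_pow,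
        Ideal.map_eq_bot_iff_le_ker, Ideal.Quotient.algebraMap_eq, Ideal.mk_ker]
      exact Ideal.pow_right_mono hka _⟩
    w' ⟨ku * (n + 1) + kv, fun x hx => by simp [w', hwk x hx]⟩
  have hq : ∀ b, q (v' b) = w b := fun b => by
    have h1 : Ideal.Quotient.mk Jn (v' b) = e.symm (w b) := DFunLike.congr_fun hv' b
    rw [← e.apply_symm_apply (w b), ← h1]
    obtain ⟨c, hc'⟩ := Ideal.Quotient.mk_surjective (v' b)
    rw [← hc']
    rfl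
  refine ⟨v', ⟨(ku * (n + 1) + kv) * ((t + 1) * (n + 1)), fun x hx => ?_⟩, fun b => ?_, RingHom.ext fun b => ?_⟩
  · rw [pow_mul] at hx
    have h1 : (𝔟 ^ (ku * (n + 1) + kv)).map v'.toRingHom ≤ Jn := Ideal.map_le_iff_le_comap.mpr fun y hy => by
      rw [Ideal.mem_comap, ← Ideal.Quotient.eq_zero_iff_mem]
      have h2 : Ideal.Quotient.mk Jn (v' y) = e.symm (w y) := DFunLike.congr_fun hv' y
      exact h2.trans (by rw [hwk y hy, map_zero])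
    have h2 := Ideal.pow_right_mono h1 ((t + 1) * (n + 1)) (by rw [← Ideal.map_pow]; exact Ideal.mem_map_of_mem v'.toRingHom hx)
    rw [hJn, Ideal.mem_bot] at h2
    exact h2
  · have h1 := DFunLike.congr_fun hw₁ b
    rw [AlgHom.comp_apply, ← hq b] at h1
    obtain ⟨c, hc'⟩ := Ideal.Quotient.mk_surjective (v' b)
    rw [← hc'] at h1 ⊢
    exact h1
  · have h1 := DFunLike.congr_fun hw₂ b
    rw [AlgHom.comp_apply, ← hq b] at h1
    refine Eq.trans ?_ h1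
    obtain ⟨c, hc'⟩ := Ideal.Quotient.mk_surjective (v' b)
    change Ideal.Quotient.factorPow 𝔠 (Nat.le_succ n) (v' b) = _
    rw [← hc']
    rfl

theorem exists_lift (hB : EGA41.IsFormallySmoothAdic A 𝔞 B 𝔟) [IsAdicComplete 𝔠 C]
    (hAC : ∃ k : ℕ, (𝔞 ^ k).map (algebraMap A C) ≤ 𝔠)
    (hJ : ∃ t : ℕ, J ^ t ≤ 𝔠) [IsHausdorff (𝔠.map (Ideal.Quotient.mk J)) (C ⧸ J)] (u : B →ₐ[A] C ⧸ J)
    (hu : ∃ k : ℕ, (𝔟 ^ k).map u.toRingHom ≤ 𝔠.map (Ideal.Quotient.mk J)) :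
    ∃ v : B →ₐ[A] C, (∃ k : ℕ, (𝔟 ^ k).map v.toRingHom ≤ 𝔠) ∧ (Ideal.Quotient.mkₐ A J).comp v = u := by
  classical
  let P : ∀ n, (B →ₐ[A] C ⧸ 𝔠 ^ n) → Prop := fun n v => (∃ k, ∀ x ∈ 𝔟 ^ k, v x = 0) ∧
    ∀ b, Ideal.Quotient.factor (le_sup_right : 𝔠 ^ n ≤ J ⊔ 𝔠 ^ n) (v b) =
      Ideal.Quotient.factor (le_sup_left : J ≤ J ⊔ 𝔠 ^ n) (u b)
  have hsub : Subsingleton (C ⧸ 𝔠 ^ 0) := Ideal.Quotient.subsingleton_iff.mpr (by rw [pow_zero, Ideal.one_eq_top])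
  have h0 : ∃ v, P 0 v := by
    refine ⟨{ toFun := fun _ => 0, map_one' := Subsingleton.elim _ _, map_mul' := fun _ _ => Subsingleton.elim _ _
              map_zero' := rfl, map_add' := fun _ _ => Subsingleton.elim _ _
              commutes' := fun _ => Subsingleton.elim _ _ }, ⟨0, fun _ _ => rfl⟩, fun b => ?_⟩
    have : Subsingleton (C ⧸ (J ⊔ 𝔠 ^ 0)) := Ideal.Quotient.subsingleton_iff.mpr (by simp)
    exact Subsingleton.elim _ _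
  let V : ∀ n, {v // P n v} := fun n => Nat.rec ⟨h0.choose, h0.choose_spec⟩
    (fun n v => ⟨(exists_step J hB hAC hJ u hu n v.1 v.2.1 v.2.2).choose,
      (exists_step J hB hAC hJ u hu n v.1 v.2.1 v.2.2).choose_spec.1,
      (exists_step J hB hAC hJ u hu n v.1 v.2.1 v.2.2).choose_spec.2.1⟩) n
  let G : ∀ n, B →+* C ⧸ 𝔠 ^ n := fun n => (V n).1.toRingHom
  have hG : ∀ {m}, (Ideal.Quotient.factorPow 𝔠 (strictMono_id.monotone m.le_succ)).comp (G (m + 1)) = G m := fun {m} =>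
    (exists_step J hB hAC hJ u hu m (V m).1 (V m).2.1 (V m).2.2).choose_spec.2.2
  let L : B →+* C := IsAdicComplete.StrictMono.liftRingHom 𝔠 strictMono_id G hG
  have hL : ∀ n b, Ideal.Quotient.mk (𝔠 ^ n) (L b) = (V n).1 b := fun n b =>
    IsAdicComplete.StrictMono.mk_liftRingHom 𝔠 strictMono_id G hG (n := n) b
  refine ⟨{ L with commutes' := fun r => ?_ }, ?_, AlgHom.ext fun b => ?_⟩
  · refine IsHausdorff.eq_iff_smodEq (I := 𝔠).mpr fun n => ?_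
    rw [smul_eq_mul, Ideal.mul_top, SModEq.sub_mem, ← Ideal.Quotient.eq]
    exact (hL n _).trans ((V n).1.commutes r)
  · obtain ⟨k, hk⟩ := (V 1).2.1
    refine ⟨k, Ideal.map_le_iff_le_comap.mpr fun x hx => ?_⟩
    have : Ideal.Quotient.mk (𝔠 ^ 1) (L x) = 0 := (hL 1 x).trans (hk x hx)
    rw [Ideal.Quotient.eq_zero_iff_mem, pow_one] at this
    exact this
  · change Ideal.Quotient.mk J (L b) = u b
    refine IsHausdorff.eq_iff_smodEq (I := 𝔠.map (Ideal.Quotient.mk J)).mpr fun n => ?_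
    rw [smul_eq_mul, Ideal.mul_top, SModEq.sub_mem, ← Ideal.map_pow]
    obtain ⟨c, hc⟩ := Ideal.Quotient.mk_surjective (u b)
    have h1 := (V n).2.2 b
    rw [← hL n b, ← hc, Ideal.Quotient.factor_mk, Ideal.Quotient.factor_mk, Ideal.Quotient.eq] at h1
    obtain ⟨x, hx, y, hy, hxy⟩ := Submodule.mem_sup.mp h1
    rw [← hc, ← map_sub, ← hxy, map_add, Ideal.Quotient.eq_zero_iff_mem.mpr hx, zero_add]
    exact Ideal.mem_map_of_mem _ hy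

end Groth.Agent.Alg.AdicLift
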