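import Mathlib.Algebra.Module.FinitePresentation
import Mathlib.LinearAlgebra.Quotient.Pi
import Mathlib.RingTheory.Localization.AtPrime.Basic
import Mathlib.LinearAlgebra.Prod

/-!
Finitely presented modules over rings with totally ordered divisibility.
-/

set_option autoImplicit false

noncomputable section

namespace Groth.Agent.Alg.ChainRing

universe u

variable {R : Type u} [CommRing R]

theorem exists_dvd_all (hR : ∀ a b : R, a ∣ b ∨ b ∣ a) {ι : Type*} (s : Finset ι) (hs : s.Nonempty)
    (a : ι → R) : ∃ i ∈ s, ∀ j ∈ s, a i ∣ a j := by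
  classical
  induction hs using Finset.Nonempty.cons_induction with
  | singleton i => exact ⟨i, Finset.mem_singleton_self i, fun j hj => by rw [Finset.mem_singleton.mp hj]⟩
  | cons i s hi _ ih =>
    obtain ⟨k, hk, hkj⟩ := ih
    rcases hR (a i) (a k) with h | h
    · refine ⟨i, Finset.mem_cons_self i s, fun j hj => ?_⟩
      rcases Finset.mem_cons.mp hj with rfl | hj
      · exact dvd_rfl
      · exact h.trans (hkj j hj)
    · refine ⟨k, Finset.mem_cons_of_mem hk, fun j hj => ?_⟩
      rcases Finset.mem_cons.mp hj with rfl | hj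
      · exact h
      · exact hkj j hj

/-- Finitely presented modules over a ring with totally ordered divisibility are sums of cyclic
modules. -/
theorem exists_diagonal (hR : ∀ a b : R, a ∣ b ∨ b ∣ a) : ∀ (n : ℕ) {m : ℕ} (k : Fin m → Fin n → R),
    ∃ c : Fin n → R, Nonempty (((Fin n → R) ⧸ Submodule.span R (Set.range k)) ≃ₗ[R]
      ∀ i, R ⧸ Ideal.span {c i}) := by
  classical
  intro n
  induction n with
  | zero =>
    intro m k
    exact ⟨Fin.elim0, ⟨LinearEquiv.ofSubsingleton _ _⟩⟩
  | succ n ih =>
    intro m k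
    rcases Nat.eq_zero_or_pos m with rfl | hm
    · refine ⟨fun _ => 0, ⟨(Submodule.quotEquivOfEqBot _ ?_).trans
        (LinearEquiv.piCongrRight fun i => (Submodule.quotEquivOfEqBot _ ?_).symm)⟩⟩
      · rw [Set.range_eq_empty k, Submodule.span_empty]
      · simp
    have : Nonempty (Fin m) := ⟨⟨0, hm⟩⟩
    obtain ⟨⟨j0, i0⟩, -, hdvd⟩ := exists_dvd_all hR (Finset.univ : Finset (Fin m × Fin (n + 1)))
      Finset.univ_nonempty (fun p => k p.1 p.2)
    set a := k j0 i0 with ha
    choose q hq using fun p : Fin m × Fin (n + 1) => hdvd p (Finset.mem_univ p)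
    let u : Fin (n + 1) → R := fun i => if i = i0 then 1 else q (j0, i)
    have hu : ∀ i, k j0 i = a * u i := fun i => by
      by_cases h : i = i0
      · simp [u, h, ha]
      · simp only [u, h, if_false]; exact hq (j0, i)
    -- change of coordinates
    let σ : (Fin (n + 1) → R) ≃ₗ[R] R × (Fin n → R) :=
      { toFun := fun v => (v i0, fun i => v (i0.succAbove i) - v i0 * u (i0.succAbove i))
        map_add' := fun v w => Prod.ext rfl (funext fun i => by simp only [Pi.add_apply, Prod.snd_add]; ring)
        map_smul' := fun c v => Prod.ext rfl (funext fun i => by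
          simp only [Pi.smul_apply, Prod.smul_snd, smul_eq_mul, RingHom.id_apply]; ring)
        invFun := fun p => i0.insertNth p.1 fun i => p.2 i + p.1 * u (i0.succAbove i)
        left_inv := fun v => by
          funext i
          obtain rfl | ⟨i, rfl⟩ := Fin.eq_self_or_eq_succAbove i0 i
          · simp
          · simp
        right_inv := fun p => Prod.ext (by simp) (funext fun i => by simp) }
    let w : Fin m → Fin n → R := fun j => (σ (k j)).2
    have hσ0 : σ (k j0) = (a, 0) := Prod.ext rfl (funext fun i => by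
      show k j0 (i0.succAbove i) - k j0 i0 * u (i0.succAbove i) = 0
      rw [hu, ← ha, sub_self])
    have hmap : (Submodule.span R (Set.range k)).map σ.toLinearMap =
        Submodule.prod (Ideal.span {a}) (Submodule.span R (Set.range w)) := by
      refine le_antisymm ?_ ?_
      · rw [Submodule.map_span_le]
        rintro _ ⟨j, rfl⟩
        exact ⟨Ideal.mem_span_singleton'.mpr ⟨q (j, i0), by rw [mul_comm]; exact (hq (j, i0)).symm⟩,
          Submodule.subset_span ⟨j, rfl⟩⟩
      · have h0 : ∀ c : R, ((c * a, 0) : R × (Fin n → R)) ∈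
            (Submodule.span R (Set.range k)).map σ.toLinearMap := fun c =>
          ⟨c • k j0, Submodule.smul_mem _ _ (Submodule.subset_span ⟨j0, rfl⟩), by
            show σ (c • k j0) = _
            rw [map_smul, hσ0, Prod.smul_mk, smul_zero, smul_eq_mul]⟩
        rintro ⟨x, y⟩ ⟨hx, hy⟩
        obtain ⟨c, rfl⟩ := Ideal.mem_span_singleton'.mp hx
        rw [show ((c * a, y) : R × (Fin n → R)) = (c * a, 0) + (0, y) by simp]
        refine add_mem (h0 c) ?_
        refine Submodule.span_induction (p := fun y _ => ((0, y) : R × (Fin n → R)) ∈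
          (Submodule.span R (Set.range k)).map σ.toLinearMap) ?_ (zero_mem _)
          (fun y z _ _ hy hz => by simpa using add_mem hy hz)
          (fun t y _ hy => by simpa using Submodule.smul_mem _ t hy) hy
        rintro _ ⟨j, rfl⟩
        have h1 : σ (k j) ∈ (Submodule.span R (Set.range k)).map σ.toLinearMap :=
          ⟨k j, Submodule.subset_span ⟨j, rfl⟩, rfl⟩
        have h2 := sub_mem h1 (h0 (q (j, i0)))
        have h3 : σ (k j) - (q (j, i0) * a, 0) = (0, w j) := by
          refine Prod.ext ?_ (by simp [w])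
          show k j i0 - q (j, i0) * a = 0
          rw [hq (j, i0), mul_comm, sub_self]
        rwa [h3] at h2
    obtain ⟨c, ⟨e⟩⟩ := ih w
    let π : R × (Fin n → R) →ₗ[R]
        (R ⧸ Ideal.span {a}) × ((Fin n → R) ⧸ Submodule.span R (Set.range w)) :=
      (Submodule.mkQ _).prodMap (Submodule.mkQ _)
    have hπker : LinearMap.ker π = Submodule.prod (Ideal.span {a}) (Submodule.span R (Set.range w)) := by
      rw [LinearMap.ker_prodMap, Submodule.ker_mkQ, Submodule.ker_mkQ]
    have hπs : Function.Surjective π :=
      (Submodule.mkQ_surjective _).prodMap (Submodule.mkQ_surjective _)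
    let e1 := (Submodule.Quotient.equiv (Submodule.span R (Set.range k)) (LinearMap.ker π) σ
      (hmap.trans hπker.symm)).trans (π.quotKerEquivOfSurjective hπs)
    let c' : Fin (n + 1) → R := Fin.cases a c
    let e2 : ((R ⧸ Ideal.span {a}) × ∀ i, R ⧸ Ideal.span {c i}) ≃ₗ[R]
        ∀ i : Fin (n + 1), R ⧸ Ideal.span {c' i} :=
      { toFun := fun p => Fin.cons p.1 p.2
        invFun := fun f => (f 0, fun i => f i.succ)
        map_add' := fun p q => funext fun i => by induction i using Fin.cases <;> rfl
        map_smul' := fun t p => funext fun i => by induction i using Fin.cases <;> rfl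
        left_inv := fun p => Prod.ext rfl rfl
        right_inv := fun f => funext fun i => by induction i using Fin.cases <;> simp }
    exact ⟨c', ⟨e1.trans (((LinearEquiv.refl R _).prodCongr e).trans e2)⟩⟩

/-- Locally at `m` a finitely presented module is dominated by cyclic modules. -/
theorem exists_local_section (M : Type u) [AddCommGroup M] [Module R M]
    [Module.FinitePresentation R M] (m : Ideal R) [m.IsMaximal]
    (h : ∀ a b : Localization.AtPrime m, a ∣ b ∨ b ∣ a) :
    ∃ (n : ℕ) (f : Fin n → R) (φ : (∀ i, R ⧸ Ideal.span {f i}) →ₗ[R] M)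
      (g : M →ₗ[R] ∀ i, R ⧸ Ideal.span {f i}) (s : R), s ∉ m ∧ ∀ x, φ (g x) = s • x := by
  classical
  let L := Localization.AtPrime m
  let Mm := LocalizedModule m.primeCompl M
  let mk := LocalizedModule.mkLinearMap m.primeCompl M
  obtain ⟨n, K, eK, hK⟩ := Module.FinitePresentation.exists_fin L Mm
  obtain ⟨r, k, hk⟩ := Submodule.fg_iff_exists_fin_generating_family.mp hK
  obtain ⟨c, ⟨e⟩⟩ := exists_diagonal h n k
  let ψ : (∀ i, L ⧸ Ideal.span {c i}) ≃ₗ[L] Mm :=
    (eK.trans ((Submodule.quotEquivOfEq _ _ hk.symm).trans e)).symm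
  choose fs hfs using fun i => IsLocalization.surj m.primeCompl (c i)
  let f : Fin n → R := fun i => (fs i).1
  let y : Fin n → Mm := fun i => ψ (Pi.single i (Ideal.Quotient.mk _ 1))
  have hy : ∀ i, f i • y i = 0 := fun i => by
    rw [← algebraMap_smul L, show algebraMap R L (f i) = c i * algebraMap R L (fs i).2 from (hfs i).symm,
      show (c i * algebraMap R L (fs i).2) • y i = ψ ((c i * algebraMap R L (fs i).2) •
        Pi.single i (Ideal.Quotient.mk _ 1)) from (map_smul ψ _ _).symm]
    rw [← Pi.single_smul, ← Ideal.Quotient.mk_eq_mk, ← Submodule.Quotient.mk_smul, smul_eq_mul, mul_one,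
      show (Submodule.Quotient.mk (c i * algebraMap R L (fs i).2) : L ⧸ Ideal.span {c i}) = 0 from
        (Submodule.Quotient.mk_eq_zero _).mpr (Ideal.mul_mem_right _ _ (Ideal.mem_span_singleton_self _)),
      Pi.single_zero, map_zero]
  choose xs hxs using fun i => IsLocalizedModule.surj m.primeCompl mk (y i)
  have hkill : ∀ i, ∃ t : m.primeCompl, (t : R) • (f i • (xs i).1) = 0 := fun i => by
    have h1 : mk (f i • (xs i).1) = mk 0 := by
      rw [map_zero, map_smul, ← hxs i, smul_comm, hy, smul_zero]
    obtain ⟨t, ht⟩ := IsLocalizedModule.exists_of_eq (S := m.primeCompl) h1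
    exact ⟨t, by rw [smul_zero] at ht; exact ht⟩
  choose t ht using hkill
  let x : Fin n → M := fun i => (t i : R) • (xs i).1
  let u : Fin n → m.primeCompl := fun i => t i * (xs i).2
  have hx : ∀ i, mk (x i) = (u i : R) • y i := fun i => by
    rw [map_smul, ← hxs i, Submonoid.smul_def, smul_smul]
    rfl
  let φi : ∀ i, (R ⧸ Ideal.span {f i}) →ₗ[R] M := fun i =>
    Submodule.liftQ _ (LinearMap.toSpanSingleton R M (x i)) (by
      rw [Ideal.span, Submodule.span_singleton_le_iff_mem, LinearMap.mem_ker,
        LinearMap.toSpanSingleton_apply, smul_smul, mul_comm, ← smul_smul]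
      exact ht i)
  let φ : (∀ i, R ⧸ Ideal.span {f i}) →ₗ[R] M := ∑ i, (φi i).comp (LinearMap.proj i)
  have hφ : ∀ i, φ (Pi.single i (Ideal.Quotient.mk _ 1)) = x i := fun i => by
    simp only [φ, LinearMap.sum_apply, LinearMap.comp_apply, LinearMap.proj_apply]
    rw [Finset.sum_eq_single i (fun j _ hj => by rw [Pi.single_eq_of_ne hj, map_zero])
      (fun hi => absurd (Finset.mem_univ i) hi), Pi.single_eq_same]
    exact one_smul R (x i)
  let P := ∀ i, R ⧸ Ideal.span {f i}
  let Pm := LocalizedModule m.primeCompl P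
  let mkP := LocalizedModule.mkLinearMap m.primeCompl P
  let φm : Pm →ₗ[L] Mm := LocalizedModule.map m.primeCompl φ
  have hφm : ∀ p, φm (mkP p) = mk (φ p) := fun p => LocalizedModule.map_mk m.primeCompl φ p 1
  let Lm : (∀ i, L ⧸ Ideal.span {c i}) →ₗ[L] Pm := ∑ i, (Submodule.liftQ (Ideal.span {c i})
    (LinearMap.toSpanSingleton L Pm (IsLocalizedModule.mk' mkP (Pi.single i (Ideal.Quotient.mk _ 1)) (u i)))
    (by
      rw [Ideal.span, Submodule.span_singleton_le_iff_mem, LinearMap.mem_ker,
        LinearMap.toSpanSingleton_apply]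
      refine ((IsLocalization.map_units L (fs i).2).smul_eq_zero).mp ?_
      rw [smul_smul, mul_comm, show c i * algebraMap R L (fs i).2 = algebraMap R L (f i) from hfs i,
        algebraMap_smul, ← IsLocalizedModule.mk'_smul, ← Pi.single_smul, ← Ideal.Quotient.mk_eq_mk,
        ← Submodule.Quotient.mk_smul, smul_eq_mul, mul_one,
        show (Submodule.Quotient.mk (f i) : R ⧸ Ideal.span {f i}) = 0 from
          (Submodule.Quotient.mk_eq_zero _).mpr (Ideal.mem_span_singleton_self _),
        Pi.single_zero, IsLocalizedModule.mk'_zero])).comp (LinearMap.proj i)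
  have hsec : ∀ v, φm (Lm v) = ψ v := by
    intro v
    have : φm.comp Lm = ψ.toLinearMap := by
      refine LinearMap.pi_ext fun i z => ?_
      obtain ⟨z, rfl⟩ := Submodule.Quotient.mk_surjective _ z
      simp only [LinearMap.comp_apply, Lm, LinearMap.sum_apply, LinearMap.proj_apply]
      rw [Finset.sum_eq_single i (fun j _ hj => by rw [Pi.single_eq_of_ne hj, map_zero])
        (fun hi => absurd (Finset.mem_univ i) hi), Pi.single_eq_same, Submodule.liftQ_apply,
        LinearMap.toSpanSingleton_apply, map_smul, LinearEquiv.coe_coe]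
      rw [show (Pi.single i (Submodule.Quotient.mk z) : ∀ j, L ⧸ Ideal.span {c j}) =
        z • Pi.single i (Ideal.Quotient.mk _ 1) by
          rw [← Pi.single_smul, ← Ideal.Quotient.mk_eq_mk, ← Submodule.Quotient.mk_smul, smul_eq_mul, mul_one],
        map_smul]
      congr 1
      apply ((Module.End.isUnit_iff _).mp (IsLocalizedModule.map_units mk (u i))).injective
      show (u i : R) • φm _ = (u i : R) • y i
      rw [← LinearMap.map_smul_of_tower, ← Submonoid.smul_def, IsLocalizedModule.mk'_cancel', hφm, hφ, hx]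
    exact LinearMap.congr_fun this v
  obtain ⟨g, s, hgs⟩ := Module.FinitePresentation.exists_lift_of_isLocalizedModule m.primeCompl
    (mkP) ((Lm.restrictScalars R).comp ((ψ.symm.toLinearMap.restrictScalars R).comp mk))
  have hg : ∀ z, mk (φ (g z)) = mk ((s : R) • z) := fun z => by
    rw [← hφm, show mkP (g z) = (s : R) • Lm (ψ.symm (mk z)) from LinearMap.congr_fun hgs z,
      LinearMap.map_smul_of_tower, hsec, LinearEquiv.apply_symm_apply, map_smul]
  obtain ⟨b, z, hz⟩ := Module.Finite.exists_fin (R := R) (M := M)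
  choose w hw using fun j => IsLocalizedModule.exists_of_eq (S := m.primeCompl) (hg (z j))
  let W : m.primeCompl := ∏ j, w j
  refine ⟨n, f, φ, (W : R) • g, (W : R) * s, ?_, ?_⟩
  · exact fun hmem => (‹m.IsMaximal›.isPrime.mem_or_mem hmem).elim W.2 s.2
  · have : φ.comp ((W : R) • g) = ((W : R) * s) • LinearMap.id := by
      refine LinearMap.ext_on_range hz fun j => ?_
      simp only [LinearMap.comp_apply, LinearMap.smul_apply, map_smul, LinearMap.id_apply]
      obtain ⟨d, hd⟩ := Finset.dvd_prod_of_mem w (Finset.mem_univ j)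
      rw [show (W : R) = (d : R) * (w j : R) by
        show ((∏ j, w j : m.primeCompl) : R) = _; rw [hd, Submonoid.coe_mul, mul_comm],
        mul_smul, mul_assoc, mul_smul]
      congr 1
      exact (hw j).trans (smul_smul _ _ _)
    exact fun x => LinearMap.congr_fun this x

end Groth.Agent.Alg.ChainRing
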