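import Mathlib.Algebra.Module.FinitePresentation
import Mathlib.LinearAlgebra.Prod
import Mathlib.RingTheory.Finiteness.Ideal

/-! Coherent rings and modules. -/

set_option autoImplicit false

universe u

namespace Groth.Agent.Alg.Coherent

variable {R : Type u} [CommRing R]

/-- Finitely generated submodules of an extension of coherent modules. -/
theorem fp_of_extension {M₁ M₂ M₃ : Type u} [AddCommGroup M₁] [Module R M₁] [AddCommGroup M₂]
    [Module R M₂] [AddCommGroup M₃] [Module R M₃] (f : M₁ →ₗ[R] M₂) (g : M₂ →ₗ[R] M₃)
    (hf : Function.Injective f) (hfg : LinearMap.range f = LinearMap.ker g)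
    (h₁ : ∀ N : Submodule R M₁, N.FG → Module.FinitePresentation R N)
    (h₃ : ∀ N : Submodule R M₃, N.FG → Module.FinitePresentation R N)
    (N : Submodule R M₂) (hN : N.FG) : Module.FinitePresentation R N := by
  haveI : Module.Finite R N := Module.Finite.iff_fg.mpr hN
  haveI := h₃ (N.map g) (hN.map g)
  let l : N →ₗ[R] N.map g := g.submoduleMap N
  have hl : Function.Surjective l := g.submoduleMap_surjective N
  have hk : (LinearMap.ker l).map N.subtype = (N.comap f).map f := by
    rw [Submodule.map_comap_eq, hfg]
    ext x
    constructor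
    · rintro ⟨y, hy, rfl⟩
      exact ⟨congrArg Subtype.val hy, y.2⟩
    · rintro ⟨hx, hxN⟩
      exact ⟨⟨x, hxN⟩, Subtype.ext hx, rfl⟩
  have hfgK : (N.comap f).FG := by
    refine Submodule.fg_of_fg_map_injective f hf ?_
    rw [← hk]
    exact (Module.FinitePresentation.fg_ker l hl).map _
  haveI := h₁ (N.comap f) hfgK
  haveI : Module.FinitePresentation R (LinearMap.ker l) :=
    Module.FinitePresentation.of_equiv
      ((Submodule.equivMapOfInjective f hf _).trans
        ((LinearEquiv.ofEq _ _ hk.symm).trans
          (Submodule.equivMapOfInjective N.subtype N.injective_subtype _).symm))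
  exact Module.finitePresentation_of_ker l hl

/-- Over a coherent ring, finitely generated submodules of finite free modules are finitely presented. -/
theorem fp_of_pi (hR : ∀ I : Ideal R, I.FG → Module.FinitePresentation R I) :
    ∀ (n : ℕ) (N : Submodule R (Fin n → R)), N.FG → Module.FinitePresentation R N := by
  intro n
  induction n with
  | zero =>
    intro N _
    haveI : Subsingleton N := ⟨fun a b => Subtype.ext (Subsingleton.elim _ _)⟩
    exact Module.FinitePresentation.of_subsingleton _
  | succ n ih =>
    intro N hN
    let e := Fin.consLinearEquiv R (fun _ : Fin (n + 1) => R)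
    have h := fp_of_extension (LinearMap.inr R R (Fin n → R)) (LinearMap.fst R R (Fin n → R))
      LinearMap.inr_injective (by rw [LinearMap.ker_fst]) ih hR (N.map e.symm.toLinearMap) (hN.map _)
    exact Module.FinitePresentation.of_equiv (e.symm.submoduleMap N).symm

/-- Over a coherent ring, finitely generated submodules of finitely presented modules are finitely
presented. -/
theorem fp_of_fp (hR : ∀ I : Ideal R, I.FG → Module.FinitePresentation R I) {M : Type u}
    [AddCommGroup M] [Module R M] [Module.FinitePresentation R M] (N : Submodule R M) (hN : N.FG) :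
    Module.FinitePresentation R N := by
  obtain ⟨n, π, hπ⟩ := Module.Finite.exists_fin' R M
  have hk := Module.FinitePresentation.fg_ker π hπ
  have hN' : (N.comap π).FG := by
    refine Submodule.fg_of_fg_map_of_fg_inf_ker π ?_ ?_
    · rwa [Submodule.map_comap_eq_of_surjective hπ]
    · rwa [inf_eq_right.mpr (LinearMap.ker_le_comap π)]
  haveI := fp_of_pi hR n _ hN'
  let l : N.comap π →ₗ[R] N := π.restrict fun x hx => hx
  have hl : Function.Surjective l := by
    rintro ⟨y, hy⟩
    obtain ⟨x, rfl⟩ := hπ y
    exact ⟨⟨x, hy⟩, rfl⟩
  refine Module.finitePresentation_of_surjective l hl ?_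
  refine Submodule.fg_of_fg_map_injective (N.comap π).subtype (Submodule.injective_subtype _) ?_
  have h : (LinearMap.ker l).map (N.comap π).subtype = LinearMap.ker π := by
    refine le_antisymm ?_ fun x hx => ?_
    · rintro _ ⟨y, hy, rfl⟩
      exact congrArg Subtype.val hy
    · exact ⟨⟨x, LinearMap.ker_le_comap π hx⟩, Subtype.ext hx, rfl⟩
  rw [h]
  exact hk

end Groth.Agent.Alg.Coherent
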