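import Mathlib.RingTheory.LocalRing.Module
import Mathlib.RingTheory.Support
import Mathlib.RingTheory.LocalProperties.Projective
import Mathlib.Algebra.Module.FinitePresentation
import Mathlib.LinearAlgebra.TensorProduct.Pi
import Mathlib.LinearAlgebra.Matrix.ToLinearEquiv
import Mathlib.LinearAlgebra.LinearIndependent.Lemmas
import Mathlib.RingTheory.Finiteness.Projective
import Mathlib.LinearAlgebra.Dual.Lemmas

/-! Projectivity of the cokernel of a map of finite projective modules via residue fields. -/

universe u v w

namespace Groth.Agent.Alg.CokerProj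

open TensorProduct

variable {R : Type u} [CommRing R] {M : Type v} {N : Type w} [AddCommGroup M] [Module R M]
  [AddCommGroup N] [Module R N]

/-- `a` splits the cokernel of `d`. -/
def Splits (d : M →ₗ[R] N) (a : R) : Prop :=
  ∃ P : N →ₗ[R] N, P ∘ₗ d = 0 ∧ (LinearMap.range d).mkQ ∘ₗ P = a • (LinearMap.range d).mkQ

theorem ker_le_of_splits [Module.Projective R N] (d : M →ₗ[R] N) {a : R} (h : Splits d a)
    (k : Type*) [Field k] [Algebra R k] (ha : algebraMap R k a ≠ 0) :
    LinearMap.ker (d.baseChange k) ≤ LinearMap.range ((LinearMap.ker d).subtype.baseChange k) := by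
  obtain ⟨P, hP, hPm⟩ := h
  let Q : N →ₗ[R] LinearMap.range d := LinearMap.codRestrict _ (a • LinearMap.id - P) fun x => by
    rw [← Submodule.Quotient.mk_eq_zero, ← Submodule.mkQ_apply, LinearMap.sub_apply, map_sub, LinearMap.smul_apply,
      LinearMap.id_apply, map_smul, ← LinearMap.comp_apply _ P, hPm, LinearMap.smul_apply, sub_self]
  obtain ⟨t, ht⟩ := Module.projective_lifting_property d.rangeRestrict Q d.surjective_rangeRestrict
  have hdt : ∀ x, d (t x) = a • x - P x := fun x => congrArg Subtype.val (DFunLike.congr_fun ht x)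
  let E : M →ₗ[R] LinearMap.ker d := LinearMap.codRestrict _ (a • LinearMap.id - t ∘ₗ d) fun x => by
    rw [LinearMap.mem_ker, LinearMap.sub_apply, map_sub, LinearMap.smul_apply, LinearMap.id_apply, map_smul,
      LinearMap.comp_apply, hdt, ← LinearMap.comp_apply P d, hP, LinearMap.zero_apply, sub_zero, sub_self]
  intro x hx
  refine ⟨(algebraMap R k a)⁻¹ • E.baseChange k x, ?_⟩
  rw [map_smul, ← LinearMap.comp_apply _ (E.baseChange k), ← LinearMap.baseChange_comp,
    show (LinearMap.ker d).subtype ∘ₗ E = a • LinearMap.id - t ∘ₗ d from rfl, LinearMap.baseChange_sub,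
    LinearMap.sub_apply, LinearMap.baseChange_comp, LinearMap.comp_apply, LinearMap.mem_ker.mp hx, map_zero, sub_zero,
    LinearMap.baseChange_smul, LinearMap.baseChange_id, LinearMap.smul_apply, LinearMap.id_apply,
    ← algebraMap_smul k a x, inv_smul_smul₀ ha]

theorem exists_splits [Module.Finite R M] [Module.Finite R N] [Module.Projective R N] (d : M →ₗ[R] N)
    (p : Ideal R) [p.IsPrime]
    (h : LinearMap.ker (d.baseChange p.ResidueField) ≤
      LinearMap.range ((LinearMap.ker d).subtype.baseChange p.ResidueField)) :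
    ∃ a, a ∉ p ∧ Splits d a := by
  classical
  set k := p.ResidueField with hk
  set D := d.baseChange k with hD
  let g : M → k ⊗[R] N := fun m => (1 : k) ⊗ₜ[R] d m
  obtain ⟨b, hb, hspan, hli⟩ := exists_linearIndependent k (Set.range g)
  haveI : Finite b := (LinearIndependent.setFinite hli).to_subtype
  haveI := Fintype.ofFinite b
  have hb' : ∀ i : b, ∃ m, g m = i := fun i => hb i.2
  choose m hm using hb'
  let u : (b → R) →ₗ[R] M := Fintype.linearCombination R m
  -- separation by functionals
  obtain ⟨n, π, ι, -, -, hπι⟩ := Module.Finite.exists_comp_eq_id_of_projective R N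
  let F : b → Fin n → k := fun i => TensorProduct.piScalarRight R k k (Fin n) (ι.baseChange k (i : k ⊗[R] N))
  have hF : LinearIndependent k F := by
    have h1 := hli.map' ((TensorProduct.piScalarRight R k k (Fin n)).toLinearMap ∘ₗ ι.baseChange k) (by
      refine LinearMap.ker_eq_bot.mpr ((TensorProduct.piScalarRight R k k (Fin n)).injective.comp
        (Function.LeftInverse.injective (g := π.baseChange k) fun x => ?_))
      rw [← LinearMap.comp_apply (π.baseChange k), ← LinearMap.baseChange_comp, hπι, LinearMap.baseChange_id,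
        LinearMap.id_apply])
    exact h1
  obtain ⟨c, hc⟩ : ∃ c : b → Fin n, IsUnit (Matrix.of fun i j => F j (c i)).det := by
    let cols : Fin n → (b → k) := fun s i => F i s
    have htop : Submodule.span k (Set.range cols) = ⊤ := by
      let Φ : (b → k) →ₗ[k] (Fin n → k) := Fintype.linearCombination k F
      by_contra hne
      obtain ⟨f, hf0, hf⟩ := Submodule.exists_dual_map_eq_bot_of_lt_top (lt_top_iff_ne_top.mpr hne) inferInstance
      refine hf0 (LinearMap.pi_ext' fun i => LinearMap.ext_ring ?_)
      refine Fintype.linearIndependent_iff.mp hF (fun i => f (Pi.single i 1)) (funext fun s => ?_) i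
      have h2 : f (cols s) = 0 := (Submodule.mem_bot k).mp (hf ▸ Submodule.mem_map_of_mem (Submodule.subset_span ⟨s, rfl⟩))
      rw [pi_eq_sum_univ (cols s), map_sum] at h2
      simp only [Finset.sum_apply, Pi.smul_apply, Pi.zero_apply, smul_eq_mul]
      rw [← h2]
      refine Finset.sum_congr rfl fun j _ => ?_
      rw [map_smul, smul_eq_mul, mul_comm]
      congr 1
      exact congrArg f (funext fun l => by simp [Pi.single_apply, eq_comm])
    obtain ⟨S, hS, hSspan, hSli⟩ := exists_linearIndependent k (Set.range cols)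
    rw [htop] at hSspan
    let B : Module.Basis S k (b → k) := Module.Basis.mk hSli (by rw [Subtype.range_coe, hSspan])
    haveI : Finite S := (LinearIndependent.setFinite hSli).to_subtype
    haveI := Fintype.ofFinite S
    have e : b ≃ S := (Pi.basisFun k b).indexEquiv B
    choose idx hidx using fun i : b => hS (e i).2
    refine ⟨idx, ?_⟩
    have hind : LinearIndependent k (fun i : b => fun j : b => F j (idx i)) := by
      have hSe := hSli.comp e e.injective
      rw [show (fun i : b => fun j : b => F j (idx i)) = Subtype.val ∘ e from funext hidx]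
      exact hSe
    exact ((Matrix.linearIndependent_rows_iff_isUnit (A := Matrix.of fun i j => F j (idx i))).mp hind).map Matrix.detMonoidHom
  let w : N →ₗ[R] (b → R) := LinearMap.pi fun i => LinearMap.proj (c i) ∘ₗ ι
  let W : Matrix b b R := LinearMap.toMatrix' (w ∘ₗ d ∘ₗ u)
  have hW : W.map (algebraMap R k) = Matrix.of fun i j => F j (c i) := Matrix.ext fun i j => by
    simp only [Matrix.map_apply, W, LinearMap.toMatrix'_apply, Matrix.of_apply, F]
    rw [← hm j]
    simp [g, w, u, Algebra.algebraMap_eq_smul_one]
  have hg0 : W.det ∉ p := fun hg => by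
    rw [← hW, ← RingHom.mapMatrix_apply, ← RingHom.map_det,
      (Ideal.algebraMap_residueField_eq_zero (I := p)).mpr hg] at hc
    exact not_isUnit_zero hc
  let S' : Submodule R M := LinearMap.range u ⊔ LinearMap.ker d
  have hsupp : (⟨p, inferInstance⟩ : PrimeSpectrum R) ∉ Module.support R (M ⧸ S') := by
    rw [Module.mem_support_iff_nontrivial_residueField_tensorProduct, not_nontrivial_iff_subsingleton]
    refine subsingleton_of_forall_eq 0 fun z => ?_
    obtain ⟨z, rfl⟩ := LinearMap.lTensor_surjective k S'.mkQ_surjective z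
    have hker : ∀ y, D y = 0 → S'.mkQ.baseChange k y = 0 := fun y hy => by
      obtain ⟨x, rfl⟩ := h (LinearMap.mem_ker.mpr hy)
      rw [← LinearMap.comp_apply (S'.mkQ.baseChange k), ← LinearMap.baseChange_comp,
        show S'.mkQ ∘ₗ (LinearMap.ker d).subtype = 0 from LinearMap.ext fun y =>
          (Submodule.Quotient.mk_eq_zero S').mpr (Submodule.mem_sup_right y.2),
        LinearMap.baseChange_zero, LinearMap.zero_apply]
    induction z using TensorProduct.induction_on with
    | zero => exact map_zero _
    | add a b ha hb => rw [map_add, ha, hb, add_zero]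
    | tmul c m₀ =>
      have hmem : g m₀ ∈ Submodule.span k (Set.range fun i : b => (i : k ⊗[R] N)) := by
        rw [Subtype.range_coe, hspan]; exact Submodule.subset_span ⟨m₀, rfl⟩
      obtain ⟨r, hr⟩ := (Submodule.mem_span_range_iff_exists_fun k).mp hmem
      have h0 : S'.mkQ.baseChange k (c • ((1 : k) ⊗ₜ[R] m₀ - ∑ i, r i • (1 : k) ⊗ₜ[R] m i)) = 0 := by
        rw [map_smul, hker _ ?_, smul_zero]
        simp only [D, map_sub, map_sum, map_smul, LinearMap.baseChange_tmul]
        rw [sub_eq_zero]
        exact hr.symm.trans (Finset.sum_congr rfl fun i _ => by rw [← hm i])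
      have hz : ∀ i, S'.mkQ (m i) = 0 := fun i => (Submodule.Quotient.mk_eq_zero S').mpr
        (Submodule.mem_sup_left ⟨Pi.single i 1, by simp [u]⟩)
      simp only [map_smul, map_sub, map_sum, LinearMap.baseChange_tmul, hz, tmul_zero, smul_zero,
        Finset.sum_const_zero, sub_zero, smul_tmul', smul_eq_mul, mul_one] at h0
      rw [← LinearMap.baseChange_eq_ltensor]
      exact h0
  rw [Module.mem_support_iff_of_finite] at hsupp
  obtain ⟨s, hs, hsp⟩ := SetLike.not_le_iff_exists.mp hsupp
  let g₀ := W.det
  let P₀ : N →ₗ[R] N := g₀ • LinearMap.id - (d ∘ₗ u) ∘ₗ Matrix.toLin' W.adjugate ∘ₗ w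
  refine ⟨s * g₀, fun hm => (Ideal.IsPrime.mem_or_mem ‹_› hm).elim hsp hg0, s • P₀, LinearMap.ext fun x => ?_, ?_⟩
  · have hsx : s • x ∈ S' := by
      rw [← Submodule.Quotient.mk_eq_zero, Submodule.Quotient.mk_smul]
      exact Module.mem_annihilator.mp hs _
    obtain ⟨_, ⟨r, rfl⟩, y, hy, hxy⟩ := Submodule.mem_sup.mp hsx
    rw [LinearMap.comp_apply, LinearMap.smul_apply, ← map_smul, ← map_smul, ← hxy, map_add, LinearMap.mem_ker.mp hy,
      add_zero, LinearMap.zero_apply]
    have h1 : W.adjugate.mulVec (w (d (u r))) = g₀ • r := by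
      rw [show w (d (u r)) = W.mulVec r from (LinearMap.toMatrix'_mulVec (w ∘ₗ d ∘ₗ u) r).symm,
        Matrix.mulVec_mulVec, Matrix.adjugate_mul, Matrix.smul_mulVec, Matrix.one_mulVec]
    simp only [P₀, LinearMap.sub_apply, LinearMap.smul_apply, LinearMap.id_apply, LinearMap.comp_apply,
      Matrix.toLin'_apply, h1, map_smul, sub_self]
  · refine LinearMap.ext fun x => ?_
    simp only [P₀, LinearMap.comp_apply, LinearMap.smul_apply, LinearMap.sub_apply, LinearMap.id_apply, map_smul,
      map_sub, Submodule.mkQ_apply, mul_smul]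
    rw [(Submodule.Quotient.mk_eq_zero _).mpr (LinearMap.mem_range_self _ _), sub_zero]

theorem projective_of_splits_one [Module.Projective R N] (d : M →ₗ[R] N) (h : Splits d 1) :
    Module.Projective R (N ⧸ LinearMap.range d) := by
  obtain ⟨P, hP, hPm⟩ := h
  refine Module.Projective.of_split
    (Submodule.liftQ _ P (LinearMap.range_le_ker_iff.mpr hP)) (LinearMap.range d).mkQ ?_
  exact Submodule.linearMap_qext _ (by rw [LinearMap.comp_assoc, Submodule.liftQ_mkQ, hPm, one_smul, LinearMap.id_comp])

theorem splits_one_of_projective (d : M →ₗ[R] N) [Module.Projective R (N ⧸ LinearMap.range d)] : Splits d 1 := by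
  obtain ⟨s, hs⟩ := Module.projective_lifting_property (LinearMap.range d).mkQ LinearMap.id
    (LinearMap.range d).mkQ_surjective
  refine ⟨s ∘ₗ (LinearMap.range d).mkQ, ?_, by rw [← LinearMap.comp_assoc, hs, one_smul, LinearMap.id_comp]⟩
  rw [LinearMap.comp_assoc, LinearMap.range_mkQ_comp, LinearMap.comp_zero]

theorem splits_one_of_forall (d : M →ₗ[R] N) (h : ∀ p : Ideal R, p.IsPrime → ∃ a, a ∉ p ∧ Splits d a) :
    Splits d 1 := by
  let I : Ideal R :=
    { carrier := {a | Splits d a}
      add_mem' := by
        rintro a b ⟨P, hP, hPm⟩ ⟨P', hP', hPm'⟩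
        exact ⟨P + P', by rw [LinearMap.add_comp, hP, hP', add_zero], by rw [LinearMap.comp_add, hPm, hPm', add_smul]⟩
      zero_mem' := ⟨0, by simp, by simp⟩
      smul_mem' := by
        rintro a b ⟨P, hP, hPm⟩
        exact ⟨a • P, by rw [LinearMap.smul_comp, hP, smul_zero], by rw [LinearMap.comp_smul, hPm, smul_eq_mul, mul_smul]⟩ }
  by_contra h1
  obtain ⟨p, hp, hle⟩ := Ideal.exists_le_maximal I ((Ideal.ne_top_iff_one I).mpr h1)
  obtain ⟨a, ha, hs⟩ := h p hp.isPrime
  exact ha (hle hs)

theorem exists_splits_of_projective_away [Module.Finite R M] [Module.Finite R N] [Module.Projective R N]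
    (d : M →ₗ[R] N) (f : R)
    (hproj : Module.Projective (Localization.Away f)
      (LocalizedModule (Submonoid.powers f) (N ⧸ LinearMap.range d))) :
    ∃ j : ℕ, Splits d (f ^ j) := by
  let S := Submonoid.powers f
  let q := (LinearMap.range d).mkQ
  haveI : Module.FinitePresentation R N := Module.finitePresentation_of_projective R N
  haveI : Module.FinitePresentation R (N ⧸ LinearMap.range d) :=
    Module.finitePresentation_of_surjective q (LinearMap.range d).mkQ_surjective (by
      rw [Submodule.ker_mkQ, ← Submodule.map_top d]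
      exact (Module.Finite.fg_top : (⊤ : Submodule R M).FG).map d)
  obtain ⟨σ, hσ⟩ := Module.projective_lifting_property (LocalizedModule.map S q) LinearMap.id
    (LocalizedModule.map_surjective S q (LinearMap.range d).mkQ_surjective)
  let φ := (σ.restrictScalars R) ∘ₗ LocalizedModule.mkLinearMap S (N ⧸ LinearMap.range d)
  obtain ⟨g, s, hg⟩ := Module.FinitePresentation.exists_lift_of_isLocalizedModule S (LocalizedModule.mkLinearMap S N) φ
  have h1 : ∀ x, LocalizedModule.mkLinearMap S (N ⧸ LinearMap.range d) (q (g x)) =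
      LocalizedModule.mkLinearMap S (N ⧸ LinearMap.range d) ((s : R) • x) := fun x => by
    have e : LocalizedModule.mkLinearMap S N (g x) = (s : R) • σ (LocalizedModule.mkLinearMap S _ x) :=
      DFunLike.congr_fun hg x
    have e2 := congrArg (LocalizedModule.map S q) e
    rw [LinearMap.map_smul_of_tower, show LocalizedModule.map S q (σ (LocalizedModule.mkLinearMap S _ x)) =
      LocalizedModule.mkLinearMap S _ x from DFunLike.congr_fun hσ _, ← map_smul] at e2
    rw [← e2]
    exact (LocalizedModule.map_mk S q (g x) 1).symm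
  obtain ⟨gen, hgen⟩ := (inferInstance : Module.Finite R (N ⧸ LinearMap.range d)).fg_top
  choose c hc using fun x => (IsLocalizedModule.eq_iff_exists S (LocalizedModule.mkLinearMap S _)).mp (h1 x)
  let C : S := ∏ x ∈ gen, c x
  obtain ⟨j, hj⟩ : ((C * s : S) : R) ∈ Submonoid.powers f := (C * s).2
  refine ⟨j, ((C : R) • g) ∘ₗ q, ?_, ?_⟩
  · rw [LinearMap.comp_assoc, LinearMap.range_mkQ_comp, LinearMap.comp_zero]
  · rw [← LinearMap.comp_assoc, show f ^ j = ((C * s : S) : R) from hj,
      show q ∘ₗ ((C : R) • g) = ((C * s : S) : R) • LinearMap.id from LinearMap.ext_on hgen fun x hx => by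
        obtain ⟨e, he⟩ : (c x : R) ∣ (C : R) := by
          simp only [C, Submonoid.coe_finsetProd]
          exact Finset.dvd_prod_of_mem (fun x => (c x : R)) hx
        have h2 : (c x : R) • q (g x) = (c x : R) • (s : R) • x := hc x
        simp only [LinearMap.comp_apply, LinearMap.smul_apply, LinearMap.id_apply, map_smul, Submonoid.coe_mul]
        rw [mul_smul, he, mul_comm, mul_smul, mul_smul, h2],
      LinearMap.smul_comp, LinearMap.id_comp]

theorem projective_away_of_splits [Module.Projective R N] (d : M →ₗ[R] N) {a : R} (h : Splits d a) :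
    Module.Projective (Localization.Away a) (LocalizedModule (Submonoid.powers a) (N ⧸ LinearMap.range d)) := by
  let S := Submonoid.powers a
  obtain ⟨P, hP, hPm⟩ := h
  let Pb := Submodule.liftQ _ P (LinearMap.range_le_ker_iff.mpr hP)
  haveI : Module.Projective (Localization.Away a) (LocalizedModule S N) :=
    Module.projective_of_isLocalizedModule S (LocalizedModule.mkLinearMap S N)
  let u : Localization.Away a := IsLocalization.mk' _ 1 (⟨a, Submonoid.mem_powers a⟩ : S)
  refine Module.Projective.of_split (u • LocalizedModule.map S Pb) (LocalizedModule.map S (LinearMap.range d).mkQ)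
    (LinearMap.ext fun x => ?_)
  induction x using LocalizedModule.induction_on with
  | h c s =>
    obtain ⟨y, rfl⟩ := (LinearMap.range d).mkQ_surjective c
    simp only [LinearMap.comp_apply, LinearMap.smul_apply, map_smul, LocalizedModule.map_mk, LinearMap.id_apply]
    rw [show (LinearMap.range d).mkQ (Pb ((LinearMap.range d).mkQ y)) = a • (LinearMap.range d).mkQ y from
      DFunLike.congr_fun hPm y]
    rw [show u = Localization.mk 1 (⟨a, Submonoid.mem_powers a⟩ : S) from (Localization.mk_eq_mk'_apply _ _).symm,
      LocalizedModule.mk_smul_mk, one_smul]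
    exact LocalizedModule.mk_cancel_common_left ⟨a, Submonoid.mem_powers a⟩ s _

end Groth.Agent.Alg.CokerProj
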