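import Groth.Agent.Alg.ColimSystem
import Mathlib.RingTheory.Smooth.NoetherianDescent
import Mathlib.RingTheory.Etale.Basic
import Mathlib.RingTheory.Unramified.Basic

/-!
Smoothness and etaleness of a finitely presented algebra descend along directed colimits.
-/

set_option autoImplicit false

noncomputable section

open scoped TensorProduct

namespace Groth.Agent.Alg.ColimEtale

universe u v

open Groth.Agent.Alg.ColimSystem

theorem comm_comm_apply {R A B : Type u} [CommRing R] [CommRing A] [CommRing B] [Algebra R A] [Algebra R B]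
    (z : A ⊗[R] B) : Algebra.TensorProduct.comm R B A (Algebra.TensorProduct.comm R A B z) = z := by
  induction z using TensorProduct.induction_on with
  | zero => simp
  | tmul a b => simp
  | add a b ha hb => simp [ha, hb]

theorem formallySmooth_of_retract {T E D : Type u} [CommRing T] [CommRing E] [CommRing D] [Algebra T E] [Algebra T D]
    [Algebra.FormallySmooth T E] (f : E →ₐ[T] D) (g : D →ₐ[T] E) (hfg : f.comp g = AlgHom.id T D) :
    Algebra.FormallySmooth T D := by
  refine Algebra.FormallySmooth.iff_comp_surjective.2 fun Q _ _ I hI φ => ?_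
  obtain ⟨l, hl⟩ := Algebra.FormallySmooth.comp_surjective T E I hI (φ.comp f)
  refine ⟨l.comp g, ?_⟩
  rw [← AlgHom.comp_assoc, hl, AlgHom.comp_assoc, hfg, AlgHom.comp_id]

section lifts

variable {R S : Type u} [CommRing R] [CommRing S] {T T' : Type u} [CommRing T] [CommRing T']
  [Algebra R T] [Algebra S T] [Algebra R T'] [Algebra S T'] {B C : Type u} [CommRing B] [CommRing C]
  [Algebra S B] [Algebra R C]

/-- extension of a map to the base change -/
def ext' (f : B →+* T ⊗[R] C) (hf : ∀ s, f (algebraMap S B s) = algebraMap S T s ⊗ₜ 1) :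
    T ⊗[S] B →ₐ[T] T ⊗[R] C :=
  Algebra.TensorProduct.lift (Algebra.ofId T _) { toRingHom := f, commutes' := hf } fun _ _ => Commute.all _ _

theorem ext'_tmul (f : B →+* T ⊗[R] C) (hf : ∀ s, f (algebraMap S B s) = algebraMap S T s ⊗ₜ 1) (t : T) (b : B) :
    ext' f hf (t ⊗ₜ b) = t ⊗ₜ 1 * f b := by
  exact Algebra.TensorProduct.lift_tmul _ _ _ _ _

theorem ext'_natural (f : B →+* T ⊗[R] C) (hf : ∀ s, f (algebraMap S B s) = algebraMap S T s ⊗ₜ 1)
    (f' : B →+* T' ⊗[R] C) (hf' : ∀ s, f' (algebraMap S B s) = algebraMap S T' s ⊗ₜ 1)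
    (τ : T →ₐ[R] T') (τ' : T →ₐ[S] T') (hτ : ∀ t, τ' t = τ t)
    (h : ∀ b, f' b = Algebra.TensorProduct.map τ (AlgHom.id R C) (f b)) (z : T ⊗[S] B) :
    ext' f' hf' (Algebra.TensorProduct.map τ' (AlgHom.id S B) z) =
      Algebra.TensorProduct.map τ (AlgHom.id R C) (ext' f hf z) := by
  induction z using TensorProduct.induction_on with
  | zero => simp
  | tmul t b => simp [ext'_tmul, h, hτ]
  | add x y hx hy => simp [hx, hy]

end lifts

variable {R A : Type u} [CommRing R] [CommRing A] [Algebra R A] {J : Type v} {N : J → Type u}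
  [∀ j, CommRing (N j)] [∀ j, Algebra R (N j)] {c : ∀ j, N j →ₐ[R] A}
  {H : ∀ ⦃i j : J⦄, (N i →ₐ[R] N j) → Prop}

/-- if the base change to the colimit descends to an algebra over a finitely generated subring, then at
some stage the algebra is a retract of the descended one -/
theorem exists_retract (hN : IsColim H c) {C : Type u} [CommRing C] [Algebra R C] [Algebra.FinitePresentation R C]
    (S : Subalgebra ℤ A) (hS : S.FG) (B : Type u) [CommRing B] [Algebra S B] [Algebra.FinitePresentation S B]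
    (e : A ⊗[R] C ≃ₐ[A] A ⊗[S] B) :
    ∃ (n : J) (_ : Algebra S (N n)) (U : N n ⊗[S] B →ₐ[N n] N n ⊗[R] C) (V : N n ⊗[R] C →ₐ[N n] N n ⊗[S] B),
      U.comp V = AlgHom.id (N n) _ := by
  classical
  haveI : Algebra.FiniteType ℤ S := (Subalgebra.fg_iff_finiteType S).1 hS
  haveI : Algebra.FinitePresentation ℤ S := Algebra.FinitePresentation.of_finiteType.mp inferInstance
  obtain ⟨i₀, -, -⟩ := hN.surj 0
  obtain ⟨n₀, ρ₀, s₀, -, -, hs₀⟩ := hN.exists_factor (R₀ := ℤ) (P := S) i₀ (Int.castRingHom _) S.val.toRingHom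
    (RingHom.ext_int _ _)
  obtain ⟨gS, hgS⟩ := hS
  have hmem : ∀ z ∈ gS, z ∈ S := fun z hz => hgS ▸ Algebra.subset_adjoin hz
  -- the system over `S`
  let J' := (j : J) × {s : S →+* N j // (c j).toRingHom.comp s = S.val.toRingHom}
  let N' : J' → Type u := fun p => N p.1
  letI : ∀ p : J', CommRing (N' p) := fun p => inferInstanceAs (CommRing (N p.1))
  letI : ∀ p : J', Algebra S (N' p) := fun p => (p.2.1).toAlgebra
  let c' : ∀ p : J', N' p →ₐ[S] A := fun p =>
    { toRingHom := (c p.1).toRingHom, commutes' := fun x => RingHom.congr_fun p.2.2 x }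
  let H' : ∀ ⦃p q : J'⦄, (N' p →ₐ[S] N' q) → Prop := fun p q ρ =>
    ∃ ρ' : N p.1 →ₐ[R] N q.1, H ρ' ∧ ∀ x, ρ x = ρ' x
  have hmk : ∀ (p : J') {k : J} (ρ : N p.1 →ₐ[R] N k) (_ : H ρ),
      (c k).toRingHom.comp (ρ.toRingHom.comp p.2.1) = S.val.toRingHom := fun p k ρ hρ => by
    rw [← RingHom.comp_assoc, show (c k).toRingHom.comp ρ.toRingHom = (c p.1).toRingHom from
      congrArg AlgHom.toRingHom (hN.comm ρ hρ), p.2.2]
  have hN' : IsColim H' c' := by
    refine ⟨fun p => ⟨AlgHom.id R _, hN.refl _, fun _ => rfl⟩, ?_, ?_, fun a => ?_, fun p q => ?_, fun p x hx => ?_⟩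
    · rintro p q r ρ σ ⟨ρ', hρ, hρe⟩ ⟨σ', hσ, hσe⟩
      exact ⟨σ'.comp ρ', hN.trans ρ' σ' hρ hσ, fun x => by simp only [AlgHom.comp_apply]; rw [hρe, hσe]⟩
    · rintro p q ρ ⟨ρ', hρ, hρe⟩
      refine AlgHom.ext fun x => ?_
      show c q.1 (ρ x) = c p.1 x
      rw [hρe]
      exact DFunLike.congr_fun (hN.comm ρ' hρ) x
    · obtain ⟨j, x, hx⟩ := hN.surj a
      obtain ⟨k, ρ, σ, hρ, hσ⟩ := hN.join n₀ j
      exact ⟨⟨k, ρ.toRingHom.comp s₀, hmk ⟨n₀, s₀, hs₀⟩ ρ hρ⟩, σ x,
        (DFunLike.congr_fun (hN.comm σ hσ) x).trans hx⟩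
    · obtain ⟨k, ρ, σ, hρ, hσ⟩ := hN.join p.1 q.1
      let diff : {z // z ∈ gS} → N k := fun z =>
        ρ (p.2.1 (⟨z.1, hmem z.1 z.2⟩ : S)) - σ (q.2.1 (⟨z.1, hmem z.1 z.2⟩ : S))
      have hex := hN.exists_kill k (gS.attach.image diff)
        fun w hw => by
          obtain ⟨z, -, rfl⟩ := Finset.mem_image.1 hw
          rw [map_sub, sub_eq_zero]
          exact (RingHom.congr_fun (hmk p ρ hρ) _).trans (RingHom.congr_fun (hmk q σ hσ) _).symm
      obtain ⟨m, τ, hτ, hτk⟩ := hex
      have heq : (τ.comp ρ).toRingHom.comp p.2.1 = (τ.comp σ).toRingHom.comp q.2.1 := by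
        refine RingHom.ext fun x => ?_
        obtain ⟨x, hx⟩ := x
        have hx' : x ∈ Algebra.adjoin ℤ (gS : Set A) := hgS.symm ▸ hx
        revert hx
        induction hx' using Algebra.adjoin_induction with
        | mem z hz =>
          intro _
          exact sub_eq_zero.1 ((map_sub τ _ _).symm.trans (hτk _ (Finset.mem_image.2 ⟨⟨z, hz⟩, Finset.mem_attach _ _, rfl⟩)))
        | algebraMap r =>
          intro hr
          rw [show (⟨algebraMap ℤ A r, hr⟩ : S) = (r : S) from Subtype.ext (by simp), map_intCast, map_intCast]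
        | add a b ha hb iha ihb =>
          intro hab
          rw [show (⟨a + b, hab⟩ : S) = ⟨a, hgS ▸ ha⟩ + ⟨b, hgS ▸ hb⟩ from rfl, map_add, map_add, iha, ihb]
        | mul a b ha hb iha ihb =>
          intro hab
          rw [show (⟨a * b, hab⟩ : S) = ⟨a, hgS ▸ ha⟩ * ⟨b, hgS ▸ hb⟩ from rfl, map_mul, map_mul, iha, ihb]
      let r : J' := ⟨m, (τ.comp ρ).toRingHom.comp p.2.1, hmk p _ (hN.trans ρ τ hρ hτ)⟩
      exact ⟨r, { toRingHom := (τ.comp ρ).toRingHom, commutes' := fun _ => rfl },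
        { toRingHom := (τ.comp σ).toRingHom, commutes' := fun x => (RingHom.congr_fun heq x).symm },
        ⟨τ.comp ρ, hN.trans ρ τ hρ hτ, fun _ => rfl⟩, ⟨τ.comp σ, hN.trans σ τ hσ hτ, fun _ => rfl⟩⟩
    · obtain ⟨k, ρ, hρ, hx0⟩ := hN.zero p.1 x hx
      exact ⟨⟨k, ρ.toRingHom.comp p.2.1, hmk p ρ hρ⟩, { toRingHom := ρ.toRingHom, commutes' := fun _ => rfl },
        ⟨ρ, hρ, fun _ => rfl⟩, hx0⟩
  -- the map from `C`
  let p₀ : J' := ⟨n₀, s₀, hs₀⟩
  let φC : C →+* B ⊗[S] A := (Algebra.TensorProduct.comm S A B).toAlgHom.toRingHom.comp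
    (e.toAlgHom.toRingHom.comp Algebra.TensorProduct.includeRight.toRingHom)
  let αC : R →+* B ⊗[S] N' p₀ :=
    (Algebra.TensorProduct.includeRight : N' p₀ →ₐ[S] B ⊗[S] N' p₀).toRingHom.comp (algebraMap R (N n₀))
  obtain ⟨p₁, _, ψC, ⟨ρ₁, ⟨ρ₁', hρ₁', hρ₁e⟩, rfl⟩, hψC, hψC'⟩ :=
    (hN'.tensor B).exists_factor (R₀ := R) (P := C) p₀ αC φC (by
      refine RingHom.ext fun r => ?_
      simp only [RingHom.comp_apply, φC, αC]
      have h1 : (1 : A) ⊗ₜ[R] algebraMap R C r = algebraMap A (A ⊗[R] C) (algebraMap R A r) := by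
        rw [Algebra.TensorProduct.algebraMap_apply, Algebra.algebraMap_self_apply, ← Algebra.TensorProduct.tmul_one_eq_one_tmul]
      simp only [AlgHom.toRingHom_eq_coe, RingHom.coe_coe, Algebra.TensorProduct.includeRight_apply]
      rw [h1]
      simp [c']
      rw [show (algebraMap R A r ⊗ₜ[R] (1 : C)) = algebraMap A (A ⊗[R] C) (algebraMap R A r) from rfl, e.commutes]
      simp only [Algebra.TensorProduct.algebraMap_apply, Algebra.algebraMap_self_apply, Algebra.TensorProduct.comm_tmul]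
      exact congrArg ((1 : B) ⊗ₜ ·) ((c n₀).commutes r).symm)
  -- the map from `B`
  let φB : B →+* C ⊗[R] A := (Algebra.TensorProduct.comm R A C).toAlgHom.toRingHom.comp
    (e.symm.toAlgHom.toRingHom.comp Algebra.TensorProduct.includeRight.toRingHom)
  let αB : S →+* C ⊗[R] N p₁.1 :=
    (Algebra.TensorProduct.includeRight : N p₁.1 →ₐ[R] C ⊗[R] N p₁.1).toRingHom.comp p₁.2.1
  obtain ⟨n₂, _, ψB, ⟨σ, hσ, rfl⟩, hψB, hψB'⟩ :=
    (hN.tensor C).exists_factor (R₀ := S) (P := B) p₁.1 αB φB (by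
      refine RingHom.ext fun r => ?_
      simp only [RingHom.comp_apply, φB, αB]
      have h1 : (1 : A) ⊗ₜ[S] algebraMap S B r = algebraMap A (A ⊗[S] B) (S.val r) := by
        rw [Algebra.TensorProduct.algebraMap_apply, ← Algebra.TensorProduct.tmul_one_eq_one_tmul]
        rfl
      simp only [AlgHom.toRingHom_eq_coe, RingHom.coe_coe, Algebra.TensorProduct.includeRight_apply]
      rw [h1]
      simp [show c p₁.1 (p₁.2.1 r) = S.val r from RingHom.congr_fun p₁.2.2 r]
      rw [show ((r : A) ⊗ₜ[S] (1 : B)) = algebraMap A (A ⊗[S] B) (r : A) from rfl, e.symm.commutes]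
      simp)
  let p₂ : J' := ⟨n₂, σ.toRingHom.comp p₁.2.1, hmk p₁ σ hσ⟩
  letI : Algebra S (N n₂) := (σ.toRingHom.comp p₁.2.1).toAlgebra
  let σS : N' p₁ →ₐ[S] N n₂ := { toRingHom := σ.toRingHom, commutes' := fun _ => rfl }
  let fC : C →+* N n₂ ⊗[S] B :=
    (Algebra.TensorProduct.comm S B (N n₂)).toAlgHom.toRingHom.comp
      ((Algebra.TensorProduct.map (AlgHom.id S B) σS).toRingHom.comp ψC)
  let fB : B →+* N n₂ ⊗[R] C := (Algebra.TensorProduct.comm R C (N n₂)).toAlgHom.toRingHom.comp ψB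
  have hfC : ∀ r, fC (algebraMap R C r) = algebraMap R (N n₂) r ⊗ₜ 1 := fun r => by
    have := RingHom.congr_fun hψC r
    simp only [RingHom.comp_apply] at this
    simp only [fC, RingHom.comp_apply, this, αC]
    simp [σS, hρ₁e]
    rw [show ρ₁' (algebraMap R (N n₀) r) = algebraMap R (N p₁.1) r from ρ₁'.commutes r, σ.commutes]
  have hfB : ∀ x, fB (algebraMap S B x) = algebraMap S (N n₂) x ⊗ₜ 1 := fun x => by
    have := RingHom.congr_fun hψB x
    simp only [RingHom.comp_apply] at this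
    simp only [fB, RingHom.comp_apply, this, αB]
    simp [RingHom.algebraMap_toAlgebra]
  -- at the colimit the two maps are mutually inverse
  let cS : N n₂ →ₐ[S] A := { toRingHom := (c n₂).toRingHom, commutes' := fun x => RingHom.congr_fun p₂.2.2 x }
  have hCinf : ∀ x, Algebra.TensorProduct.map cS (AlgHom.id S B) (fC x) = e (1 ⊗ₜ x) := by
    intro x
    have h1 : ∀ w : B ⊗[S] N' p₁, Algebra.TensorProduct.map cS (AlgHom.id S B)
        (Algebra.TensorProduct.comm S B (N n₂) (Algebra.TensorProduct.map (AlgHom.id S B) σS w)) =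
          Algebra.TensorProduct.comm S B A (Algebra.TensorProduct.map (AlgHom.id B B) (c' p₁) w) := by
      intro w
      induction w using TensorProduct.induction_on with
      | zero => simp
      | tmul b t => simp [cS, σS, c', show c n₂ (σ t) = c p₁.1 t from DFunLike.congr_fun (hN.comm σ hσ) t]
      | add a b ha hb => simp [ha, hb]
    have h2 := RingHom.congr_fun hψC' x
    simp only [RingHom.comp_apply, φC, AlgHom.toRingHom_eq_coe, RingHom.coe_coe] at h2
    simp only [fC, RingHom.comp_apply, AlgHom.toRingHom_eq_coe, RingHom.coe_coe, AlgEquiv.coe_toAlgHom]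
    rw [h1, h2]
    exact comm_comm_apply _
  have hBinf : ∀ b, Algebra.TensorProduct.map (c n₂) (AlgHom.id R C) (fB b) = e.symm (1 ⊗ₜ b) := by
    intro b
    have h1 : ∀ w : C ⊗[R] N n₂, Algebra.TensorProduct.map (c n₂) (AlgHom.id R C)
        (Algebra.TensorProduct.comm R C (N n₂) w) =
          Algebra.TensorProduct.comm R C A (Algebra.TensorProduct.map (AlgHom.id C C) (c n₂) w) := by
      intro w
      induction w using TensorProduct.induction_on with
      | zero => simp
      | tmul y t => simp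
      | add a b ha hb => simp [ha, hb]
    have h2 := RingHom.congr_fun hψB' b
    simp only [RingHom.comp_apply, φB, AlgHom.toRingHom_eq_coe, RingHom.coe_coe] at h2
    simp only [fB, RingHom.comp_apply, AlgHom.toRingHom_eq_coe, RingHom.coe_coe, AlgEquiv.coe_toAlgHom]
    rw [h1, h2]
    exact comm_comm_apply _
  let U₂ := ext' fB hfB
  let V₂ := ext' fC hfC
  have hUinf : ∀ z, Algebra.TensorProduct.map (c n₂) (AlgHom.id R C) (U₂ z) =
      e.symm (Algebra.TensorProduct.map cS (AlgHom.id S B) z) := by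
    intro z
    induction z using TensorProduct.induction_on with
    | zero => simp
    | tmul t b =>
      simp only [U₂, ext'_tmul, map_mul, Algebra.TensorProduct.map_tmul, map_one, hBinf, AlgHom.id_apply]
      rw [show (cS t ⊗ₜ[S] b : A ⊗[S] B) = algebraMap A (A ⊗[S] B) (cS t) * (1 ⊗ₜ b) by simp]
      rw [map_mul, AlgEquiv.commutes]
      simp [cS]
    | add x y hx hy => simp [hx, hy]
  obtain ⟨gC, hgC⟩ := Algebra.FiniteType.out (R := R) (A := C)
  obtain ⟨n₃, _, ⟨τ, hτ, rfl⟩, hkill⟩ := (hN.tensor C).exists_kill n₂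
    (gC.image fun g => Algebra.TensorProduct.comm R (N n₂) C (U₂ (V₂ (1 ⊗ₜ g)) - 1 ⊗ₜ g)) (by
      intro w hw
      obtain ⟨g, -, rfl⟩ := Finset.mem_image.1 hw
      have h1 : ∀ z : N n₂ ⊗[R] C, Algebra.TensorProduct.map (AlgHom.id C C) (c n₂)
          (Algebra.TensorProduct.comm R (N n₂) C z) =
            Algebra.TensorProduct.comm R A C (Algebra.TensorProduct.map (c n₂) (AlgHom.id R C) z) := by
        intro z
        induction z using TensorProduct.induction_on with
        | zero => simp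
        | tmul t y => simp
        | add a b ha hb => simp [ha, hb]
      rw [h1, map_sub, hUinf]
      simp [V₂, ext'_tmul, hCinf, ← Algebra.TensorProduct.one_def])
  letI : Algebra S (N n₃) := (τ.toRingHom.comp (σ.toRingHom.comp p₁.2.1)).toAlgebra
  let τS : N n₂ →ₐ[S] N n₃ := { toRingHom := τ.toRingHom, commutes' := fun _ => rfl }
  let gB : B →+* N n₃ ⊗[R] C := (Algebra.TensorProduct.map τ (AlgHom.id R C)).toRingHom.comp fB
  let gC' : C →+* N n₃ ⊗[S] B := (Algebra.TensorProduct.map τS (AlgHom.id S B)).toRingHom.comp fC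
  have hgB : ∀ x, gB (algebraMap S B x) = algebraMap S (N n₃) x ⊗ₜ 1 := fun x => by
    simp [gB, hfB, RingHom.algebraMap_toAlgebra]
  have hgC' : ∀ r, gC' (algebraMap R C r) = algebraMap R (N n₃) r ⊗ₜ 1 := fun r => by
    simp [gC', hfC, τS]
  refine ⟨n₃, inferInstance, ext' gB hgB, ext' gC' hgC', Algebra.TensorProduct.ext (AlgHom.ext fun t => ?_) ?_⟩
  · simp [ext'_tmul]
  · refine AlgHom.ext_of_adjoin_eq_top hgC fun g hg => ?_
    have h0 := hkill _ (Finset.mem_image.2 ⟨g, hg, rfl⟩)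
    have h1 : ∀ z : N n₂ ⊗[R] C, Algebra.TensorProduct.comm R C (N n₃) (Algebra.TensorProduct.map (AlgHom.id C C) τ
        (Algebra.TensorProduct.comm R (N n₂) C z)) = Algebra.TensorProduct.map τ (AlgHom.id R C) z := by
      intro z
      induction z using TensorProduct.induction_on with
      | zero => simp
      | tmul t y => simp
      | add a b ha hb => simp [ha, hb]
    have h2 := congrArg (Algebra.TensorProduct.comm R C (N n₃)) h0
    rw [h1, map_zero, map_sub, sub_eq_zero] at h2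
    simp only [AlgHom.comp_apply, AlgHom.restrictScalars_apply, Algebra.TensorProduct.includeRight_apply, AlgHom.coe_id, id_eq]
    rw [show ext' gC' hgC' (1 ⊗ₜ g) = Algebra.TensorProduct.map τS (AlgHom.id S B) (V₂ (1 ⊗ₜ g)) by
        simp [V₂, ext'_tmul, gC'],
      ext'_natural fB hfB gB hgB τ τS (fun _ => rfl) (fun _ => rfl), h2]
    simp

/-- smoothness descends to a stage -/
theorem exists_smooth (hN : IsColim H c) {C : Type u} [CommRing C] [Algebra R C] [Algebra.FinitePresentation R C]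
    [Algebra.Smooth A (A ⊗[R] C)] : ∃ n, Algebra.Smooth (N n) (N n ⊗[R] C) := by
  obtain ⟨S, B, _, _, hS, _, ⟨e⟩⟩ := Algebra.Smooth.exists_subalgebra_fg ℤ A (A ⊗[R] C)
  obtain ⟨n, _, U, V, h⟩ := exists_retract hN S hS B e
  exact ⟨n, ⟨formallySmooth_of_retract U V h, inferInstance⟩⟩

/-- etaleness descends to a stage -/
theorem exists_etale (hN : IsColim H c) {C : Type u} [CommRing C] [Algebra R C] [Algebra.FinitePresentation R C]
    [Algebra.Etale A (A ⊗[R] C)] : ∃ n, Algebra.Etale (N n) (N n ⊗[R] C) := by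
  obtain ⟨S, B, _, _, hS, _, ⟨e⟩⟩ := Algebra.Etale.exists_subalgebra_fg ℤ A (A ⊗[R] C)
  obtain ⟨n, _, U, V, h⟩ := exists_retract hN S hS B e
  haveI : Algebra.FormallyUnramified (N n) (N n ⊗[R] C) :=
    Algebra.FormallyUnramified.of_surjective U fun x => ⟨V x, DFunLike.congr_fun h x⟩
  haveI := formallySmooth_of_retract U V h
  exact ⟨n, ⟨Algebra.FormallyEtale.of_formallyUnramified_and_formallySmooth, inferInstance⟩⟩

end Groth.Agent.Alg.ColimEtale
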