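import Mathlib.RingTheory.FinitePresentation
import Mathlib.RingTheory.TensorProduct.Basic
import Mathlib.LinearAlgebra.TensorProduct.RightExactness
import Mathlib.LinearAlgebra.DirectSum.Finsupp

/-!
Directed colimits of algebras presented by a cocone which is jointly surjective and exact; they are
stable under base change and maps from finitely presented algebras factor through a stage.
Transition maps are any maps compatible with the cocone (no functoriality is assumed).
-/

set_option autoImplicit false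

noncomputable section

open scoped TensorProduct

namespace Groth.Agent.Alg.ColimSystem

universe u v

variable {R A : Type u} [CommRing R] [CommRing A] [Algebra R A] {J : Type v} {N : J → Type u}
  [∀ j, CommRing (N j)] [∀ j, Algebra R (N j)] {c : ∀ j, N j →ₐ[R] A} {H : ∀ ⦃i j : J⦄, (N i →ₐ[R] N j) → Prop}

/-- `A` is the directed colimit of the `N j` along the allowed maps `H`, with cocone `c` -/
structure IsColim (H : ∀ ⦃i j : J⦄, (N i →ₐ[R] N j) → Prop) (c : ∀ j, N j →ₐ[R] A) : Prop where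
  refl : ∀ i, H (AlgHom.id R (N i))
  trans : ∀ ⦃i j k⦄ (ρ : N i →ₐ[R] N j) (σ : N j →ₐ[R] N k), H ρ → H σ → H (σ.comp ρ)
  comm : ∀ ⦃i j⦄ (ρ : N i →ₐ[R] N j), H ρ → (c j).comp ρ = c i
  surj : ∀ a, ∃ j x, c j x = a
  join : ∀ i j, ∃ (k : J) (ρ : N i →ₐ[R] N k) (σ : N j →ₐ[R] N k), H ρ ∧ H σ
  zero : ∀ i x, c i x = 0 → ∃ (j : J) (ρ : N i →ₐ[R] N j), H ρ ∧ ρ x = 0

theorem IsColim.exists_lift (h : IsColim H c) (i : J) (s : Finset A) :
    ∃ (n : J) (ρ : N i →ₐ[R] N n), H ρ ∧ ∀ a ∈ s, ∃ x, c n x = a := by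
  classical
  induction s using Finset.induction_on with
  | empty => exact ⟨i, AlgHom.id R _, h.refl i, by simp⟩
  | insert a s _ ih =>
    obtain ⟨n, ρ, hρ, hs⟩ := ih
    obtain ⟨m, x, hx⟩ := h.surj a
    obtain ⟨k, σ, τ, hσ, hτ⟩ := h.join n m
    refine ⟨k, σ.comp ρ, h.trans _ _ hρ hσ, fun b hb => ?_⟩
    rcases Finset.mem_insert.1 hb with rfl | hb
    · exact ⟨τ x, by rw [← AlgHom.comp_apply, h.comm _ hτ, hx]⟩
    · obtain ⟨y, hy⟩ := hs b hb
      exact ⟨σ y, by rw [← AlgHom.comp_apply, h.comm _ hσ, hy]⟩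

theorem IsColim.exists_kill (h : IsColim H c) (i : J) (s : Finset (N i)) (hs : ∀ x ∈ s, c i x = 0) :
    ∃ (n : J) (ρ : N i →ₐ[R] N n), H ρ ∧ ∀ x ∈ s, ρ x = 0 := by
  classical
  induction s using Finset.induction_on with
  | empty => exact ⟨i, AlgHom.id R _, h.refl i, by simp⟩
  | insert a s _ ih =>
    obtain ⟨n, ρ, hρ, hρs⟩ := ih fun x hx => hs x (Finset.mem_insert_of_mem hx)
    obtain ⟨m, σ, hσ, hm⟩ := h.zero n (ρ a) (by
      rw [← AlgHom.comp_apply, h.comm _ hρ]; exact hs a (Finset.mem_insert_self a s))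
    refine ⟨m, σ.comp ρ, h.trans _ _ hρ hσ, fun x hx => ?_⟩
    rcases Finset.mem_insert.mp hx with rfl | hx
    · exact hm
    · rw [AlgHom.comp_apply, hρs x hx, map_zero]

/-- maps from finitely presented algebras factor through a stage -/
theorem IsColim.exists_factor (h : IsColim H c) {R₀ : Type*} {P : Type*} [CommRing R₀] [CommRing P] [Algebra R₀ P]
    [Algebra.FinitePresentation R₀ P] (i : J) (α : R₀ →+* N i) (φ : P →+* A)
    (hφ : φ.comp (algebraMap R₀ P) = (c i).toRingHom.comp α) :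
    ∃ (n : J) (ρ : N i →ₐ[R] N n) (ψ : P →+* N n), H ρ ∧
      ψ.comp (algebraMap R₀ P) = ρ.toRingHom.comp α ∧ (c n).toRingHom.comp ψ = φ := by
  classical
  obtain ⟨m, π, hπ, s, hs⟩ := (inferInstance : Algebra.FinitePresentation R₀ P).out
  obtain ⟨n, ρ, hρ, hx⟩ := h.exists_lift i (Finset.univ.image fun k : Fin m => φ (π (MvPolynomial.X k)))
  choose x hx using fun k : Fin m => hx _ (Finset.mem_image_of_mem _ (Finset.mem_univ k))
  let τ : MvPolynomial (Fin m) R₀ →+* N n := MvPolynomial.eval₂Hom (ρ.toRingHom.comp α) x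
  have hev : (c n).toRingHom.comp τ = φ.comp π.toRingHom := by
    refine MvPolynomial.ringHom_ext (fun r => ?_) fun k => ?_
    · simp only [τ, RingHom.comp_apply, MvPolynomial.eval₂Hom_C, AlgHom.toRingHom_eq_coe, RingHom.coe_coe]
      rw [← AlgHom.comp_apply, h.comm _ hρ]
      exact ((RingHom.congr_fun hφ r).symm.trans (congrArg φ (π.commutes r).symm))
    · simp [τ, hx]
  obtain ⟨p, σ, hσ, hσs⟩ := h.exists_kill n (s.image τ) fun y hy => by
    obtain ⟨q, hq, rfl⟩ := Finset.mem_image.mp hy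
    have hq0 : π q = 0 := show q ∈ RingHom.ker π.toRingHom from hs ▸ Ideal.subset_span hq
    exact (RingHom.congr_fun hev q).trans (by simp [hq0])
  have hle : RingHom.ker π.toRingHom ≤ RingHom.ker (σ.toRingHom.comp τ) := by
    rw [← hs]
    exact Ideal.span_le.mpr fun q hq => hσs _ (Finset.mem_image_of_mem _ hq)
  let ψ : P →+* N p := RingHom.liftOfSurjective π.toRingHom hπ ⟨σ.toRingHom.comp τ, hle⟩
  have hψ : ∀ q, ψ (π q) = σ (τ q) := fun q =>
    RingHom.liftOfRightInverse_comp_apply π.toRingHom _ (Function.rightInverse_surjInv hπ) ⟨σ.toRingHom.comp τ, hle⟩ q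
  refine ⟨p, σ.comp ρ, ψ, h.trans _ _ hρ hσ, RingHom.ext fun r => ?_, RingHom.ext fun y => ?_⟩
  · simp only [RingHom.comp_apply]
    rw [← π.commutes r, hψ]
    simp [τ]
  · obtain ⟨q, rfl⟩ := hπ y
    simp only [RingHom.comp_apply]
    rw [hψ]
    exact (DFunLike.congr_fun (h.comm _ hσ) _).trans (RingHom.congr_fun hev q)

theorem IsColim.exists_lift_tensor (h : IsColim H c) (K : Type u) [AddCommGroup K] [Module R K] (i : J)
    (y : K ⊗[R] A) : ∃ (n : J) (ρ : N i →ₐ[R] N n) (y' : K ⊗[R] N n),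
      H ρ ∧ (c n).toLinearMap.lTensor K y' = y := by
  induction y using TensorProduct.induction_on generalizing i with
  | zero => exact ⟨i, AlgHom.id R _, 0, h.refl i, map_zero _⟩
  | tmul k a =>
    obtain ⟨n, ρ, hρ, ha⟩ := h.exists_lift i {a}
    obtain ⟨x, hx⟩ := ha a (Finset.mem_singleton_self a)
    exact ⟨n, ρ, k ⊗ₜ x, hρ, by simp [hx]⟩
  | add y z hy hz =>
    obtain ⟨n, ρ, y', hρ, hy'⟩ := hy i
    obtain ⟨m, σ, z', hσ, hz'⟩ := hz n
    refine ⟨m, σ.comp ρ, σ.toLinearMap.lTensor K y' + z', h.trans _ _ hρ hσ, ?_⟩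
    rw [map_add, hz', ← LinearMap.comp_apply, ← LinearMap.lTensor_comp]
    rw [show (c m).toLinearMap ∘ₗ σ.toLinearMap = (c n).toLinearMap from congrArg AlgHom.toLinearMap (h.comm _ hσ), hy']

/-- the exactness half of the compatibility with tensor products -/
theorem IsColim.exists_kill_tensor (h : IsColim H c) (M : Type u) [AddCommGroup M] [Module R M] (i : J)
    (x : M ⊗[R] N i) (hx : (c i).toLinearMap.lTensor M x = 0) :
    ∃ (n : J) (ρ : N i →ₐ[R] N n), H ρ ∧ ρ.toLinearMap.lTensor M x = 0 := by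
  classical
  let p : (M →₀ R) →ₗ[R] M := Finsupp.linearCombination R id
  have hp : Function.Surjective p := Finsupp.linearCombination_id_surjective R M
  obtain ⟨x', rfl⟩ := LinearMap.rTensor_surjective (N i) hp x
  have hexact : Function.Exact (LinearMap.ker p).subtype p := LinearMap.exact_subtype_ker_map p
  have h0 : p.rTensor A ((c i).toLinearMap.lTensor (M →₀ R) x') = 0 := by
    rw [← LinearMap.comp_apply, LinearMap.rTensor_comp_lTensor, ← LinearMap.lTensor_comp_rTensor]
    exact hx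
  obtain ⟨y, hy⟩ := ((rTensor_exact (R := R) (M := LinearMap.ker p) (N := M →₀ R) (P := M) (f := (LinearMap.ker p).subtype) (g := p) A hexact hp) _).1 h0
  obtain ⟨n, ρ, y', hρ, hy'⟩ := h.exists_lift_tensor (LinearMap.ker p) i y
  have hcomp : (c n).toLinearMap ∘ₗ ρ.toLinearMap = (c i).toLinearMap := congrArg AlgHom.toLinearMap (h.comm _ hρ)
  let z := ρ.toLinearMap.lTensor (M →₀ R) x' - (LinearMap.ker p).subtype.rTensor (N n) y'
  have hz : (c n).toLinearMap.lTensor (M →₀ R) z = 0 := by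
    simp only [z, map_sub]
    rw [← LinearMap.comp_apply, ← LinearMap.lTensor_comp, hcomp, ← LinearMap.comp_apply ((c n).toLinearMap.lTensor _),
      LinearMap.lTensor_comp_rTensor, ← LinearMap.rTensor_comp_lTensor, LinearMap.comp_apply, hy', hy, sub_self]
  let e := TensorProduct.finsuppScalarLeft R (N n) M
  have hcoord : ∀ m, c n (e z m) = 0 := by
    intro m
    have : ∀ w : (M →₀ R) ⊗[R] N n,
        TensorProduct.finsuppScalarLeft R A M ((c n).toLinearMap.lTensor (M →₀ R) w) m = c n (e w m) := by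
      intro w
      induction w using TensorProduct.induction_on with
      | zero => simp
      | tmul f a => simp [e, TensorProduct.finsuppScalarLeft_apply_tmul_apply]
      | add a b ha hb => simp [ha, hb]
    rw [← this, hz, map_zero, Finsupp.zero_apply]
  obtain ⟨q, σ, hσ, hσs⟩ := h.exists_kill n ((e z).support.image (e z)) fun w hw => by
    obtain ⟨m, -, rfl⟩ := Finset.mem_image.mp hw
    exact hcoord m
  have hz' : σ.toLinearMap.lTensor (M →₀ R) z = 0 := by
    apply (TensorProduct.finsuppScalarLeft R (N q) M).injective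
    rw [map_zero]
    ext m
    have : ∀ w : (M →₀ R) ⊗[R] N n,
        TensorProduct.finsuppScalarLeft R (N q) M (σ.toLinearMap.lTensor (M →₀ R) w) m = σ (e w m) := by
      intro w
      induction w using TensorProduct.induction_on with
      | zero => simp
      | tmul f a => simp [e, TensorProduct.finsuppScalarLeft_apply_tmul_apply]
      | add a b ha hb => simp [ha, hb]
    rw [this, Finsupp.zero_apply]
    by_cases hm : m ∈ (e z).support
    · exact hσs _ (Finset.mem_image_of_mem _ hm)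
    · rw [Finsupp.notMem_support_iff.mp hm, map_zero]
  refine ⟨q, σ.comp ρ, h.trans _ _ hρ hσ, ?_⟩
  have key := congrArg (p.rTensor (N q)) hz'
  simp only [z, map_sub, map_zero, sub_eq_zero] at key
  rw [← LinearMap.comp_apply, LinearMap.lTensor_comp_rTensor, ← LinearMap.rTensor_comp_lTensor, LinearMap.comp_apply,
    AlgHom.comp_toLinearMap, LinearMap.lTensor_comp, LinearMap.comp_apply, key,
    ← LinearMap.comp_apply (σ.toLinearMap.lTensor _), LinearMap.lTensor_comp_rTensor, ← LinearMap.rTensor_comp_lTensor,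
    LinearMap.comp_apply, ← LinearMap.comp_apply (p.rTensor _), ← LinearMap.rTensor_comp, hexact.linearMap_comp_eq_zero,
    LinearMap.rTensor_zero, LinearMap.zero_apply]

/-- the maps of the base changed system -/
def baseHom (H : ∀ ⦃i j : J⦄, (N i →ₐ[R] N j) → Prop) (M : Type u) [CommRing M] [Algebra R M] :
    ∀ ⦃i j : J⦄, (M ⊗[R] N i →ₐ[M] M ⊗[R] N j) → Prop :=
  fun i j ρ' => ∃ ρ : N i →ₐ[R] N j, H ρ ∧ ρ' = Algebra.TensorProduct.map (AlgHom.id M M) ρ

/-- base change of a colimit -/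
theorem IsColim.tensor (h : IsColim H c) (M : Type u) [CommRing M] [Algebra R M] :
    IsColim (baseHom H M) (fun j => Algebra.TensorProduct.map (AlgHom.id M M) (c j)) := by
  have hlin : ∀ {B C : Type u} [CommRing B] [CommRing C] [Algebra R B] [Algebra R C] (f : B →ₐ[R] C) (x : M ⊗[R] B),
      Algebra.TensorProduct.map (AlgHom.id M M) f x = f.toLinearMap.lTensor M x := by
    intro B C _ _ _ _ f x
    induction x using TensorProduct.induction_on with
    | zero => simp
    | tmul m b => simp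
    | add a b ha hb => simp [ha, hb]
  refine ⟨fun i => ⟨AlgHom.id R _, h.refl i, Algebra.TensorProduct.map_id.symm⟩, ?_, ?_, fun a => ?_,
    fun i j => ?_, fun i x hx => ?_⟩
  · rintro i j k _ _ ⟨ρ, hρ, rfl⟩ ⟨σ, hσ, rfl⟩
    exact ⟨σ.comp ρ, h.trans ρ σ hρ hσ, by rw [← Algebra.TensorProduct.map_comp, AlgHom.id_comp]⟩
  · rintro i j _ ⟨ρ, hρ, rfl⟩
    rw [← Algebra.TensorProduct.map_comp, h.comm ρ hρ, AlgHom.id_comp]
  · obtain ⟨j, -, -⟩ := h.surj 0
    obtain ⟨n, -, y, -, hy⟩ := h.exists_lift_tensor M j a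
    exact ⟨n, y, by rw [hlin, hy]⟩
  · obtain ⟨k, ρ, σ, hρ, hσ⟩ := h.join i j
    exact ⟨k, Algebra.TensorProduct.map (AlgHom.id M M) ρ, Algebra.TensorProduct.map (AlgHom.id M M) σ,
      ⟨ρ, hρ, rfl⟩, ⟨σ, hσ, rfl⟩⟩
  · obtain ⟨n, ρ, hρ, hx'⟩ := h.exists_kill_tensor M i x (by rw [← hlin]; exact hx)
    exact ⟨n, Algebra.TensorProduct.map (AlgHom.id M M) ρ, ⟨ρ, hρ, rfl⟩, by rw [hlin, hx']⟩

end Groth.Agent.Alg.ColimSystem
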