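import Groth.Agent.HensPair.BranchMore
import Groth.Agent.Completion.NoetherianComplete
import Mathlib.RingTheory.Ideal.KrullsHeightTheorem
import Mathlib.RingTheory.RegularLocalRing.Defs
import Mathlib.RingTheory.DiscreteValuationRing.TFAE

/-! dimension, embedding dimension and DVR-ness of the completion of a Noetherian local ring -/

set_option autoImplicit false
universe u
open IsLocalRing

namespace Groth.Agent.Alg.CompletionDim

variable (A : Type u) [CommRing A] [IsLocalRing A] [IsNoetherianRing A]

theorem facts : ∃ _ : IsLocalRing (AdicCompletion (maximalIdeal A) A),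
    IsNoetherianRing (AdicCompletion (maximalIdeal A) A) ∧
    Module.FaithfullyFlat A (AdicCompletion (maximalIdeal A) A) ∧
    maximalIdeal (AdicCompletion (maximalIdeal A) A) =
      (maximalIdeal A).map (algebraMap A (AdicCompletion (maximalIdeal A) A)) := by
  obtain ⟨hl, -, -, hff, -⟩ := HensPair.BranchMore.completion_facts (A := A)
  have hfg : (maximalIdeal A).FG := IsNoetherian.noetherian _
  exact ⟨hl, Completion.NoetherianComplete.isNoetherianRing_adicCompletion _ hfg, hff,
    AdicCompletion.maximalIdeal_eq_map_of_fg hfg⟩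

theorem ringKrullDim_eq : ringKrullDim (AdicCompletion (maximalIdeal A) A) = ringKrullDim A := by
  obtain ⟨hl, hn, hff, hm⟩ := facts A
  let T := AdicCompletion (maximalIdeal A) A
  haveI : (maximalIdeal T).LiesOver (maximalIdeal A) :=
    ⟨by rw [Ideal.under_def, hm, Ideal.comap_map_eq_self_of_faithfullyFlat]⟩
  have hh := Ideal.height_eq_height_add_of_liesOver_of_hasGoingDown (maximalIdeal A) (maximalIdeal T)
  have h0 : ((maximalIdeal T).map (Ideal.Quotient.mk ((maximalIdeal A).map (algebraMap A T)))) = ⊥ := by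
    rw [Ideal.map_eq_bot_iff_le_ker, Ideal.mk_ker, hm]
  haveI : Nontrivial (T ⧸ (maximalIdeal A).map (algebraMap A T)) :=
    Ideal.Quotient.nontrivial_iff.2 (by rw [← hm]; exact (maximalIdeal.isMaximal T).ne_top)
  rw [h0, Ideal.height_bot, add_zero] at hh
  rw [← maximalIdeal_height_eq_ringKrullDim, ← maximalIdeal_height_eq_ringKrullDim, hh]

theorem spanFinrank_eq [IsLocalRing (AdicCompletion (maximalIdeal A) A)] :
    (maximalIdeal (AdicCompletion (maximalIdeal A) A)).spanFinrank = (maximalIdeal A).spanFinrank := by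
  classical
  obtain ⟨hl, hn, hff, hm⟩ := facts A
  obtain ⟨hl', -, -, -, hres⟩ := HensPair.BranchMore.completion_facts (A := A)
  have hfg : (maximalIdeal A).FG := IsNoetherian.noetherian _
  refine le_antisymm ?_ ?_
  · rw [hm]; exact Ideal.spanFinrank_map_le_of_fg _ hfg
  let T := AdicCompletion (maximalIdeal A) A
  obtain ⟨s, hcard, hs⟩ := Submodule.FG.exists_span_finset_card_eq_spanFinrank (IsNoetherian.noetherian (maximalIdeal T))
  have happ : ∀ y ∈ maximalIdeal T, ∃ x ∈ maximalIdeal A, y - algebraMap A T x ∈ maximalIdeal T * maximalIdeal T := by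
    intro y hy
    rw [hm] at hy
    refine Submodule.span_induction ?_ ⟨0, zero_mem _, by simp⟩ ?_ ?_ hy
    · rintro _ ⟨x, hx, rfl⟩
      exact ⟨x, hx, by rw [sub_self]; exact zero_mem _⟩
    · rintro y z - - ⟨a, ha, hya⟩ ⟨b, hb, hzb⟩
      exact ⟨a + b, add_mem ha hb, by rw [map_add, add_sub_add_comm]; exact add_mem hya hzb⟩
    · rintro t y - ⟨a, ha, hya⟩
      obtain ⟨c, hc⟩ := hres (residue T t)
      have hc' : t - algebraMap A T c ∈ maximalIdeal T := by
        rw [← residue_eq_zero_iff, map_sub, sub_eq_zero]; exact hc.symm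
      refine ⟨c * a, Ideal.mul_mem_left _ _ ha, ?_⟩
      have hat : algebraMap A T a ∈ maximalIdeal T := by rw [hm]; exact Ideal.mem_map_of_mem _ ha
      have e : t • y - algebraMap A T (c * a) =
          t * (y - algebraMap A T a) + (t - algebraMap A T c) * algebraMap A T a := by
        rw [smul_eq_mul, map_mul]; ring
      rw [e]
      exact add_mem (Ideal.mul_mem_left _ _ hya) (Ideal.mul_mem_mul hc' hat)
  have hsm : ∀ y ∈ s, y ∈ maximalIdeal T := fun y hy => by
    rw [← hs]; exact Submodule.subset_span (Finset.mem_coe.2 hy)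
  choose f hf hfy using fun (y : s) => happ y.1 (hsm y.1 y.2)
  let X : Ideal A := Ideal.span (Set.range f)
  have hle : maximalIdeal T ≤ X.map (algebraMap A T) := by
    refine Submodule.le_of_le_smul_of_le_jacobson_bot (IsNoetherian.noetherian _)
      (maximalIdeal_le_jacobson _) ?_
    conv_lhs => rw [← hs]
    rw [Submodule.span_le]
    intro y hy
    rw [smul_eq_mul, SetLike.mem_coe, ← sub_add_cancel y (algebraMap A T (f ⟨y, hy⟩)), add_comm]
    exact Submodule.add_mem_sup (Ideal.mem_map_of_mem _ (Ideal.subset_span ⟨⟨y, hy⟩, rfl⟩)) (hfy ⟨y, hy⟩)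
  have hXle : X ≤ maximalIdeal A := Ideal.span_le.2 (by rintro _ ⟨y, rfl⟩; exact hf y)
  have hX : X = maximalIdeal A := le_antisymm hXle (by
    rw [← Ideal.comap_map_eq_self_of_faithfullyFlat (B := T) X]
    refine Ideal.map_le_iff_le_comap.1 ?_
    rw [← hm]
    exact hle)
  rw [← hcard, ← hX]
  calc X.spanFinrank ≤ (Set.range f).ncard := Submodule.spanFinrank_span_le_ncard_of_finite (Set.finite_range f)
    _ ≤ Fintype.card s := by
      rw [← Set.image_univ]
      exact (Set.ncard_image_le).trans (by simp [Set.ncard_univ])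
    _ = s.card := Fintype.card_coe s

theorem regular_iff : IsRegularLocalRing A ↔ IsRegularLocalRing (AdicCompletion (maximalIdeal A) A) := by
  obtain ⟨hl, hn, hff, hm⟩ := facts A
  rw [isRegularLocalRing_iff, isRegularLocalRing_iff, spanFinrank_eq, ringKrullDim_eq]

theorem dvr_of_spanFinrank (R : Type u) [CommRing R] [IsDomain R] [IsLocalRing R] [IsNoetherianRing R]
    (h : (maximalIdeal R).spanFinrank = 1) : IsDiscreteValuationRing R := by
  obtain ⟨hp, hne⟩ := (Submodule.spanFinrank_eq_one_iff _).1 h
  exact ((IsDiscreteValuationRing.TFAE R fun hf => hne (isField_iff_maximalIdeal_eq.1 hf)).out 0 4).2 hp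

theorem spanFinrank_of_dvr (R : Type u) [CommRing R] [IsDomain R] [h : IsDiscreteValuationRing R] :
    (maximalIdeal R).spanFinrank = 1 :=
  (Submodule.spanFinrank_eq_one_iff _).2 ⟨IsPrincipalIdealRing.principal _, h.not_a_field'⟩

theorem dvr_iff :
    (∃ _ : IsDomain A, IsDiscreteValuationRing A) ↔
      ∃ _ : IsDomain (AdicCompletion (maximalIdeal A) A),
        IsDiscreteValuationRing (AdicCompletion (maximalIdeal A) A) := by
  obtain ⟨hl, hn, hff, hm⟩ := facts A
  let T := AdicCompletion (maximalIdeal A) A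
  have hinj : Function.Injective (algebraMap A T) := FaithfulSMul.algebraMap_injective A T
  constructor
  · rintro ⟨hd, hdvr⟩
    obtain ⟨π, hπ⟩ := IsDiscreteValuationRing.exists_irreducible A
    have hπm := (IsDiscreteValuationRing.irreducible_iff_uniformizer π).1 hπ
    have hmT : maximalIdeal T = Ideal.span {algebraMap A T π} := by
      rw [hm]
      exact (congrArg (Ideal.map (algebraMap A T)) hπm).trans (by rw [Ideal.map_span, Set.image_singleton])
    have hform : ∀ t : T, t ≠ 0 → ∃ n : ℕ, ∃ u : T, IsUnit u ∧ t = u * algebraMap A T π ^ n := by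
      intro t ht
      have hex : ∃ n, t ∉ maximalIdeal T ^ n := by
        by_contra hc
        push Not at hc
        have hmem : t ∈ ⨅ n, maximalIdeal T ^ n := by simpa [Submodule.mem_iInf] using hc
        rw [Ideal.iInf_pow_eq_bot_of_isLocalRing _ (maximalIdeal.isMaximal T).ne_top] at hmem
        exact ht hmem
      classical
      obtain ⟨n, hn', hlt⟩ : ∃ n, t ∉ maximalIdeal T ^ (n + 1) ∧ t ∈ maximalIdeal T ^ n := by
        refine ⟨Nat.find hex - 1, ?_, ?_⟩
        · have h0 : Nat.find hex ≠ 0 := fun h => by simpa [h] using Nat.find_spec hex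
          rw [Nat.sub_add_cancel (Nat.one_le_iff_ne_zero.2 h0)]
          exact Nat.find_spec hex
        · rcases Nat.eq_zero_or_pos (Nat.find hex) with h | h
          · simp [h]
          · by_contra hc
            exact absurd (Nat.find_min' hex hc) (by omega)
      rw [hmT, Ideal.span_singleton_pow, Ideal.mem_span_singleton'] at hlt
      obtain ⟨u, hu⟩ := hlt
      refine ⟨n, u, ?_, hu.symm⟩
      by_contra hnu
      refine hn' ?_
      rw [← hu, pow_succ', hmT, Ideal.span_singleton_pow]
      exact Ideal.mul_mem_mul (hmT ▸ (mem_maximalIdeal u).2 hnu) (Ideal.mem_span_singleton_self _)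
    haveI : NoZeroDivisors T := ⟨fun {a b} hab => by
      by_contra hne
      push Not at hne
      obtain ⟨n, u, hu, rfl⟩ := hform a hne.1
      obtain ⟨m, v, hv, rfl⟩ := hform b hne.2
      rw [mul_mul_mul_comm, ← pow_add, (hu.mul hv).mul_right_eq_zero, ← map_pow] at hab
      exact pow_ne_zero (n + m) hπ.ne_zero (hinj (hab.trans (map_zero _).symm))⟩
    haveI : IsDomain T := NoZeroDivisors.to_isDomain T
    exact ⟨inferInstance, dvr_of_spanFinrank T (by rw [spanFinrank_eq]; exact spanFinrank_of_dvr A)⟩
  · rintro ⟨hd, hdvr⟩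
    haveI : IsDomain A := hinj.isDomain _
    exact ⟨inferInstance, dvr_of_spanFinrank A (by rw [← spanFinrank_eq]; exact spanFinrank_of_dvr T)⟩

end Groth.Agent.Alg.CompletionDim
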