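import Mathlib.RingTheory.AdicCompletion.Functoriality
import Mathlib.RingTheory.AdicCompletion.Exactness
import Mathlib.RingTheory.Filtration
import Mathlib.LinearAlgebra.Finsupp.LSum

/-! Exactness of adic completion under an Artin-Rees hypothesis (no finiteness of modules),
and the Artin-Rees property for coordinatewise maps of free modules. -/

set_option autoImplicit false

universe u v w

namespace Groth.Agent.Alg.CompletionExact

open LinearMap

variable {R : Type u} [CommRing R] (I : Ideal R)

/-- The Artin-Rees property of a linear map with respect to `I`. -/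
def HasAR {M N : Type*} [AddCommGroup M] [Module R M] [AddCommGroup N] [Module R N]
    (f : M →ₗ[R] N) : Prop :=
  ∃ k, ∀ n, ∀ y : N, y ∈ (I ^ (n + k) • ⊤ : Submodule R N) → y ∈ LinearMap.range f →
    ∃ x ∈ (I ^ n • ⊤ : Submodule R M), f x = y

lemma hasAR_of_finite [IsNoetherianRing R] {M N : Type u} [AddCommGroup M] [Module R M]
    [AddCommGroup N] [Module R N] [Module.Finite R N] (f : M →ₗ[R] N) : HasAR I f := by
  obtain ⟨k, hk⟩ := Ideal.exists_pow_inf_eq_pow_smul I (LinearMap.range f)
  refine ⟨k, fun n y hy hy' => ?_⟩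
  have h := (hk (n + k) (Nat.le_add_left k n)).le ⟨hy, hy'⟩
  rw [Nat.add_sub_cancel] at h
  have h2 : y ∈ I ^ n • LinearMap.range f := Submodule.smul_mono le_rfl inf_le_right h
  rw [← Submodule.map_top, ← Submodule.map_smul''] at h2
  exact Submodule.mem_map.mp h2

lemma hasAR_mapRange {M N : Type*} [AddCommGroup M] [Module R M] [AddCommGroup N] [Module R N]
    (α : Type*) {f : M →ₗ[R] N} (hf : HasAR I f) :
    HasAR I (Finsupp.mapRange.linearMap (α := α) f) := by
  classical
  obtain ⟨k, hk⟩ := hf
  refine ⟨k, fun n y hy hy' => ?_⟩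
  obtain ⟨z, rfl⟩ := hy'
  have ht : ∀ t, ∃ x ∈ (I ^ n • ⊤ : Submodule R M), f x = f (z t) := by
    intro t
    refine hk n _ ?_ ⟨z t, rfl⟩
    have := Submodule.mem_map_of_mem (f := Finsupp.lapply (R := R) (M := N) t) hy
    rw [Submodule.map_smul''] at this
    simpa using Submodule.smul_mono le_rfl (le_top (α := Submodule R N)) this
  choose x hx hfx using ht
  refine ⟨∑ t ∈ z.support, Finsupp.single t (x t), Submodule.sum_mem _ fun t _ => ?_, ?_⟩
  · have := Submodule.mem_map_of_mem (f := Finsupp.lsingle (R := R) (M := M) t) (hx t)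
    rw [Submodule.map_smul''] at this
    exact Submodule.smul_mono le_rfl le_top this
  · conv_rhs => rw [← Finsupp.sum_single z]
    simp only [Finsupp.sum, map_sum]
    refine Finset.sum_congr rfl fun t _ => ?_
    simp [hfx t]

variable {M : Type v} [AddCommGroup M] [Module R M] {N : Type w} [AddCommGroup N] [Module R N]

/-- Completion is exact at the middle of an exact sequence whose two maps satisfy Artin-Rees. -/
theorem map_exact_of_hasAR {P : Type*} [AddCommGroup P] [Module R P] {f : M →ₗ[R] N} {g : N →ₗ[R] P}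
    (hfg : Function.Exact f g) (hf : HasAR I f) (hg : HasAR I g) :
    Function.Exact (AdicCompletion.map I f) (AdicCompletion.map I g) := by
  refine LinearMap.exact_of_comp_eq_zero_of_ker_le_range ?_ (fun y ↦ ?_)
  · rw [AdicCompletion.map_comp, hfg.linearMap_comp_eq_zero, AdicCompletion.map_zero]
  apply AdicCompletion.induction_on I N y (fun a => ?_)
  intro hz
  obtain ⟨k, hk⟩ := hf
  obtain ⟨l, hl⟩ := hg
  have hb (n : ℕ) : g (a n) ∈ (I ^ n • ⊤ : Submodule R P) := by
    simpa using congrArg (fun x ↦ x.val n) hz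
  choose w hw hgw using fun n => hl n (g (a (n + l))) (hb (n + l)) ⟨_, rfl⟩
  have hle : ∀ {X : Type w} [AddCommGroup X] [Module R X] {m n : ℕ}, m ≤ n →
      (I ^ n • ⊤ : Submodule R X) ≤ (I ^ m • ⊤ : Submodule R X) :=
    fun h => Submodule.smul_mono_left (Ideal.pow_le_pow_right h)
  have ha : ∀ {m n : ℕ}, m ≤ n → a n - a m ∈ (I ^ m • ⊤ : Submodule R N) := fun h =>
    SModEq.sub_mem.mp (a.2 h).symm
  let u : ℕ → N := fun n => a (n + l) - w n
  have hu : ∀ n, u n ∈ LinearMap.range f := fun n => (hfg _).mp (by simp [u, hgw n])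
  have hud : ∀ n, u (n + 1) - u n ∈ (I ^ n • ⊤ : Submodule R N) := fun n => by
    have e : u (n + 1) - u n = (a (n + 1 + l) - a (n + l)) - w (n + 1) + w n := by
      simp only [u]; abel
    rw [e]
    exact add_mem (sub_mem (hle (Nat.le_add_right n l) (ha (by lia)))
      (hle (Nat.le_succ n) (hw (n + 1)))) (hw n)
  choose δ hδ hfδ using fun n => hk n (u (n + k + 1) - u (n + k)) (hud (n + k))
    (sub_mem (hu _) (hu _))
  obtain ⟨z0, hz0⟩ := hu k
  let z : ℕ → M := fun n => z0 + ∑ i ∈ Finset.range n, δ i
  have hfz : ∀ n, f (z n) = u (n + k) := fun n => by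
    induction n with
    | zero => simp [z, hz0]
    | succ n ih =>
      have : z (n + 1) = z n + δ n := by simp [z, Finset.sum_range_succ, add_assoc]
      rw [this, map_add, ih, hfδ, Nat.add_right_comm n 1 k]
      abel
  refine ⟨AdicCompletion.mk I M (AdicCompletion.AdicCauchySequence.mk I M z fun n => ?_),
    AdicCompletion.ext fun n => ?_⟩
  · refine SModEq.symm (SModEq.sub_mem.mpr ?_)
    simpa [z, Finset.sum_range_succ] using hδ n
  · suffices h : f (z n) - a n ∈ (I ^ n • ⊤ : Submodule R N) by
      simpa [Submodule.Quotient.eq] using h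
    rw [hfz]
    have e : u (n + k) - a n = (a (n + k + l) - a n) - w (n + k) := by simp only [u]; abel
    rw [e]
    exact sub_mem (ha (by lia)) (hle (Nat.le_add_right n k) (hw _))

lemma map_sum {ι : Type*} (s : Finset ι) (f : ι → M →ₗ[R] N) (x : AdicCompletion I M) :
    AdicCompletion.map I (∑ i ∈ s, f i) x = ∑ i ∈ s, AdicCompletion.map I (f i) x := by
  apply AdicCompletion.induction_on I M x (fun a => ?_)
  refine AdicCompletion.ext fun n => ?_
  simp [AdicCompletion.val_sum_apply, ← Submodule.mkQ_apply, _root_.map_sum]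

lemma map_smul_id (c : R) (x : AdicCompletion I M) :
    AdicCompletion.map I (c • LinearMap.id) x = c • x := by
  apply AdicCompletion.induction_on I M x (fun a => ?_)
  refine AdicCompletion.ext fun n => ?_
  simp [AdicCompletion.val_smul_apply]

lemma map_smul (c : R) (f : M →ₗ[R] N) (x : AdicCompletion I M) :
    AdicCompletion.map I (c • f) x = c • AdicCompletion.map I f x := by
  apply AdicCompletion.induction_on I M x (fun a => ?_)
  refine AdicCompletion.ext fun n => ?_
  simp [AdicCompletion.val_smul_apply]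

end Groth.Agent.Alg.CompletionExact
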