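import Groth.Agent.S6270
import Groth.Agent.ML.Pure
import Groth.Agent.Alg.CompletionExact
import Mathlib.RingTheory.AdicCompletion.Algebra
import Mathlib.LinearAlgebra.TensorProduct.Quotient
import Mathlib.Algebra.Module.Torsion.Basic
import Mathlib.RingTheory.Flat.Stability

/-! Completion of short exact sequences ending in a flat module with projective reduction. -/

set_option autoImplicit false

universe u

namespace Groth.Agent.Alg.CompletionSplit

open TensorProduct

variable {R : Type u} [CommRing R] (I : Ideal R)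

/-- The base change to `R/J` is projective if `I` is nilpotent mod `J`. -/
theorem projective_mod {M : Type u} [AddCommGroup M] [Module R M] [_root_.Module.Flat R M]
    [_root_.Module.Projective (R ⧸ I) (M ⧸ (I • ⊤ : Submodule R M))] (J : Ideal R) (n : ℕ) (hn : I ^ n ≤ J) :
    _root_.Module.Projective (R ⧸ J) ((R ⧸ J) ⊗[R] M) := by
  let I' : Ideal (R ⧸ J) := I.map (Ideal.Quotient.mk J)
  have hnil : IsNilpotent I' := ⟨n, by
    rw [← Ideal.map_pow, Submodule.zero_eq_bot, Ideal.map_eq_bot_iff_le_ker, Ideal.mk_ker]; exact hn⟩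
  refine Groth.Agent.S6270.result I' hnil _ ?_
  letI alg : Algebra (R ⧸ I) ((R ⧸ J) ⧸ I') :=
    (Ideal.quotientMap I' (Ideal.Quotient.mk J) Ideal.le_comap_map).toAlgebra
  haveI : IsScalarTower R (R ⧸ I) ((R ⧸ J) ⧸ I') := .of_algebraMap_eq fun x => rfl
  let e₁ : ((R ⧸ J) ⧸ I') ⊗[R ⧸ J] ((R ⧸ J) ⊗[R] M) ≃ₗ[(R ⧸ J) ⧸ I'] ((R ⧸ J) ⧸ I') ⊗[R] M :=
    TensorProduct.AlgebraTensorModule.cancelBaseChange R (R ⧸ J) ((R ⧸ J) ⧸ I') ((R ⧸ J) ⧸ I') M
  let e₂ : ((R ⧸ J) ⧸ I') ⊗[R ⧸ I] ((R ⧸ I) ⊗[R] M) ≃ₗ[(R ⧸ J) ⧸ I'] ((R ⧸ J) ⧸ I') ⊗[R] M :=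
    TensorProduct.AlgebraTensorModule.cancelBaseChange R (R ⧸ I) ((R ⧸ J) ⧸ I') ((R ⧸ J) ⧸ I') M
  haveI : _root_.Module.Projective (R ⧸ I) ((R ⧸ I) ⊗[R] M) :=
    _root_.Module.Projective.of_equiv
      ((TensorProduct.quotTensorEquivQuotSMul M I).extendScalarsOfSurjective
        Ideal.Quotient.mk_surjective).symm
  exact _root_.Module.Projective.of_equiv (e₂.trans e₁.symm)

variable {I}

theorem exists_lift {M : Type u} [AddCommGroup M] [Module R M] (J : Ideal R)
    [_root_.Module.Projective (R ⧸ J) ((R ⧸ J) ⊗[R] M)]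
    {X Y : Type u} [AddCommGroup X] [Module R X] [AddCommGroup Y] [Module R Y]
    (hX : ∀ a ∈ J, ∀ x : X, a • x = 0) (hY : ∀ a ∈ J, ∀ y : Y, a • y = 0)
    (q : X →ₗ[R] Y) (hq : Function.Surjective q) (φ : M →ₗ[R] Y) :
    ∃ ψ : M →ₗ[R] X, q ∘ₗ ψ = φ := by
  letI mX : Module (R ⧸ J) X := Module.IsTorsionBySet.module (I := J) (fun x a => hX (a : R) a.2 x)
  letI mY : Module (R ⧸ J) Y := Module.IsTorsionBySet.module (I := J) (fun y a => hY (a : R) a.2 y)
  haveI : IsScalarTower R (R ⧸ J) X := .of_algebraMap_smul fun r x => rfl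
  haveI : IsScalarTower R (R ⧸ J) Y := .of_algebraMap_smul fun r y => rfl
  obtain ⟨L, hL⟩ := Module.projective_lifting_property
    (q.extendScalarsOfSurjective (S := R ⧸ J) Ideal.Quotient.mk_surjective)
    (φ.liftBaseChange (R ⧸ J)) hq
  refine ⟨L.restrictScalars R ∘ₗ TensorProduct.mk R (R ⧸ J) M 1, LinearMap.ext fun m => ?_⟩
  have h := LinearMap.congr_fun hL ((1 : R ⧸ J) ⊗ₜ[R] m)
  simpa using h

variable (I)

theorem pow_smul_eq_zero {X : Type u} [AddCommGroup X] [Module R X] {n m : ℕ} (hnm : n ≤ m) (a : R)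
    (ha : a ∈ I ^ m) (x : X ⧸ (I ^ n • ⊤ : Submodule R X)) : a • x = 0 := by
  obtain ⟨x, rfl⟩ := Submodule.mkQ_surjective _ x
  rw [Submodule.mkQ_apply, ← Submodule.Quotient.mk_smul, Submodule.Quotient.mk_eq_zero]
  exact Submodule.smul_mem_smul (Ideal.pow_le_pow_right hnm ha) Submodule.mem_top

variable {K P M : Type u} [AddCommGroup K] [Module R K] [AddCommGroup P] [Module R P]
  [AddCommGroup M] [Module R M] (f : K →ₗ[R] P) (g : P →ₗ[R] M)

theorem hasAR_of_surjective (hg : Function.Surjective g) : CompletionExact.HasAR I g :=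
  ⟨0, fun n y hy _ => by
    rw [add_zero] at hy
    have h : (I ^ n • ⊤ : Submodule R M) = (I ^ n • ⊤ : Submodule R P).map g := by
      rw [Submodule.map_smul'', Submodule.map_top, LinearMap.range_eq_top.mpr hg]
    rw [h] at hy
    exact Submodule.mem_map.mp hy⟩

theorem comap_pow_smul (hf : Function.Injective f) (hfg : Function.Exact f g) (hg : Function.Surjective g)
    [_root_.Module.Flat R M] (J : Ideal R) (k : K) (hk : f k ∈ (J • ⊤ : Submodule R P)) :
    k ∈ (J • ⊤ : Submodule R K) := by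
  have hu := ML.Pure.universallyInjective_of_flat f g hf hfg hg (R ⧸ J)
  have h0 : k ⊗ₜ[R] (1 : R ⧸ J) = 0 := by
    apply hu
    rw [map_zero, LinearMap.rTensor_tmul]
    apply (TensorProduct.tensorQuotEquivQuotSMul P J).injective
    rw [map_zero, show (1 : R ⧸ J) = Ideal.Quotient.mk J 1 from rfl,
      TensorProduct.tensorQuotEquivQuotSMul_tmul_mk, one_smul, Submodule.Quotient.mk_eq_zero]
    exact hk
  have h1 := congrArg (TensorProduct.tensorQuotEquivQuotSMul K J) h0
  rwa [map_zero, show (1 : R ⧸ J) = Ideal.Quotient.mk J 1 from rfl,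
    TensorProduct.tensorQuotEquivQuotSMul_tmul_mk, one_smul, Submodule.Quotient.mk_eq_zero] at h1

theorem map_injective (hf : Function.Injective f) (hfg : Function.Exact f g) (hg : Function.Surjective g)
    [_root_.Module.Flat R M] : Function.Injective (AdicCompletion.map I f) := by
  rw [injective_iff_map_eq_zero]
  intro x
  apply AdicCompletion.induction_on I K x (fun a => ?_)
  intro hx
  refine AdicCompletion.mk_zero_of _ _ _ ⟨0, fun n _ => ⟨n, le_rfl, n, le_rfl, ?_⟩⟩
  refine comap_pow_smul f g hf hfg hg (I ^ n) _ ?_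
  simpa using congrArg (fun x => x.val n) hx

theorem map_exact (hf : Function.Injective f) (hfg : Function.Exact f g) (hg : Function.Surjective g)
    [_root_.Module.Flat R M] : Function.Exact (AdicCompletion.map I f) (AdicCompletion.map I g) := by
  refine CompletionExact.map_exact_of_hasAR I hfg ⟨0, fun n y hy hy' => ?_⟩ (hasAR_of_surjective I g hg)
  obtain ⟨k, rfl⟩ := hy'
  rw [add_zero] at hy
  exact ⟨k, comap_pow_smul f g hf hfg hg (I ^ n) k hy, rfl⟩

/-- Reduction of a linear map modulo `J`. -/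
def red {X Y : Type u} [AddCommGroup X] [Module R X] [AddCommGroup Y] [Module R Y] (J : Ideal R)
    (h : X →ₗ[R] Y) : X ⧸ (J • ⊤ : Submodule R X) →ₗ[R] Y ⧸ (J • ⊤ : Submodule R Y) :=
  Submodule.mapQ _ _ h (by
    rw [← Submodule.map_le_iff_le_comap, Submodule.map_smul'']
    exact Submodule.smul_mono le_rfl le_top)

@[simp] theorem red_mk {X Y : Type u} [AddCommGroup X] [Module R X] [AddCommGroup Y] [Module R Y]
    (J : Ideal R) (h : X →ₗ[R] Y) (x : X) :
    red J h (Submodule.Quotient.mk x) = Submodule.Quotient.mk (h x) :=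
  Submodule.mapQ_apply _ _ _ _

/-- Compatible sections mod powers of `I`. -/
theorem exists_sections (hfg : Function.Exact f g) (hg : Function.Surjective g) [_root_.Module.Flat R M]
    [_root_.Module.Projective (R ⧸ I) (M ⧸ (I • ⊤ : Submodule R M))] :
    ∃ σ : ∀ n, M →ₗ[R] P ⧸ (I ^ n • ⊤ : Submodule R P),
      (∀ n, red (I ^ n) g ∘ₗ σ n = (I ^ n • ⊤ : Submodule R M).mkQ) ∧
      ∀ n, AdicCompletion.transitionMap I P (Nat.le_add_right n 1) ∘ₗ σ (n + 1) = σ n := by
  classical
  have hstep : ∀ n (s : M →ₗ[R] P ⧸ (I ^ n • ⊤ : Submodule R P)),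
      red (I ^ n) g ∘ₗ s = (I ^ n • ⊤ : Submodule R M).mkQ →
      ∃ t : M →ₗ[R] P ⧸ (I ^ (n + 1) • ⊤ : Submodule R P),
        red (I ^ (n + 1)) g ∘ₗ t = (I ^ (n + 1) • ⊤ : Submodule R M).mkQ ∧
        AdicCompletion.transitionMap I P (Nat.le_add_right n 1) ∘ₗ t = s := by
    intro n s hs
    haveI := projective_mod I (M := M) (I ^ (n + 1)) (n + 1) le_rfl
    have hle : ∀ {X : Type u} [AddCommGroup X] [Module R X],
        (I ^ (n + 1) • ⊤ : Submodule R X) ≤ I ^ n • ⊤ :=
      fun {X} _ _ => Submodule.smul_mono_left (Ideal.pow_le_pow_right (Nat.le_add_right n 1))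
    have hsurj : Function.Surjective (red (I ^ (n + 1)) g) := by
      intro y
      obtain ⟨y, rfl⟩ := Submodule.mkQ_surjective _ y
      obtain ⟨x, rfl⟩ := hg y
      exact ⟨Submodule.Quotient.mk x, by simp⟩
    obtain ⟨τ, hτ⟩ := exists_lift (I ^ (n + 1)) (pow_smul_eq_zero I le_rfl) (pow_smul_eq_zero I le_rfl)
      _ hsurj (I ^ (n + 1) • ⊤ : Submodule R M).mkQ
    let T := AdicCompletion.transitionMap I P (Nat.le_add_right n 1)
    let d : M →ₗ[R] P ⧸ (I ^ n • ⊤ : Submodule R P) := T ∘ₗ τ - s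
    let fK : K ⧸ (I ^ (n + 1) • ⊤ : Submodule R K) →ₗ[R] P ⧸ (I ^ n • ⊤ : Submodule R P) :=
      T ∘ₗ red (I ^ (n + 1)) f
    have hd : ∀ m, d m ∈ LinearMap.range fK := by
      intro m
      obtain ⟨a, ha⟩ := Submodule.mkQ_surjective _ (τ m)
      obtain ⟨b, hb⟩ := Submodule.mkQ_surjective _ (s m)
      have hga : g a - m ∈ (I ^ n • ⊤ : Submodule R M) := by
        have := LinearMap.congr_fun hτ m
        rw [LinearMap.comp_apply, ← ha] at this
        exact hle (by simpa [Submodule.Quotient.eq] using this)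
      have hgb : g b - m ∈ (I ^ n • ⊤ : Submodule R M) := by
        have := LinearMap.congr_fun hs m
        rw [LinearMap.comp_apply, ← hb] at this
        simpa [Submodule.Quotient.eq] using this
      have hgab : g (a - b) ∈ (I ^ n • ⊤ : Submodule R P).map g := by
        rw [Submodule.map_smul'', Submodule.map_top, LinearMap.range_eq_top.mpr hg, map_sub]
        simpa using sub_mem hga hgb
      obtain ⟨i, hi, hgi⟩ := Submodule.mem_map.mp hgab
      obtain ⟨k, hk⟩ := (hfg (a - b - i)).mp (by rw [map_sub, hgi, sub_self])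
      refine ⟨Submodule.Quotient.mk k, ?_⟩
      show T (red (I ^ (n + 1)) f (Submodule.Quotient.mk k)) = T (τ m) - s m
      rw [red_mk, ← ha, ← hb, hk]
      show Submodule.Quotient.mk (a - b - i) = Submodule.Quotient.mk a - Submodule.Quotient.mk b
      rw [← Submodule.Quotient.mk_sub, Submodule.Quotient.eq]
      simpa using neg_mem hi
    obtain ⟨δ, hδ⟩ := exists_lift (I ^ (n + 1)) (pow_smul_eq_zero I le_rfl)
      (fun a ha y => Subtype.ext (pow_smul_eq_zero I (Nat.le_add_right n 1) a ha y.1))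
      fK.rangeRestrict fK.surjective_rangeRestrict (d.codRestrict (LinearMap.range fK) hd)
    refine ⟨τ - red (I ^ (n + 1)) f ∘ₗ δ, ?_, ?_⟩
    · rw [LinearMap.comp_sub, hτ, ← LinearMap.comp_assoc]
      have h0 : red (I ^ (n + 1)) g ∘ₗ red (I ^ (n + 1)) f = 0 := by
        refine Submodule.linearMap_qext _ (LinearMap.ext fun x => ?_)
        simp [hfg.apply_apply_eq_zero]
      rw [h0, LinearMap.zero_comp, sub_zero]
    · refine LinearMap.ext fun m => ?_
      have h1 : fK (δ m) = d m := congrArg Subtype.val (LinearMap.congr_fun hδ m)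
      show T (τ m - red (I ^ (n + 1)) f (δ m)) = s m
      rw [map_sub]
      show T (τ m) - fK (δ m) = s m
      rw [h1]
      show T (τ m) - (T (τ m) - s m) = s m
      rw [sub_sub_cancel]
  have h0 : red (I ^ 0) g ∘ₗ (0 : M →ₗ[R] P ⧸ (I ^ 0 • ⊤ : Submodule R P)) =
      (I ^ 0 • ⊤ : Submodule R M).mkQ := by
    refine LinearMap.ext fun m => ?_
    rw [LinearMap.comp_apply, LinearMap.zero_apply, map_zero, Submodule.mkQ_apply, eq_comm,
      Submodule.Quotient.mk_eq_zero]
    simp
  choose next hnext htr using hstep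
  let seq : ∀ n, {s : M →ₗ[R] P ⧸ (I ^ n • ⊤ : Submodule R P) //
      red (I ^ n) g ∘ₗ s = (I ^ n • ⊤ : Submodule R M).mkQ} := fun n =>
    Nat.rec (motive := fun n => {s : M →ₗ[R] P ⧸ (I ^ n • ⊤ : Submodule R P) //
      red (I ^ n) g ∘ₗ s = (I ^ n • ⊤ : Submodule R M).mkQ}) ⟨0, h0⟩
      (fun n s => ⟨next n s.1 s.2, hnext n s.1 s.2⟩) n
  exact ⟨fun n => (seq n).1, fun n => (seq n).2, fun n => htr n _ _⟩

/-- The completed surjection splits. -/
theorem exists_section (hfg : Function.Exact f g) (hg : Function.Surjective g) [_root_.Module.Flat R M]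
    [_root_.Module.Projective (R ⧸ I) (M ⧸ (I • ⊤ : Submodule R M))] :
    ∃ s : AdicCompletion I M →ₗ[AdicCompletion I R] AdicCompletion I P,
      AdicCompletion.map I g ∘ₗ s = LinearMap.id := by
  obtain ⟨σ, hσ, htr⟩ := exists_sections I f g hfg hg
  have hker : ∀ n, (I ^ n • ⊤ : Submodule R M) ≤ LinearMap.ker (σ n) := fun n => by
    rw [Submodule.smul_le]
    intro a ha x _
    rw [LinearMap.mem_ker, map_smul, pow_smul_eq_zero I le_rfl a ha]
  let σb : ∀ n, M ⧸ (I ^ n • ⊤ : Submodule R M) →ₗ[R] P ⧸ (I ^ n • ⊤ : Submodule R P) :=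
    fun n => (I ^ n • ⊤ : Submodule R M).liftQ (σ n) (hker n)
  have hσb : ∀ n m, σb n (Submodule.Quotient.mk m) = σ n m := fun n m => Submodule.liftQ_apply _ _ _
  have htr' : ∀ {m n : ℕ} (h : m ≤ n) (x : M),
      AdicCompletion.transitionMap I P h (σ n x) = σ m x := by
    intro m n h x
    induction n, h using Nat.le_induction with
    | base =>
      obtain ⟨y, hy⟩ := Submodule.mkQ_surjective _ (σ m x)
      rw [← hy]; rfl
    | succ n hn ih =>
      rw [← ih]
      conv_rhs => rw [← LinearMap.congr_fun (htr n) x]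
      obtain ⟨y, hy⟩ := Submodule.mkQ_surjective _ (σ (n + 1) x)
      rw [LinearMap.comp_apply, ← hy]
      rfl
  let sf : AdicCompletion I M → AdicCompletion I P := fun x => ⟨fun n => σb n (x.val n), fun {m n} h => by
    obtain ⟨y, hy⟩ := Submodule.mkQ_surjective _ (x.val n)
    have h2 : x.val m = Submodule.Quotient.mk y := by
      rw [← x.property h, ← hy]; rfl
    show AdicCompletion.transitionMap I P h (σb n (x.val n)) = σb m (x.val m)
    rw [← hy, h2, Submodule.mkQ_apply, hσb, hσb]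
    exact htr' h y⟩
  let s : AdicCompletion I M →ₗ[AdicCompletion I R] AdicCompletion I P :=
    { toFun := sf
      map_add' := fun x y => AdicCompletion.ext fun n => map_add (σb n) _ _
      map_smul' := fun r x => AdicCompletion.ext fun n => by
        show σb n (r.val n • x.val n) = r.val n • σb n (x.val n)
        obtain ⟨c, hc⟩ := Ideal.Quotient.mk_surjective (r.val n)
        rw [← hc]
        exact map_smul (σb n) c (x.val n) }
  refine ⟨s, LinearMap.ext fun x => AdicCompletion.ext fun n => ?_⟩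
  obtain ⟨y, hy⟩ := Submodule.mkQ_surjective _ (x.val n)
  obtain ⟨p, hp⟩ := Submodule.mkQ_surjective _ (σ n y)
  rw [LinearMap.comp_apply, AdicCompletion.map_val_apply, LinearMap.id_apply]
  show LinearMap.reduceModIdeal (I ^ n) g (σb n (x.val n)) = x.val n
  have h1 := LinearMap.congr_fun (hσ n) y
  rw [LinearMap.comp_apply, ← hp, Submodule.mkQ_apply, red_mk] at h1
  rw [← hy, Submodule.mkQ_apply, hσb, ← hp, Submodule.mkQ_apply, LinearMap.reduceModIdeal_apply]
  exact h1

end Groth.Agent.Alg.CompletionSplit
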