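import Mathlib.Algebra.Central.Defs
import Mathlib.Algebra.CharP.Lemmas
import Mathlib.Algebra.CharP.Algebra
import Mathlib.RingTheory.AdjoinRoot
import Mathlib.FieldTheory.Galois.Basic
import Mathlib.FieldTheory.Separable
import Mathlib.LinearAlgebra.FreeModule.Finite.Basic
import Mathlib.LinearAlgebra.Dimension.Constructions
import Mathlib.Tactic.NoncommRing
import Mathlib.Tactic.IntervalCases

/-! Central division algebras of prime degree in positive characteristic. -/

open Polynomial

universe u v

namespace Groth.Agent.Alg.DegreeP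

variable (K : Type u) [Field K] (p : ℕ) [hp : Fact p.Prime] {A : Type v} [DivisionRing A]
  [Algebra K A] [Algebra.IsCentral K A] [FiniteDimensional K A]

/-- The field generated by an element of a finite-dimensional division algebra. -/
noncomputable def toAlg (a : A) : AdjoinRoot (minpoly K a) →ₐ[K] A :=
  Ideal.Quotient.liftₐ (Ideal.span {minpoly K a}) (aeval a) fun x hx => by
    obtain ⟨y, rfl⟩ := Ideal.mem_span_singleton.mp hx
    rw [map_mul, minpoly.aeval, zero_mul]

@[simp] theorem toAlg_root (a : A) : toAlg K a (AdjoinRoot.root (minpoly K a)) = a :=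
  aeval_X a

theorem natDegree_minpoly (hA : Module.finrank K A = p ^ 2) {a : A}
    (ha : a ∉ (algebraMap K A).range) : (minpoly K a).natDegree = p := by
  have hint : IsIntegral K a := IsIntegral.of_finite K a
  have : Fact (Irreducible (minpoly K a)) := ⟨minpoly.irreducible hint⟩
  let := Module.compHom A (toAlg K a).toRingHom
  have : IsScalarTower K (AdjoinRoot (minpoly K a)) A := ⟨fun r e x => by
    change toAlg K a (r • e) * x = r • (toAlg K a e * x)
    rw [map_smul, smul_mul_assoc]⟩
  have hE : Module.finrank K (AdjoinRoot (minpoly K a)) = (minpoly K a).natDegree :=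
    (AdjoinRoot.powerBasis (minpoly.ne_zero hint)).finrank.trans rfl
  have hmul := Module.finrank_mul_finrank K (AdjoinRoot (minpoly K a)) A
  rw [hE, hA] at hmul
  obtain ⟨i, hi, hid⟩ := (Nat.dvd_prime_pow hp.out).mp (Dvd.intro _ hmul)
  interval_cases i
  · refine absurd ?_ ha
    rw [pow_zero] at hid
    exact minpoly.natDegree_eq_one_iff.mp hid
  · rw [hid, pow_one]
  · exfalso
    have : Module.Finite K (AdjoinRoot (minpoly K a)) := (minpoly.monic hint).finite_adjoinRoot
    have hsurj : Function.Surjective (toAlg K a).toLinearMap :=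
      (LinearMap.injective_iff_surjective_of_finrank_eq_finrank (by rw [hE, hA, hid])).mp
        (toAlg K a).toRingHom.injective
    have hcomm : ∀ x : A, x ∈ Subalgebra.center K A := fun x => by
      rw [Subalgebra.mem_center_iff]
      intro y
      obtain ⟨x, rfl⟩ := hsurj x
      obtain ⟨y, rfl⟩ := hsurj y
      change toAlg K a _ * toAlg K a _ = toAlg K a _ * toAlg K a _
      rw [← map_mul, mul_comm, map_mul]
    have := hcomm a
    exact ha (Algebra.mem_bot.mp (Algebra.IsCentral.out this))

variable [CharP K p]

theorem pow_mem_of_not_isSeparable (hA : Module.finrank K A = p ^ 2) {v : A}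
    (hv : ¬ IsSeparable K v) :
    v ∉ (algebraMap K A).range ∧ v ^ p ∈ (algebraMap K A).range := by
  have hv' : v ∉ (algebraMap K A).range := by
    rintro ⟨c, rfl⟩
    exact hv (isSeparable_algebraMap c)
  refine ⟨hv', ?_⟩
  have hint : IsIntegral K v := IsIntegral.of_finite K v
  have hdeg := natDegree_minpoly K p hA hv'
  have hm := minpoly.monic hint
  have hder : derivative (minpoly K v) = 0 := by
    by_contra h
    exact hv ((separable_iff_derivative_ne_zero (minpoly.irreducible hint)).mpr h)
  have hcoeff : ∀ k, 0 < k → k < p → (minpoly K v).coeff k = 0 := fun k hk hkp => by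
    have h1 := congrArg (fun f => coeff f (k - 1)) hder
    simp only [coeff_derivative, coeff_zero, Nat.sub_add_cancel hk] at h1
    have hk' : (k : K) ≠ 0 := fun h => by
      rw [CharP.cast_eq_zero_iff K p] at h
      exact absurd (Nat.le_of_dvd hk h) (not_le.mpr hkp)
    rcases mul_eq_zero.mp h1 with h | h
    · exact h
    · rw [← Nat.cast_succ, Nat.succ_eq_add_one, Nat.sub_add_cancel hk] at h
      exact absurd h hk'
  have h0 := minpoly.aeval K v
  rw [aeval_eq_sum_range, hdeg, Finset.sum_range_succ,
    Finset.sum_eq_single 0 (fun b hb hb0 => by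
      rw [hcoeff b (Nat.pos_of_ne_zero hb0) (Finset.mem_range.mp hb), zero_smul])
      (fun h => absurd (Finset.mem_range.mpr hp.out.pos) h)] at h0
  have hlead : (minpoly K v).coeff p = 1 := by rw [← hdeg]; exact hm.coeff_natDegree
  rw [hlead, one_smul, pow_zero] at h0
  refine ⟨-(minpoly K v).coeff 0, ?_⟩
  rw [map_neg, eq_comm, ← add_eq_zero_iff_eq_neg, Algebra.algebraMap_eq_smul_one, add_comm]
  exact h0

/-- `[v, ·]` as a linear map. -/
def ad (v : A) : A →ₗ[K] A := LinearMap.mulLeft K v - LinearMap.mulRight K v

theorem ad_apply (v x : A) : ad K v x = v * x - x * v := rfl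

theorem ad_pow_char (v : A) : ad K v ^ p = ad K (v ^ p) := by
  have : CharP (Module.End K A) p :=
    charP_of_injective_algebraMap (algebraMap K (Module.End K A)).injective p
  have hc : Commute (LinearMap.mulLeft K v) (LinearMap.mulRight K v) :=
    LinearMap.commute_mulLeft_right v v
  rw [ad, sub_pow_char_of_commute (p := p) hc, LinearMap.pow_mulLeft, LinearMap.pow_mulRight]
  rfl

theorem exists_ad_eq_one {v : A} (hv : v ∉ (algebraMap K A).range)
    (hvp : v ^ p ∈ (algebraMap K A).range) : ∃ u : A, v * u - u * v = 1 := by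
  classical
  have h0 : ad K v ^ p = 0 := by
    rw [ad_pow_char K p]
    obtain ⟨c, hc⟩ := hvp
    ext x
    rw [ad_apply, ← hc, Algebra.commutes, sub_self]
    rfl
  have hne : ad K v ≠ 0 := fun h => by
    have : v ∈ Subalgebra.center K A := Subalgebra.mem_center_iff.mpr fun b =>
      (sub_eq_zero.mp (LinearMap.congr_fun h b)).symm
    exact hv (Algebra.mem_bot.mp (Algebra.IsCentral.out this))
  have hex : ∃ k, ad K v ^ k = 0 := ⟨p, h0⟩
  obtain ⟨n, hn⟩ : ∃ n, Nat.find hex = n + 2 := by
    have h1 := Nat.find_spec hex
    generalize Nat.find hex = k at h1 ⊢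
    rcases k with _ | _ | n
    · rw [pow_zero] at h1; exact absurd h1 one_ne_zero
    · rw [pow_one] at h1; exact absurd h1 hne
    · exact ⟨n, rfl⟩
  have h2 : ad K v ^ (n + 2) = 0 := hn ▸ Nat.find_spec hex
  have h1 : ad K v ^ (n + 1) ≠ 0 := Nat.find_min hex (by omega)
  obtain ⟨x, hx⟩ : ∃ x, (ad K v ^ (n + 1)) x ≠ 0 := by
    by_contra h; push Not at h; exact h1 (LinearMap.ext h)
  let y := (ad K v ^ n) x
  let w := ad K v y
  have hw : w ≠ 0 := by simpa [w, y, pow_succ'] using hx
  have hvw : v * w = w * v := sub_eq_zero.mp (by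
    have := LinearMap.congr_fun h2 x
    rw [pow_succ', pow_succ'] at this
    exact this)
  have hvw' : v * w⁻¹ = w⁻¹ * v := (Commute.inv_right₀ hvw : Commute v w⁻¹)
  refine ⟨y * w⁻¹, ?_⟩
  rw [mul_assoc y, ← hvw', ← mul_assoc, ← mul_assoc, ← sub_mul]
  exact mul_inv_cancel₀ hw

theorem mul_pow_sub (v u : A) (hvu : v * u - u * v = 1) (j : ℕ) :
    v * u ^ j - u ^ j * v = (j : A) * u ^ (j - 1) := by
  induction j with
  | zero => simp
  | succ j ih =>
    rw [Nat.add_sub_cancel, pow_succ,
      show v * (u ^ j * u) - u ^ j * u * v = (v * u ^ j - u ^ j * v) * u + u ^ j * (v * u - u * v) by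
        noncomm_ring, ih, hvu]
    rcases j with _ | j
    · simp
    · rw [Nat.add_sub_cancel, mul_assoc, ← pow_succ]; push_cast; noncomm_ring

theorem adjoin_eq_top (hA : Module.finrank K A = p ^ 2) {v u : A}
    (hv : v ∉ (algebraMap K A).range) (hvu : v * u - u * v = 1) :
    Algebra.adjoin K {v, u} = ⊤ := by
  classical
  have hint : IsIntegral K v := IsIntegral.of_finite K v
  have : Fact (Irreducible (minpoly K v)) := ⟨minpoly.irreducible hint⟩
  let := Module.compHom A (toAlg K v).toRingHom
  have : IsScalarTower K (AdjoinRoot (minpoly K v)) A := ⟨fun r e x => by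
    change toAlg K v (r • e) * x = r • (toAlg K v e * x)
    rw [map_smul, smul_mul_assoc]⟩
  have hcommv : ∀ e, v * toAlg K v e = toAlg K v e * v := fun e => by
    have h := congrArg (toAlg K v) (mul_comm (AdjoinRoot.root (minpoly K v)) e)
    rwa [map_mul, map_mul, toAlg_root] at h
  have key : ∀ n ≤ p, ∀ c : ℕ → AdjoinRoot (minpoly K v),
      ∑ j ∈ Finset.range n, toAlg K v (c j) * u ^ j = 0 → ∀ j < n, c j = 0 := by
    intro n
    induction n with
    | zero => intro _ _ _ j hj; omega
    | succ n ih =>
      intro hnp c hc j hj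
      have hd : ∑ j ∈ Finset.range n, toAlg K v (c (j + 1) * ((j + 1 : ℕ) : AdjoinRoot (minpoly K v))) * u ^ j = 0 := by
        have h1 : ∑ j ∈ Finset.range (n + 1), toAlg K v (c j) * (v * u ^ j - u ^ j * v) = 0 := by
          have : v * (∑ j ∈ Finset.range (n + 1), toAlg K v (c j) * u ^ j) -
              (∑ j ∈ Finset.range (n + 1), toAlg K v (c j) * u ^ j) * v = 0 := by rw [hc]; simp
          rw [Finset.mul_sum, Finset.sum_mul, ← Finset.sum_sub_distrib] at this
          refine Eq.trans (Finset.sum_congr rfl fun j _ => ?_) this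
          rw [mul_sub, ← mul_assoc, ← hcommv, mul_assoc, mul_assoc]
        simp only [mul_pow_sub v u hvu] at h1
        rw [Finset.sum_range_succ'] at h1
        simpa [map_mul, mul_assoc] using h1
      have h2 := ih (by omega) _ hd
      rcases j with _ | j
      · rw [Finset.sum_range_succ', Finset.sum_eq_zero fun i hi => ?_] at hc
        · simpa [zero_add, (toAlg K v).toRingHom.injective.eq_iff' (map_zero _)] using hc
        · have h3 := h2 i (Finset.mem_range.mp hi)
          have hne : ((i + 1 : ℕ) : AdjoinRoot (minpoly K v)) ≠ 0 := fun h => by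
            rw [← map_natCast (algebraMap K (AdjoinRoot (minpoly K v))), map_eq_zero,
              CharP.cast_eq_zero_iff K p] at h
            have := Nat.le_of_dvd (by omega) h
            have := Finset.mem_range.mp hi
            omega
          rw [(mul_eq_zero.mp h3).resolve_right hne, map_zero, zero_mul]
      · have h3 := h2 j (by omega)
        refine (mul_eq_zero.mp h3).resolve_right fun h => ?_
        rw [← map_natCast (algebraMap K (AdjoinRoot (minpoly K v))), map_eq_zero,
          CharP.cast_eq_zero_iff K p] at h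
        have := Nat.le_of_dvd (by omega) h
        omega
  have hfin : Module.finrank (AdjoinRoot (minpoly K v)) A = p := by
    have h1 := Module.finrank_mul_finrank K (AdjoinRoot (minpoly K v)) A
    rw [(AdjoinRoot.powerBasis (minpoly.ne_zero hint)).finrank.trans rfl,
      AdjoinRoot.powerBasis_dim, natDegree_minpoly K p hA hv, hA, pow_two] at h1
    exact Nat.eq_of_mul_eq_mul_left hp.out.pos h1
  have hli : LinearIndependent (AdjoinRoot (minpoly K v)) fun j : Fin p => u ^ (j : ℕ) := by
    rw [Fintype.linearIndependent_iff]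
    intro g hg j
    let c : ℕ → AdjoinRoot (minpoly K v) := fun i => if h : i < p then g ⟨i, h⟩ else 0
    have := key p le_rfl c (by
      rw [← Fin.sum_univ_eq_sum_range (fun i => toAlg K v (c i) * u ^ i)]
      simp only [c, Fin.is_lt, dite_true, Fin.eta]
      exact hg) j j.2
    simpa [c] using this
  have : Nonempty (Fin p) := ⟨⟨0, hp.out.pos⟩⟩
  have hspan := hli.span_eq_top_of_card_eq_finrank (by rw [Fintype.card_fin, hfin])
  have htoAlg : ∀ e, toAlg K v e ∈ Algebra.adjoin K {v, u} := fun e => by
    obtain ⟨q, rfl⟩ := AdjoinRoot.mk_surjective e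
    change aeval v q ∈ _
    exact Algebra.adjoin_mono (by simp) (aeval_mem_adjoin_singleton K v)
  rw [eq_top_iff]
  intro x _
  obtain ⟨g, rfl⟩ := (Submodule.mem_span_range_iff_exists_fun _).mp (hspan.ge (x := x) trivial)
  exact sum_mem fun j _ => mul_mem (htoAlg _) (pow_mem (Algebra.subset_adjoin (by simp)) _)

theorem pow_mem_of_ad_eq_one (hA : Module.finrank K A = p ^ 2) {v u : A}
    (hv : v ∉ (algebraMap K A).range) (hvu : v * u - u * v = 1) :
    u ^ p ∈ (algebraMap K A).range := by
  have hcv : v * u ^ p = u ^ p * v := by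
    have := mul_pow_sub v u hvu p
    rw [← map_natCast (algebraMap K A), CharP.cast_eq_zero K p, map_zero, zero_mul] at this
    exact sub_eq_zero.mp this
  have : u ^ p ∈ Subalgebra.center K A := Subalgebra.mem_center_iff.mpr fun b => by
    have hb : b ∈ Algebra.adjoin K {v, u} := by rw [adjoin_eq_top K p hA hv hvu]; trivial
    induction hb using Algebra.adjoin_induction with
    | mem x hx =>
      rcases hx with rfl | rfl
      · exact hcv
      · rw [← pow_succ', ← pow_succ]
    | algebraMap r => exact Algebra.commutes r _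
    | add a b _ _ ha hb => rw [add_mul, mul_add, ha, hb]
    | mul a b _ _ ha hb => rw [mul_assoc, hb, ← mul_assoc, ha, mul_assoc]
  exact Algebra.mem_bot.mp (Algebra.IsCentral.out this)

theorem exists_galois (hA : Module.finrank K A = p ^ 2) {v u : A}
    (hvu : v * u - u * v = 1) :
    ∃ (L : Type v) (_ : Field L) (_ : Algebra K L),
      IsGalois K L ∧ Module.finrank K L = p ∧ Nonempty (L →ₐ[K] A) := by
  classical
  have hv0 : v ≠ 0 := fun h => by simp [h] at hvu
  let w := v * u
  have hconj : v * w = (w + 1) * v := by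
    simp only [w]; rw [add_mul, one_mul]
    calc v * (v * u) = v * (u * v + (v * u - u * v)) := by rw [add_sub_cancel]
      _ = v * u * v + v := by rw [hvu]; noncomm_ring
  have hw : w ∉ (algebraMap K A).range := by
    rintro ⟨c, hc⟩
    rw [← hc, add_mul, one_mul, ← Algebra.commutes] at hconj
    exact hv0 (left_eq_add.mp hconj)
  have hint : IsIntegral K w := IsIntegral.of_finite K w
  have hdeg := natDegree_minpoly K p hA hw
  have : Fact (Irreducible (minpoly K w)) := ⟨minpoly.irreducible hint⟩
  have hconjn : ∀ (i : ℕ) (q : K[X]), v ^ i * aeval w q = aeval (w + (i : A)) q * v ^ i := by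
    have hone : ∀ (a : A), v * a = (a + 1) * v → ∀ q : K[X], v * aeval a q = aeval (a + 1) q * v := by
      intro a ha q
      induction q using Polynomial.induction_on with
      | C c => simp [Algebra.commutes]
      | add q r hq hr => simp [mul_add, add_mul, hq, hr]
      | monomial n c h =>
        simp only [pow_succ, ← mul_assoc, map_mul, aeval_X] at h ⊢
        rw [h, mul_assoc, ha, ← mul_assoc]
    intro i
    induction i with
    | zero => simp
    | succ i ih =>
      intro q
      have hai : v * (w + (i : A)) = (w + (i : A) + 1) * v := by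
        rw [mul_add, add_right_comm, add_mul, hconj, (Nat.cast_commute i v).eq]
      rw [pow_succ', mul_assoc, ih, ← mul_assoc, hone _ hai, Nat.cast_succ, add_assoc, mul_assoc]
  let E := AdjoinRoot (minpoly K w)
  let ψ : E →ₐ[K] A := toAlg K w
  have hψ : Function.Injective ψ := ψ.toRingHom.injective
  have hroot : ∀ i : ℕ, aeval (AdjoinRoot.root (minpoly K w) + (i : E)) (minpoly K w) = 0 := fun i => by
    refine hψ ?_
    rw [← aeval_algHom_apply, map_zero, map_add, map_natCast, toAlg_root]
    have h := hconjn i (minpoly K w)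
    rw [minpoly.aeval, mul_zero] at h
    exact (mul_eq_zero.mp h.symm).resolve_right (pow_ne_zero _ hv0)
  let f := (minpoly K w).map (algebraMap K E)
  have hf0 : f ≠ 0 := Polynomial.map_ne_zero (minpoly.ne_zero hint)
  have hfd : f.natDegree = p := by rw [natDegree_map, hdeg]
  let S : Finset E := (Finset.range p).image fun i : ℕ => AdjoinRoot.root (minpoly K w) + (i : E)
  have hScard : S.card = p := by
    rw [Finset.card_image_of_injOn, Finset.card_range]
    intro i hi j hj hij
    have hE : CharP E p := charP_of_injective_algebraMap (algebraMap K E).injective p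
    exact CharP.natCast_injOn_Iio E p (Finset.mem_range.mp hi) (Finset.mem_range.mp hj)
      (add_left_cancel hij)
  have hle : S.val ≤ f.roots := Multiset.le_iff_subset S.nodup |>.mpr fun x hx => by
    obtain ⟨i, -, rfl⟩ := Finset.mem_image.mp (show x ∈ S from hx)
    rw [mem_roots hf0, IsRoot, eval_map_algebraMap]; exact hroot i
  have hroots : f.roots = S.val := (Multiset.eq_of_le_of_card_le hle
    ((card_roots' f).trans (by rw [hfd, Finset.card_val, hScard]))).symm
  have hsplit : f.Splits :=
    splits_iff_card_roots.mpr (by rw [hroots, Finset.card_val, hScard, hfd])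
  have hsep : (minpoly K w).Separable := by
    rw [← separable_map (algebraMap K E)]
    exact (nodup_roots_iff_of_splits hf0 hsplit).mp (hroots ▸ S.nodup)
  have : IsSplittingField K E (minpoly K w) := by
    refine ⟨hsplit, eq_top_iff.mpr ?_⟩
    rw [← AdjoinRoot.adjoinRoot_eq_top (f := minpoly K w)]
    refine Algebra.adjoin_mono (Set.singleton_subset_iff.mpr ?_)
    rw [mem_rootSet_of_ne (minpoly.ne_zero hint)]
    simpa using hroot 0
  have hgal : IsGalois K E := IsGalois.of_separable_splitting_field hsep
  let e : E ≃ₐ[K] ψ.range := AlgEquiv.ofInjective ψ hψ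
  let : Field ψ.range := ((e.toMulEquiv.symm).isField (Field.toIsField E)).toField
  exact ⟨ψ.range, inferInstance, inferInstance, IsGalois.of_algEquiv e,
    e.toLinearEquiv.finrank_eq.symm.trans
      ((AdjoinRoot.powerBasis (minpoly.ne_zero hint)).finrank.trans hdeg), ⟨ψ.range.val⟩⟩

end Groth.Agent.Alg.DegreeP
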