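import Groth.Prelude.Def_Found
import Mathlib.Algebra.DirectSum.Module
import Mathlib.LinearAlgebra.Quotient.Basic
import Mathlib.LinearAlgebra.Finsupp.Span
import Mathlib.Order.SuccPred.Limit
import Mathlib.Order.CompactlyGenerated.Basic
import Mathlib.Data.Finset.Max

/-! Direct sum dévissages. -/

set_option autoImplicit false

universe u

namespace Groth.Agent.Alg.Devissage

variable {R : Type u} [CommRing R] {M : Type u} [AddCommGroup M] [Module R M]
  {S : Type u} [LinearOrder S] [WellFoundedLT S] (Mf : S → Submodule R M) (hmono : Monotone Mf)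
  (C : {p : S × S // p.1 ⋖ p.2} → Submodule R M)
  (hinf : ∀ p, Mf p.1.1 ⊓ C p = ⊥) (hsup : ∀ p, Mf p.1.1 ⊔ C p = Mf p.1.2)

theorem fst_injective {p q : {p : S × S // p.1 ⋖ p.2}} (h : p.1.1 = q.1.1) : p = q := by
  refine Subtype.ext (Prod.ext h ?_)
  have hq : p.1.1 ⋖ q.1.2 := h ▸ q.2
  exact le_antisymm (not_lt.mp fun hlt => p.2.2 hq.1 hlt) (not_lt.mp fun hlt => hq.2 p.2.1 hlt)

include hmono hsup in
theorem le_of_fst_lt {p q : {p : S × S // p.1 ⋖ p.2}} (h : p.1.1 < q.1.1) : C p ≤ Mf q.1.1 :=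
  (le_sup_right.trans (hsup p).le).trans (hmono (not_lt.mp fun hlt => p.2.2 h hlt))

include hmono hinf hsup in
theorem iSupIndep_C : iSupIndep C := by
  classical
  intro p
  rw [Submodule.disjoint_def]
  intro x hx hx'
  obtain ⟨F, hF⟩ := Submodule.exists_finset_of_mem_iSup _ hx'
  have key : ∀ (F : Finset {p : S × S // p.1 ⋖ p.2}) (x : M), x ∈ C p →
      x ∈ ⨆ q ∈ F, ⨆ (_ : q ≠ p), C q → x = 0 := by
    intro F
    induction F using Finset.induction_on_max_value (f := fun q : {p : S × S // p.1 ⋖ p.2} => q.1.1) with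
    | empty => intro x _ hx; simpa using hx
    | insert q F hqF hmax ih =>
      intro x hx hx'
      rw [Finset.iSup_insert] at hx'
      by_cases hqp : q = p
      · subst hqp
        exact ih x hx (by simpa using hx')
      obtain ⟨c, hc, r, hr, rfl⟩ := Submodule.mem_sup.mp hx'
      have hc' : c ∈ C q := by simpa [hqp] using hc
      rcases lt_trichotomy p.1.1 q.1.1 with hlt | heq | hlt
      · have hr' : r ∈ Mf q.1.1 := by
          refine (iSup₂_le fun j hj => iSup_le fun _ => ?_ : _ ≤ Mf q.1.1) hr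
          exact le_of_fst_lt Mf hmono C hsup
            (lt_of_le_of_ne (hmax j hj) fun h => hqF (fst_injective h ▸ hj))
        have h0 : c ∈ Mf q.1.1 ⊓ C q := by
          refine ⟨?_, hc'⟩
          have := sub_mem (le_of_fst_lt Mf hmono C hsup hlt hx) hr'
          simpa using this
        rw [hinf q, Submodule.mem_bot] at h0
        subst h0
        rw [zero_add] at hx ⊢
        exact ih r hx hr
      · exact absurd (fst_injective heq) (Ne.symm hqp)
      · have h0 : c + r ∈ Mf p.1.1 ⊓ C p := by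
          refine ⟨add_mem (le_of_fst_lt Mf hmono C hsup hlt hc') ?_, hx⟩
          refine (iSup₂_le fun j hj => iSup_le fun _ => ?_ : _ ≤ Mf p.1.1) hr
          exact le_of_fst_lt Mf hmono C hsup ((hmax j hj).trans_lt hlt)
        rwa [hinf p, Submodule.mem_bot] at h0
  exact key F x hx hF

include hmono hinf hsup in
theorem isInternal (hlim : ∀ s : S, Order.IsSuccPrelimit s → Mf s = ⨆ t : {t : S // t < s}, Mf t.1)
    (htop : (⨆ s, Mf s) = ⊤) [DecidableEq {p : S × S // p.1 ⋖ p.2}] : DirectSum.IsInternal C := by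
  rw [DirectSum.isInternal_submodule_iff_iSupIndep_and_iSup_eq_top]
  refine ⟨iSupIndep_C Mf hmono C hinf hsup, ?_⟩
  rw [eq_top_iff, ← htop]
  refine iSup_le fun s => ?_
  induction s using WellFoundedLT.induction with
  | ind s ih =>
    by_cases hs : Order.IsSuccPrelimit s
    · rw [hlim s hs]
      exact iSup_le fun t => ih t.1 t.2
    · simp only [Order.IsSuccPrelimit, not_forall, not_not] at hs
      obtain ⟨a, ha⟩ := hs
      rw [← hsup ⟨(a, s), ha⟩]
      exact sup_le (ih a ha.1) (le_iSup C ⟨(a, s), ha⟩)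

include hinf hsup in
/-- The complement is isomorphic to the graded piece. -/
theorem nonempty_quotEquiv (p : {p : S × S // p.1 ⋖ p.2}) :
    Nonempty (C p ≃ₗ[R] ↥(Mf p.1.2) ⧸ Submodule.comap (Mf p.1.2).subtype (Mf p.1.1)) := by
  let N := Submodule.comap (Mf p.1.2).subtype (Mf p.1.1)
  refine ⟨LinearEquiv.ofBijective (N.mkQ ∘ₗ Submodule.inclusion (le_sup_right.trans (hsup p).le))
    ⟨fun a b hab => ?_, fun x => ?_⟩⟩
  · rw [LinearMap.comp_apply, LinearMap.comp_apply, Submodule.mkQ_apply, Submodule.mkQ_apply,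
      Submodule.Quotient.eq] at hab
    have : (a : M) - b ∈ Mf p.1.1 ⊓ C p := ⟨hab, sub_mem a.2 b.2⟩
    rw [hinf p, Submodule.mem_bot, sub_eq_zero] at this
    exact Subtype.ext this
  · obtain ⟨⟨y, hy⟩, rfl⟩ := N.mkQ_surjective x
    obtain ⟨a, ha, c, hc, rfl⟩ := Submodule.mem_sup.mp ((hsup p).ge hy)
    refine ⟨⟨c, hc⟩, ?_⟩
    rw [LinearMap.comp_apply, Submodule.mkQ_apply, Submodule.mkQ_apply, Submodule.Quotient.eq]
    show (c - (a + c) : M) ∈ Mf p.1.1
    simpa using neg_mem ha

theorem countablyGenerated_of_equiv {A B : Type u} [AddCommGroup A] [Module R A] [AddCommGroup B]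
    [Module R B] (e : A ≃ₗ[R] B) (h : CAlg.IsCountablyGenerated R A) : CAlg.IsCountablyGenerated R B := by
  obtain ⟨t, ht, hspan⟩ := h
  refine ⟨e '' t, ht.image _, ?_⟩
  show Submodule.span R (e.toLinearMap '' t) = ⊤
  rw [← Submodule.map_span, hspan, Submodule.map_top, LinearEquiv.range]

end Groth.Agent.Alg.Devissage
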