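import Groth.Agent.Alg.MonicQuot
import Mathlib.Algebra.TrivSqZeroExt.Basic

/-! Quotients by Eisenstein-type polynomials over a local ring. -/

open IsLocalRing MvPolynomial

universe u

namespace Groth.Agent.Alg.Eisenstein

open MonicQuot

variable {A : Type u} [CommRing A] {r : ℕ} (d : Fin r → ℕ) (c : Fin r → ℕ → A)

/-- The polynomials. -/
noncomputable abbrev F : Fin r → MvPolynomial (Fin r) A := fun i =>
  X i ^ d i + (Finset.range (d i)).sum fun k => C (c i k) * X i ^ k

/-- The quotient. -/
abbrev R : Type u := MvPolynomial (Fin r) A ⧸ Ideal.span (Set.range (F d c))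

/-- The image of the variable. -/
noncomputable abbrev x (i : Fin r) : R d c := Ideal.Quotient.mk _ (X i)

theorem isIntegral_R : Algebra.IsIntegral A (R d c) := by
  refine ⟨fun z => ?_⟩
  obtain ⟨q, rfl⟩ := Ideal.Quotient.mk_surjective z
  induction q using MvPolynomial.induction_on with
  | C a => exact isIntegral_algebraMap
  | add p q hp hq => rw [map_add]; exact hp.add hq
  | mul_X p i hp =>
    rw [map_mul]
    refine hp.mul ⟨Polynomial.X ^ d i + ∑ k ∈ Finset.range (d i), Polynomial.C (c i k) * Polynomial.X ^ k, ?_, ?_⟩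
    · refine Polynomial.monic_X_pow_add ((Polynomial.degree_sum_le _ _).trans_lt
        ((Finset.sup_lt_iff (WithBot.bot_lt_coe _)).mpr fun k hk =>
          (Polynomial.degree_C_mul_X_pow_le k _).trans_lt (WithBot.coe_lt_coe.mpr (Finset.mem_range.mp hk))))
    · simp only [Polynomial.eval₂_add, Polynomial.eval₂_X_pow, Polynomial.eval₂_finsetSum,
        Polynomial.eval₂_mul, Polynomial.eval₂_C]
      have hA : ∀ a, algebraMap A (R d c) a = Ideal.Quotient.mk _ (C a) := fun a => rfl
      simp only [hA, ← map_pow, ← map_mul, ← map_sum, ← map_add, Ideal.Quotient.eq_zero_iff_mem]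
      exact Ideal.subset_span ⟨i, rfl⟩

theorem finite_R : Module.Finite A (R d c) :=
  haveI := isIntegral_R d c
  Algebra.IsIntegral.finite

variable {d c}

theorem eval_F (hd : ∀ i, 2 ≤ d i) {B : Type u} [CommRing B] (f : A →+* B) (y : Fin r → B)
    (hc0 : ∀ i, f (c i 0) = 0) (hy : ∀ i k, k ≠ 0 → f (c i k) * y i ^ k = 0) (hyd : ∀ i, y i ^ d i = 0)
    (i : Fin r) : MvPolynomial.eval₂Hom f y (F d c i) = 0 := by
  simp only [F, map_add, map_pow, map_sum, map_mul, eval₂Hom_X', eval₂Hom_C, hyd, zero_add]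
  refine Finset.sum_eq_zero fun k _ => ?_
  rcases eq_or_ne k 0 with rfl | hk
  · simp [hc0]
  · exact hy i k hk

variable [IsLocalRing A]

theorem exists_residue (hd : ∀ i, 2 ≤ d i) (hc : ∀ i k, c i k ∈ maximalIdeal A) :
    ∃ χ : R d c →+* ResidueField A, (∀ a, χ (algebraMap A _ a) = residue A a) ∧ ∀ i, χ (x d c i) = 0 := by
  refine ⟨Ideal.Quotient.lift _ (eval₂Hom (residue A) 0) (lift_zero _ _
    (eval_F (c := c) hd _ _ (fun i => (residue_eq_zero_iff _).mpr (hc i 0))
      (fun i k _ => by rw [(residue_eq_zero_iff _).mpr (hc i k), zero_mul])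
      fun i => zero_pow (by have := hd i; omega))), fun a => eval₂Hom_C _ _ a, fun i => eval₂Hom_X' _ _ i⟩

theorem nontrivial_R (hd : ∀ i, 2 ≤ d i) (hc : ∀ i k, c i k ∈ maximalIdeal A) : Nontrivial (R d c) :=
  let ⟨χ, _⟩ := exists_residue hd hc
  χ.domain_nontrivial

theorem x_mem (hc : ∀ i k, c i k ∈ maximalIdeal A) (M : Ideal (R d c)) [M.IsMaximal] (i : Fin r) :
    x d c i ∈ M := by
  have := isIntegral_R d c
  have hM : ∀ a ∈ maximalIdeal A, algebraMap A (R d c) a ∈ M := fun a ha =>
    map_le_maximal M (Ideal.mem_map_of_mem _ ha)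
  refine Ideal.IsPrime.mem_of_pow_mem inferInstance (d i) ?_
  have h : Ideal.Quotient.mk (Ideal.span (Set.range (F d c))) (F d c i) = 0 :=
    Ideal.Quotient.eq_zero_iff_mem.mpr (Ideal.subset_span ⟨i, rfl⟩)
  simp only [F, map_add, map_pow, map_sum, map_mul] at h
  rw [eq_neg_of_add_eq_zero_left h]
  exact M.neg_mem (M.sum_mem fun k _ => M.mul_mem_right _ (hM _ (hc i k)))

theorem le_maximal (hd : ∀ i, 2 ≤ d i) (hc : ∀ i k, c i k ∈ maximalIdeal A) (M : Ideal (R d c))
    [M.IsMaximal] (q : MvPolynomial (Fin r) A) :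
    Ideal.Quotient.mk _ q - algebraMap A (R d c) (constantCoeff q) ∈ M := by
  induction q using MvPolynomial.induction_on with
  | C a => rw [constantCoeff_C]; erw [sub_self]; exact M.zero_mem
  | add p q hp hq =>
    simp only [map_add]
    convert M.add_mem hp hq using 1
    ring
  | mul_X p i _ =>
    rw [map_mul, map_mul, constantCoeff_X, mul_zero, map_zero, sub_zero]
    exact M.mul_mem_left _ (x_mem hc M i)

theorem isLocalRing_R (hd : ∀ i, 2 ≤ d i) (hc : ∀ i k, c i k ∈ maximalIdeal A) : IsLocalRing (R d c) := by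
  have := nontrivial_R hd hc
  have := isIntegral_R d c
  refine isLocalRing_of_unique fun M N hM hN z hz => ?_
  obtain ⟨q, rfl⟩ := Ideal.Quotient.mk_surjective z
  have h1 : algebraMap A (R d c) (constantCoeff q) ∈ M := by
    have := M.sub_mem hz (le_maximal hd hc M q)
    rwa [sub_sub_cancel] at this
  have h2 : constantCoeff q ∈ maximalIdeal A := by
    by_contra h
    exact hM.ne_top (M.eq_top_of_isUnit_mem h1 ((IsLocalRing.notMem_maximalIdeal.mp h).map _))
  have h3 := N.add_mem (le_maximal hd hc N q) (map_le_maximal N (Ideal.mem_map_of_mem _ h2))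
  rwa [sub_add_cancel] at h3

theorem surjective_quotient (hd : ∀ i, 2 ≤ d i) (hc : ∀ i k, c i k ∈ maximalIdeal A) (M : Ideal (R d c))
    [M.IsMaximal] : Function.Surjective ((Ideal.Quotient.mk M).comp (algebraMap A (R d c))) := fun z => by
  obtain ⟨z, rfl⟩ := Ideal.Quotient.mk_surjective z
  obtain ⟨q, rfl⟩ := Ideal.Quotient.mk_surjective z
  exact ⟨constantCoeff q, (Ideal.Quotient.eq.mpr (le_maximal hd hc M q)).symm⟩

variable [IsLocalRing (R d c)]

theorem maximalIdeal_eq (hd : ∀ i, 2 ≤ d i) (hc : ∀ i k, c i k ∈ maximalIdeal A) :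
    maximalIdeal (R d c) = (maximalIdeal A).map (algebraMap A _) ⊔ Ideal.span (Set.range (x d c)) := by
  have := isIntegral_R d c
  refine le_antisymm (fun z hz => ?_) (sup_le (map_le_maximal _) (Ideal.span_le.mpr ?_))
  · obtain ⟨q, rfl⟩ := Ideal.Quotient.mk_surjective z
    have h1 : algebraMap A (R d c) (constantCoeff q) ∈ maximalIdeal (R d c) := by
      have := Ideal.sub_mem _ hz (le_maximal hd hc _ q)
      rwa [sub_sub_cancel] at this
    have h2 : constantCoeff q ∈ maximalIdeal A := by
      by_contra h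
      exact (maximalIdeal.isMaximal _).ne_top
        (Ideal.eq_top_of_isUnit_mem _ h1 ((IsLocalRing.notMem_maximalIdeal.mp h).map _))
    have h3 : ∀ q : MvPolynomial (Fin r) A, Ideal.Quotient.mk (Ideal.span (Set.range (F d c))) q -
        algebraMap A (R d c) (constantCoeff q) ∈ Ideal.span (Set.range (x d c)) := fun q => by
      induction q using MvPolynomial.induction_on with
      | C a => rw [constantCoeff_C]; erw [sub_self]; exact Ideal.zero_mem _
      | add p q hp hq =>
        simp only [map_add]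
        convert Ideal.add_mem _ hp hq using 1
        ring
      | mul_X p i _ =>
        rw [map_mul, map_mul, constantCoeff_X, mul_zero, map_zero, sub_zero]
        exact Ideal.mul_mem_left _ _ (Ideal.subset_span ⟨i, rfl⟩)
    rw [← sub_add_cancel (Ideal.Quotient.mk _ q) (algebraMap A (R d c) (constantCoeff q)), add_comm]
    exact Submodule.add_mem_sup (Ideal.mem_map_of_mem _ h2) (h3 q)
  · rintro _ ⟨i, rfl⟩; exact x_mem hc _ i

theorem comap_sq (hd : ∀ i, 2 ≤ d i) (hc : ∀ i k, c i k ∈ maximalIdeal A) :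
    (maximalIdeal (R d c) ^ 2).comap (algebraMap A (R d c)) =
      maximalIdeal A ^ 2 ⊔ Ideal.span (Set.range fun i => c i 0) := by
  have := isIntegral_R d c
  let M := maximalIdeal (R d c)
  let J := maximalIdeal A ^ 2 ⊔ Ideal.span (Set.range fun i => c i 0)
  have hA : ∀ a, algebraMap A (R d c) a = Ideal.Quotient.mk _ (C a) := fun a => rfl
  refine le_antisymm (fun a ha => ?_) ?_
  · let φ : R d c →+* A ⧸ J := Ideal.Quotient.lift _ (eval₂Hom (Ideal.Quotient.mk J) 0)
      (lift_zero _ _ (eval_F (c := c) hd _ _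
        (fun i => Ideal.Quotient.eq_zero_iff_mem.mpr (Ideal.mem_sup_right (Ideal.subset_span ⟨i, rfl⟩)))
        (fun i k hk => by simp [hk]) fun i => zero_pow (by have := hd i; omega)))
    have h1 : M.map φ ≤ (maximalIdeal A).map (Ideal.Quotient.mk J) := by
      change (maximalIdeal (R d c)).map φ ≤ _
      rw [maximalIdeal_eq hd hc, Ideal.map_sup, Ideal.map_map, sup_le_iff]
      refine ⟨le_of_eq (congrArg (Ideal.map · _) (RingHom.ext fun e => eval₂Hom_C _ _ e)), ?_⟩
      rw [Ideal.map_span, Ideal.span_le]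
      rintro _ ⟨_, ⟨i, rfl⟩, rfl⟩
      rw [SetLike.mem_coe, show φ (x d c i) = 0 from eval₂Hom_X' _ _ i]
      exact Ideal.zero_mem _
    have h2 : φ (algebraMap A (R d c) a) ∈ ((maximalIdeal A).map (Ideal.Quotient.mk J)) ^ 2 :=
      Ideal.pow_right_mono h1 2 (by rw [← Ideal.map_pow]; exact Ideal.mem_map_of_mem φ ha)
    rw [← Ideal.map_pow, (Ideal.map_eq_bot_iff_le_ker _).mpr (by rw [Ideal.mk_ker]; exact le_sup_left),
      Ideal.mem_bot, show φ (algebraMap A (R d c) a) = Ideal.Quotient.mk J a from eval₂Hom_C _ _ a] at h2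
    exact Ideal.Quotient.eq_zero_iff_mem.mp h2
  · refine sup_le ?_ (Ideal.span_le.mpr ?_)
    · rw [← Ideal.map_le_iff_le_comap, Ideal.map_pow]
      exact Ideal.pow_right_mono (map_le_maximal _) 2
    · rintro _ ⟨i, rfl⟩
      have h : Ideal.Quotient.mk (Ideal.span (Set.range (F d c))) (F d c i) = 0 :=
        Ideal.Quotient.eq_zero_iff_mem.mpr (Ideal.subset_span ⟨i, rfl⟩)
      have h0 : 0 ∈ Finset.range (d i) := Finset.mem_range.mpr (by have := hd i; omega)
      simp only [F, map_add, map_pow, map_sum, map_mul, ← Finset.add_sum_erase _ _ h0, pow_zero, mul_one] at h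
      change algebraMap A (R d c) (c i 0) ∈ M ^ 2
      have hx : x d c i ∈ M := x_mem hc _ i
      have hck : ∀ k, algebraMap A (R d c) (c i k) ∈ M := fun k =>
        map_le_maximal _ (Ideal.mem_map_of_mem _ (hc i k))
      have h5 : algebraMap A (R d c) (c i 0) = -(x d c i ^ d i +
          ∑ k ∈ (Finset.range (d i)).erase 0, algebraMap A (R d c) (c i k) * x d c i ^ k) := by
        rw [eq_neg_iff_add_eq_zero]
        simp only [hA, x]
        rw [← h]
        ring
      rw [h5]
      refine neg_mem (Ideal.add_mem _ (Ideal.pow_le_pow_right (hd i) (Ideal.pow_mem_pow hx _))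
        (Ideal.sum_mem _ fun k hk => ?_))
      rw [sq]
      exact Ideal.mul_mem_mul (hck k) (Ideal.pow_mem_of_mem _ hx k (Nat.pos_of_ne_zero (Finset.ne_of_mem_erase hk)))

theorem finrank_cotangent [IsNoetherianRing A] (hd : ∀ i, 2 ≤ d i) (hc : ∀ i k, c i k ∈ maximalIdeal A) :
    Module.finrank (ResidueField (R d c)) (CotangentSpace (R d c)) +
      Module.finrank (ResidueField A) (Submodule.span (ResidueField A)
        (Set.range fun i => (maximalIdeal A).toCotangent ⟨c i 0, hc i 0⟩)) =
      Module.finrank (ResidueField A) (CotangentSpace A) + r := by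
  classical
  let K := ResidueField A
  let M := maximalIdeal (R d c)
  let v : Fin r → CotangentSpace A := fun i => (maximalIdeal A).toCotangent ⟨c i 0, hc i 0⟩
  let W := Submodule.span K (Set.range v)
  have := finite_R d c
  have : IsNoetherianRing (R d c) := IsNoetherianRing.of_finite A _
  let b := Module.finBasis K (CotangentSpace A ⧸ W)
  choose w hw using fun j => Submodule.mkQ_surjective W (b j)
  choose y hy using fun j => Ideal.toCotangent_surjective (maximalIdeal A) (w j)
  rw [PthRoot.finrank_eq (A := R d c)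
    (fun t : Fin (Module.finrank K (CotangentSpace A ⧸ W)) ⊕ Fin r =>
      t.elim (fun j => algebraMap A (R d c) (y j : A)) (x d c)),
    Fintype.card_sum, Fintype.card_fin, Fintype.card_fin]
  · have := W.finrank_quotient_add_finrank
    change Module.finrank K (CotangentSpace A ⧸ W) + r + Module.finrank K W = Module.finrank K (CotangentSpace A) + r
    omega
  · rintro (j | i)
    · exact (maximalIdeal_eq hd hc).ge (Ideal.mem_sup_left (Ideal.mem_map_of_mem _ (y j).2))
    · exact x_mem hc _ i
  · refine (maximalIdeal_eq hd hc).le.trans (sup_le (Ideal.map_le_iff_le_comap.mpr fun a ha => ?_) ?_)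
    · choose l hl using fun j => residue_surjective (R := A)
        (b.repr (W.mkQ ((maximalIdeal A).toCotangent ⟨a, ha⟩)) j)
      have h1 : (maximalIdeal A).toCotangent ⟨a, ha⟩ - ∑ j, residue A (l j) • w j ∈ W := by
        rw [← Submodule.Quotient.mk_eq_zero, ← Submodule.mkQ_apply, map_sub, map_sum]
        simp only [map_smul, hw, hl, b.sum_repr, sub_self]
      obtain ⟨e, he⟩ := (Submodule.mem_span_range_iff_exists_fun K).mp h1
      choose e' he' using fun i => residue_surjective (R := A) (e i)
      have h2 : (maximalIdeal A).toCotangent ⟨a, ha⟩ = (maximalIdeal A).toCotangent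
          (∑ j, l j • y j + ∑ i, e' i • ⟨c i 0, hc i 0⟩) := by
        rw [map_add, map_sum, map_sum]
        simp only [map_smul, hy]
        rw [← sub_eq_iff_eq_add', show (∑ j, l j • w j) = ∑ j, residue A (l j) • w j from rfl, ← he]
        exact Finset.sum_congr rfl fun i _ => by rw [← he' i]; rfl
      rw [Ideal.toCotangent_eq] at h2
      simp only [Submodule.coe_add, AddSubmonoidClass.coe_finsetSum, SetLike.val_smul, smul_eq_mul] at h2
      rw [Ideal.mem_comap, show a = ∑ j, l j * (y j : A) + (∑ i, e' i * c i 0 +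
        (a - (∑ j, l j * (y j : A) + ∑ i, e' i * c i 0))) by ring, map_add]
      refine Submodule.add_mem_sup ?_ ?_
      · rw [map_sum]
        refine Ideal.sum_mem _ fun j _ => ?_
        rw [map_mul]
        exact Ideal.mul_mem_left _ _ (Ideal.subset_span ⟨Sum.inl j, rfl⟩)
      · rw [← Ideal.mem_comap, comap_sq hd hc]
        exact Ideal.add_mem _ (Ideal.mem_sup_right (Ideal.sum_mem _ fun i _ =>
          Ideal.mul_mem_left _ _ (Ideal.subset_span ⟨i, rfl⟩))) (Ideal.mem_sup_left h2)
    · refine le_sup_of_le_left (Ideal.span_mono ?_)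
      rintro _ ⟨i, rfl⟩; exact ⟨Sum.inr i, rfl⟩
  · intro g hg
    obtain ⟨χ, hχA, hχx⟩ := exists_residue hd hc
    have hχm : ∀ z, χ z = 0 ↔ z ∈ M := fun z => by
      rw [← RingHom.mem_ker, IsLocalRing.ker_eq_maximalIdeal χ (fun z => by
        obtain ⟨a, rfl⟩ := residue_surjective z; exact ⟨_, hχA a⟩)]
    let ψ : R d c →+* TrivSqZeroExt K (Fin r → K) := Ideal.Quotient.lift _
      (eval₂Hom ((TrivSqZeroExt.inlHom K (Fin r → K)).comp (residue A))
        fun i => TrivSqZeroExt.inr (Pi.single i 1))
      (lift_zero _ _ (eval_F (c := c) hd _ _ (fun i => by simp [(residue_eq_zero_iff _).mpr (hc i 0)])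
        (fun i k _ => by simp [(residue_eq_zero_iff _).mpr (hc i k)])
        fun i => pow_eq_zero_of_le (hd i) (by rw [sq, TrivSqZeroExt.inr_mul_inr])))
    have hψA : ∀ a, ψ (algebraMap A (R d c) a) = TrivSqZeroExt.inl (residue A a) := fun a => eval₂Hom_C _ _ a
    have hψx : ∀ i, ψ (x d c i) = TrivSqZeroExt.inr (Pi.single i 1) := fun i => eval₂Hom_X' _ _ i
    have hfst : ∀ z, (ψ z).fst = χ z := fun z => by
      obtain ⟨q, rfl⟩ := Ideal.Quotient.mk_surjective z
      induction q using MvPolynomial.induction_on with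
      | C a => erw [hψA, hχA]; rfl
      | add p q hp hq => simp [hp, hq]
      | mul_X p i hp => rw [map_mul, map_mul, map_mul, TrivSqZeroExt.fst_mul, hψx, hχx]; simp
    have hψ2 : ∀ z ∈ M ^ 2, ψ z = 0 := fun z hz => by
      rw [sq] at hz
      refine Submodule.mul_induction_on hz (fun p hp q hq => ?_) fun p q hp hq => by rw [map_add, hp, hq, add_zero]
      rw [map_mul]
      ext <;> simp [hfst, (hχm p).mpr hp, (hχm q).mpr hq]
    have hyK : ∀ j, residue A (y j : A) = 0 := fun j => (residue_eq_zero_iff _).mpr (y j).2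
    rw [Fintype.sum_sum_type] at hg
    have hx' : ∀ i, g (Sum.inr i) ∈ M := fun i => by
      have h := congrArg TrivSqZeroExt.snd (hψ2 _ hg)
      rw [← hχm]
      have h' := congrFun h i
      simpa [map_sum, TrivSqZeroExt.snd_sum, TrivSqZeroExt.snd_mul, hψA, hψx, hyK, hfst, Finset.sum_apply, Pi.single_apply] using h'
    rintro (j | i)
    · choose a ha using fun j => surjective_quotient hd hc M (Ideal.Quotient.mk M (g (Sum.inl j)))
      have ha' : ∀ j, g (Sum.inl j) - algebraMap A (R d c) (a j) ∈ M := fun j => Ideal.Quotient.eq.mp (ha j).symm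
      have h1 : algebraMap A (R d c) (∑ j, a j * (y j : A)) ∈ M ^ 2 := by
        have e : algebraMap A (R d c) (∑ j, a j * (y j : A)) =
            (∑ j, g (Sum.inl j) * algebraMap A (R d c) (y j : A) + ∑ i, g (Sum.inr i) * x d c i) -
            ∑ j, (g (Sum.inl j) - algebraMap A (R d c) (a j)) * algebraMap A (R d c) (y j : A) -
            ∑ i, g (Sum.inr i) * x d c i := by
          rw [map_sum]; simp only [map_mul, sub_mul, Finset.sum_sub_distrib]; ring
        rw [e, sq]
        refine Ideal.sub_mem _ (Ideal.sub_mem _ (by rw [← sq]; exact hg) (Ideal.sum_mem _ fun j _ =>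
          Ideal.mul_mem_mul (ha' j) ((maximalIdeal_eq hd hc).ge
            (Ideal.mem_sup_left (Ideal.mem_map_of_mem _ (y j).2)))))
          (Ideal.sum_mem _ fun i _ => Ideal.mul_mem_mul (hx' i) (x_mem hc _ i))
      rw [← Ideal.mem_comap, comap_sq hd hc] at h1
      obtain ⟨s, hs, t, ht, hst⟩ := Submodule.mem_sup.mp h1
      obtain ⟨e, rfl⟩ := Ideal.mem_span_range_iff_exists_fun.mp ht
      have h2 : (maximalIdeal A).toCotangent (∑ j, a j • y j) =
          (maximalIdeal A).toCotangent (∑ i, e i • ⟨c i 0, hc i 0⟩) := by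
        rw [Ideal.toCotangent_eq]
        simpa [AddSubmonoidClass.coe_finsetSum, ← hst] using hs
      have h3 : ∑ j, residue A (a j) • b j = 0 := by
        have h4 : ∑ j, residue A (a j) • w j ∈ W := by
          have e1 : ∑ j, residue A (a j) • w j = ∑ i, residue A (e i) • v i := by
            simp only [map_sum, map_smul, hy] at h2
            exact h2
          rw [e1]
          exact Submodule.sum_mem _ fun i _ => W.smul_mem _ (Submodule.subset_span ⟨i, rfl⟩)
        rw [← Submodule.Quotient.mk_eq_zero, ← Submodule.mkQ_apply, map_sum] at h4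
        simpa [hw] using h4
      have h5 := Fintype.linearIndependent_iff.mp b.linearIndependent _ h3 j
      have h6 := Ideal.add_mem M (ha' j) (map_le_maximal (R := R d c) M
        (Ideal.mem_map_of_mem _ ((residue_eq_zero_iff _).mp h5)))
      rwa [sub_add_cancel] at h6
    · exact hx' i

end Groth.Agent.Alg.Eisenstein
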