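import Mathlib.Algebra.Module.FinitePresentation
import Mathlib.Algebra.Colimit.Module
import Mathlib.LinearAlgebra.Finsupp.Supported
import Mathlib.Data.Finset.Lattice.Fold

/-! Every module is a directed colimit of finitely presented modules. -/

set_option autoImplicit false

universe u

namespace Groth.Agent.Alg.FPColimit

noncomputable section

variable (R : Type u) [CommRing R] (M : Type u) [AddCommGroup M] [Module R M]

/-- Index: a finite set of generators and a finite set of relations among them. -/
def Idx : Type u :=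
  {p : Finset M × Finset (M →₀ R) //
    ∀ r ∈ p.2, r.support ⊆ p.1 ∧ Finsupp.linearCombination R id r = 0}

variable {R M}

instance : Preorder (Idx R M) := Preorder.lift fun i => i.1

instance : Nonempty (Idx R M) := ⟨⟨(∅, ∅), by simp⟩⟩

open Classical in
instance : IsDirected (Idx R M) (· ≤ ·) := ⟨fun a b =>
  ⟨⟨(a.1.1 ∪ b.1.1, a.1.2 ∪ b.1.2), fun r hr => by
    rcases Finset.mem_union.mp hr with h | h
    · exact ⟨(a.2 r h).1.trans Finset.subset_union_left, (a.2 r h).2⟩
    · exact ⟨(b.2 r h).1.trans Finset.subset_union_right, (b.2 r h).2⟩⟩,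
    ⟨Finset.subset_union_left, Finset.subset_union_left⟩,
    ⟨Finset.subset_union_right, Finset.subset_union_right⟩⟩⟩

variable (i : Idx R M)

/-- The free part. -/
abbrev F : Type u := {x : M // x ∈ i.1.1} →₀ R

/-- The inclusion of the free part. -/
def inc : F i →ₗ[R] (M →₀ R) := Finsupp.lmapDomain R R Subtype.val

/-- The relations. -/
abbrev K : Submodule R (F i) := (Submodule.span R (i.1.2 : Set (M →₀ R))).comap (inc i)

theorem inc_injective : Function.Injective (inc i) := Finsupp.mapDomain_injective Subtype.val_injective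

theorem mem_range_inc {r : M →₀ R} (hr : r.support ⊆ i.1.1) : r ∈ LinearMap.range (inc i) := by
  classical
  exact ⟨Finsupp.comapDomain Subtype.val r Subtype.val_injective.injOn,
    Finsupp.mapDomain_comapDomain _ Subtype.val_injective r fun x hx => ⟨⟨x, hr hx⟩, rfl⟩⟩

/-- The finitely presented stage. -/
abbrev G : Type u := F i ⧸ K i

instance instG : AddCommGroup (G i) := Submodule.Quotient.addCommGroup (K i)

theorem fp : Module.FinitePresentation R (G i) := by
  refine Module.finitePresentation_of_surjective (K i).mkQ (K i).mkQ_surjective ?_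
  rw [Submodule.ker_mkQ]
  refine Submodule.fg_of_fg_map_injective (inc i) (inc_injective i) ?_
  rw [Submodule.map_comap_eq, inf_eq_right.mpr]
  · exact Submodule.fg_span i.1.2.finite_toSet
  · rw [Submodule.span_le]
    intro r hr
    exact mem_range_inc i (i.2 r hr).1

/-- The inclusion of generators. -/
def shift (i j : Idx R M) (h : i ≤ j) : F i →ₗ[R] F j :=
  Finsupp.lmapDomain R R fun x => ⟨x.1, h.1 x.2⟩

theorem inc_shift (i j : Idx R M) (h : i ≤ j) (x : F i) : inc j (shift i j h x) = inc i x :=
  Finsupp.mapDomain_comp.symm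

/-- Transition maps. -/
def tr (i j : Idx R M) (h : i ≤ j) : G i →ₗ[R] G j :=
  Submodule.mapQ (K i) (K j) (shift i j h) fun x hx => by
    rw [Submodule.mem_comap, Submodule.mem_comap, inc_shift]
    exact Submodule.span_mono (Finset.coe_subset.mpr h.2) hx

theorem tr_mk (i j : Idx R M) (h : i ≤ j) (x : F i) :
    tr i j h ((K i).mkQ x) = (K j).mkQ (shift i j h x) := by
  simp only [tr, Submodule.mkQ_apply, Submodule.mapQ_apply]

instance : DirectedSystem (G : Idx R M → Type u) fun i j h => tr i j h where
  map_self i x := by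
    obtain ⟨x, rfl⟩ := (K i).mkQ_surjective x
    rw [tr_mk]
    exact congrArg _ (inc_injective i (inc_shift i i le_rfl x))
  map_map k j i hij hjk x := by
    obtain ⟨x, rfl⟩ := (K i).mkQ_surjective x
    rw [tr_mk, tr_mk, tr_mk]
    refine congrArg _ (inc_injective k ?_)
    simp only [inc_shift]

/-- The map to the module. -/
noncomputable def proj (i : Idx R M) : G i →ₗ[R] M :=
  (K i).liftQ (Finsupp.linearCombination R id ∘ₗ inc i) fun x hx => by
    have hle : Submodule.span R (i.1.2 : Set (M →₀ R)) ≤ LinearMap.ker (Finsupp.linearCombination R id) :=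
      Submodule.span_le.mpr fun r hr => LinearMap.mem_ker.mpr (i.2 r hr).2
    rw [LinearMap.mem_ker, LinearMap.comp_apply]
    exact LinearMap.mem_ker.mp (hle (Submodule.mem_comap.mp hx))

theorem proj_mk (i : Idx R M) (x : F i) :
    proj i ((K i).mkQ x) = Finsupp.linearCombination R id (inc i x) :=
  Submodule.liftQ_apply _ _ _

theorem proj_tr (i j : Idx R M) (h : i ≤ j) (x : G i) : proj j (tr i j h x) = proj i x := by
  obtain ⟨x, rfl⟩ := (K i).mkQ_surjective x
  rw [tr_mk, proj_mk, proj_mk, inc_shift]

theorem bijective_lift [DecidableEq (Idx R M)] :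
    Function.Bijective (Module.DirectLimit.lift R (Idx R M) G tr proj proj_tr) := by
  classical
  refine ⟨fun z w hzw => ?_, fun m => ?_⟩
  · obtain ⟨i, a, b, rfl, rfl⟩ := Module.DirectLimit.exists_of₂ z w
    rw [Module.DirectLimit.lift_of, Module.DirectLimit.lift_of] at hzw
    obtain ⟨a, rfl⟩ := (K i).mkQ_surjective a
    obtain ⟨b, rfl⟩ := (K i).mkQ_surjective b
    rw [proj_mk, proj_mk] at hzw
    let j : Idx R M := ⟨(i.1.1, insert (inc i (a - b)) i.1.2), fun r hr => by
      rcases Finset.mem_insert.mp hr with rfl | h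
      · refine ⟨?_, by rw [map_sub, map_sub, hzw, sub_self]⟩
        exact Finsupp.mapDomain_support.trans (Finset.image_subset_iff.mpr fun x _ => x.2)
      · exact i.2 r h⟩
    have hij : i ≤ j := ⟨Finset.Subset.refl _, Finset.subset_insert _ _⟩
    have hf : ∀ y : G i, Module.DirectLimit.of R (Idx R M) G tr i y =
        Module.DirectLimit.of R (Idx R M) G tr j (tr i j hij y) :=
      fun y => Module.DirectLimit.of_f.symm
    rw [hf, hf]
    congr 1
    rw [tr_mk, tr_mk, Submodule.mkQ_apply, Submodule.mkQ_apply, Submodule.Quotient.eq]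
    rw [Submodule.mem_comap, ← map_sub, inc_shift]
    exact Submodule.subset_span (Finset.mem_insert_self _ _)
  · let j : Idx R M := ⟨({m}, ∅), by simp⟩
    refine ⟨Module.DirectLimit.of R (Idx R M) G tr j
      ((K j).mkQ (Finsupp.single ⟨m, Finset.mem_singleton_self m⟩ 1)), ?_⟩
    rw [Module.DirectLimit.lift_of, proj_mk]
    simp [inc, j]

end

end Groth.Agent.Alg.FPColimit
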