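import Mathlib.RingTheory.Algebraic.Basic
import Mathlib.RingTheory.Ideal.GoingUp
import Mathlib.RingTheory.IntegralClosure.IsIntegralClosure.Basic
import Mathlib.RingTheory.Polynomial.Basic
import Mathlib.RingTheory.FiniteType
import Mathlib.RingTheory.Spectrum.Prime.Topology

/-! Image of a finite type extension of domains contains a basic open. -/

open Polynomial

namespace Groth.Agent.Alg.ImageBasicOpen

universe u v

variable {A : Type u} {B : Type v} [CommRing A] [CommRing B] [IsDomain A] [IsDomain B] [Algebra A B]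

theorem exists_of_simple (hinj : Function.Injective (algebraMap A B)) (b : B)
    (hb : Algebra.adjoin A {b} = ⊤) {g : B} (hg : g ≠ 0) :
    ∃ a : A, a ≠ 0 ∧ ∀ q : Ideal A, q.IsPrime → a ∉ q →
      ∃ Q : Ideal B, Q.IsPrime ∧ g ∉ Q ∧ Q.comap (algebraMap A B) = q := by
  rw [Algebra.adjoin_singleton_eq_range_aeval] at hb
  have hsur : Function.Surjective (aeval b : A[X] →ₐ[A] B) := (AlgHom.range_eq_top _).mp hb
  by_cases hbij : Function.Injective (aeval b : A[X] →ₐ[A] B)
  · obtain ⟨p, rfl⟩ := hsur g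
    have hp : p ≠ 0 := by rintro rfl; simp at hg
    refine ⟨p.leadingCoeff, leadingCoeff_ne_zero.mpr hp, fun q hq haq => ?_⟩
    let e := AlgEquiv.ofBijective _ ⟨hbij, hsur⟩
    have := hq
    refine ⟨(q.map (C : A →+* A[X])).comap (e.symm : B →+* A[X]),
      (Ideal.isPrime_map_C_of_isPrime (P := q)).comap _, fun h => haq ?_, ?_⟩
    · rw [Ideal.mem_comap] at h
      have he : e.symm (aeval b p) = p := e.symm_apply_apply p
      rw [RingHom.coe_coe, he, Ideal.mem_map_C_iff] at h
      exact h _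
    · ext x
      have he : e.symm (algebraMap A B x) = C x := e.symm.commutes x
      rw [Ideal.mem_comap, Ideal.mem_comap, RingHom.coe_coe, he, Ideal.mem_map_C_iff]
      refine ⟨fun h => by simpa using h 0, fun h n => ?_⟩
      rcases n with _ | n <;> simp [coeff_C, h, q.zero_mem]
  · obtain ⟨P, hP0, hP⟩ : ∃ P : A[X], P ≠ 0 ∧ aeval b P = 0 := by
      rw [injective_iff_map_eq_zero] at hbij; push Not at hbij
      exact hbij.imp fun P h => ⟨h.2, h.1⟩
    set a := P.leadingCoeff
    have ha : a ≠ 0 := leadingCoeff_ne_zero.mpr hP0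
    have hint : IsIntegral A (a • b) := isIntegral_leadingCoeff_smul _ _ hP
    let B' := Algebra.adjoin A {a • b}
    have hB' : Algebra.IsIntegral A B' :=
      Algebra.IsIntegral.adjoin (fun x hx => by rw [Set.mem_singleton_iff.mp hx]; exact hint)
    have hmem : ∀ β : B, ∃ N : ℕ, a ^ N • β ∈ B' := by
      intro β; obtain ⟨r, rfl⟩ := hsur β
      induction r using Polynomial.induction_on' with
      | add r s hr hs =>
        obtain ⟨M, hM⟩ := hr; obtain ⟨N, hN⟩ := hs
        refine ⟨M + N, ?_⟩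
        rw [map_add, smul_add]
        refine add_mem ?_ ?_
        · rw [add_comm, pow_add, mul_smul]; exact B'.smul_mem hM _
        · rw [pow_add, mul_smul]; exact B'.smul_mem hN _
      | monomial n c =>
        refine ⟨n, ?_⟩
        have : a ^ n • aeval b (monomial n c) = c • (a • b) ^ n := by
          simp [aeval_monomial, Algebra.smul_def, mul_pow]; ring
        rw [this]
        exact B'.smul_mem (pow_mem (Algebra.subset_adjoin (Set.mem_singleton _)) n) _
    have halg : IsAlgebraic A g := by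
      obtain ⟨N, hN⟩ := hmem g
      have h1 : IsIntegral A (⟨_, hN⟩ : B') := Algebra.IsIntegral.isIntegral _
      have h2 : IsAlgebraic A (algebraMap A B (a ^ N) * g) := by
        rw [← Algebra.smul_def]; exact (h1.map B'.val).isAlgebraic
      exact IsAlgebraic.of_mul (mem_nonZeroDivisors_of_ne_zero
        (by simp [map_eq_zero_iff _ hinj, ha])) (isAlgebraic_algebraMap _) h2
    obtain ⟨c, hc, hgc⟩ := halg.exists_nonzero_dvd (mem_nonZeroDivisors_of_ne_zero hg)
    refine ⟨a * c, mul_ne_zero ha hc, fun q hq hacq => ?_⟩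
    have haq : a ∉ q := fun h => hacq (q.mul_mem_right _ h)
    have hcq : c ∉ q := fun h => hacq (q.mul_mem_left _ h)
    have hinj' : Function.Injective (algebraMap A B') := fun x y h => hinj (congrArg B'.val h)
    have key : ∀ z ∈ q.map (algebraMap A B), ∃ N : ℕ, ∃ w ∈ q.map (algebraMap A B'),
        (w : B) = a ^ N • z := by
      intro z hz
      induction hz using Submodule.span_induction with
      | mem z hz =>
        obtain ⟨x, hx, rfl⟩ := hz
        exact ⟨0, _, Ideal.mem_map_of_mem _ hx, by simp⟩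
      | zero => exact ⟨0, 0, zero_mem _, by simp⟩
      | add x y _ _ hx hy =>
        obtain ⟨M, v, hv, hv'⟩ := hx; obtain ⟨N, w, hw, hw'⟩ := hy
        refine ⟨M + N, a ^ N • v + a ^ M • w, add_mem (Submodule.smul_of_tower_mem _ _ hv)
          (Submodule.smul_of_tower_mem _ _ hw), ?_⟩
        simp [hv', hw', smul_smul, ← pow_add, smul_add, add_comm]
      | smul β x _ hx =>
        obtain ⟨M, v, hv, hv'⟩ := hx; obtain ⟨N, hN⟩ := hmem β
        refine ⟨N + M, ⟨_, hN⟩ * v, Ideal.mul_mem_left _ _ hv, ?_⟩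
        simp [hv', pow_add, smul_smul, mul_comm]
    have hcomap : (q.map (algebraMap A B)).comap (algebraMap A B) = q := by
      refine le_antisymm (fun x hx => ?_) Ideal.le_comap_map
      obtain ⟨N, w, hw, hw'⟩ := key _ hx
      have hw2 : w = algebraMap A B' (a ^ N * x) := Subtype.ext (by simp [hw', Algebra.smul_def])
      obtain ⟨Q, hQ1, hQ2, hQ3⟩ := Ideal.exists_ideal_over_prime_of_isIntegral (S := B') q ⊥
        (fun y hy => by
          rw [Ideal.mem_comap, Ideal.mem_bot, map_eq_zero_iff _ hinj'] at hy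
          exact hy ▸ q.zero_mem)
      have : a ^ N * x ∈ q := by
        rw [← hQ3, Ideal.mem_comap, ← hw2]
        exact (Ideal.map_le_iff_le_comap.mpr hQ3.ge) hw
      exact (hq.mem_or_mem this).resolve_left fun h => haq (hq.mem_of_pow_mem _ h)
    obtain ⟨Q, hQ⟩ := (PrimeSpectrum.mem_range_comap_iff (algebraMap A B) (p := ⟨q, hq⟩)).mpr hcomap
    have hQ' : Q.asIdeal.comap (algebraMap A B) = q := congrArg PrimeSpectrum.asIdeal hQ
    exact ⟨Q.asIdeal, Q.2, fun h => hcq (hQ'.le (Ideal.mem_of_dvd Q.asIdeal hgc h)), hQ'⟩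

set_option maxHeartbeats 800000 in
theorem exists_of_adjoin : ∀ (n : ℕ) {B : Type v} [CommRing B] [IsDomain B] [Algebra A B]
    (v : Fin n → B), Algebra.adjoin A (Set.range v) = ⊤ → Function.Injective (algebraMap A B) →
    ∀ g : B, g ≠ 0 → ∃ a : A, a ≠ 0 ∧ ∀ q : Ideal A, q.IsPrime → a ∉ q →
      ∃ Q : Ideal B, Q.IsPrime ∧ g ∉ Q ∧ Q.comap (algebraMap A B) = q := by
  intro n
  induction n with
  | zero =>
    intro B _ _ _ v hv hinj g hg
    refine exists_of_simple hinj 0 ?_ hg
    rw [eq_top_iff, ← hv]; exact Algebra.adjoin_mono (by simp [Set.range_eq_empty])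
  | succ n ih =>
    intro B _ _ _ v hv hinj g hg
    let B₀ := Algebra.adjoin A (Set.range (Fin.tail v))
    have hinj₀ : Function.Injective (algebraMap A B₀) := fun x y h => hinj (congrArg B₀.val h)
    have hinjB : Function.Injective (algebraMap B₀ B) := fun x y h => Subtype.ext h
    have hB : Algebra.adjoin B₀ {v 0} = ⊤ := by
      rw [← (Subalgebra.restrictScalars_injective A).eq_iff, Subalgebra.restrictScalars_top,
        eq_top_iff, ← hv, Algebra.adjoin_le_iff]
      rintro _ ⟨i, rfl⟩
      induction i using Fin.cases with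
      | zero => exact Algebra.subset_adjoin (Set.mem_singleton _)
      | succ i =>
        exact (Algebra.adjoin B₀ {v 0}).algebraMap_mem
          ⟨v i.succ, Algebra.subset_adjoin ⟨i, rfl⟩⟩
    obtain ⟨a₀, ha₀, h₀⟩ := exists_of_simple (A := B₀) (B := B) hinjB (v 0) hB hg
    let v' : Fin n → B₀ := fun i => ⟨Fin.tail v i, Algebra.subset_adjoin ⟨i, rfl⟩⟩
    have hv' : Algebra.adjoin A (Set.range v') = ⊤ := by
      apply Subalgebra.map_injective (f := B₀.val) Subtype.val_injective
      rw [Algebra.map_top, Subalgebra.range_val, AlgHom.map_adjoin, ← Set.range_comp]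
      rfl
    obtain ⟨a, ha, h⟩ := ih v' hv' hinj₀ a₀ ha₀
    refine ⟨a, ha, fun q hq haq => ?_⟩
    obtain ⟨Q₀, hQ₀, ha₀Q, hcomap₀⟩ := h q hq haq
    obtain ⟨Q, hQ, hgQ, hcomap⟩ := h₀ Q₀ hQ₀ ha₀Q
    refine ⟨Q, hQ, hgQ, ?_⟩
    rw [IsScalarTower.algebraMap_eq A B₀ B, ← Ideal.comap_comap, hcomap, hcomap₀]

theorem exists_of_finiteType [Algebra.FiniteType A B] (hinj : Function.Injective (algebraMap A B))
    {g : B} (hg : g ≠ 0) :
    ∃ a : A, a ≠ 0 ∧ ∀ q : Ideal A, q.IsPrime → a ∉ q →
      ∃ Q : Ideal B, Q.IsPrime ∧ g ∉ Q ∧ Q.comap (algebraMap A B) = q := by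
  obtain ⟨s, hs⟩ := Algebra.FiniteType.out (R := A) (A := B)
  refine exists_of_adjoin s.card (Subtype.val ∘ s.equivFin.symm) ?_ hinj g hg
  rw [Set.range_comp, Equiv.range_eq_univ, Set.image_univ, Subtype.range_coe, hs]

end Groth.Agent.Alg.ImageBasicOpen
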