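import Groth.Agent.Alg.ZariskiJacobian
import Mathlib.RingTheory.Smooth.Locus
import Mathlib.RingTheory.Kaehler.Polynomial
import Mathlib.Algebra.MvPolynomial.PDeriv

/-! A smooth point is cut out by relations with an invertible Jacobian minor. -/

open TensorProduct KaehlerDifferential IsLocalRing

universe u

namespace Groth.Agent.Alg.JacobianMinor

set_option backward.isDefEq.respectTransparency false

/-- At a point where a quotient of a formally smooth algebra is smooth, some of any given finite
family of generators of the kernel generate it locally and have an invertible Jacobian minor. -/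
theorem exists_minor {k₀ R A : Type u} [CommRing k₀] [CommRing R] [CommRing A] [Algebra k₀ R]
    [Algebra k₀ A] [Algebra.FormallySmooth k₀ R] (φ : R →ₐ[k₀] A) (hφ : Function.Surjective φ)
    (F : Finset R) (hF : RingHom.ker φ.toRingHom = Ideal.span (↑F : Set R)) (q : Ideal A) [q.IsPrime]
    (h : Algebra.IsSmoothAt k₀ q) {ι : Type*} (B : Module.Basis ι R Ω[R⁄k₀]) :
    ∃ (m : ℕ) (f : Fin m → R) (o : Fin m → ι), Function.Injective f ∧ Function.Injective o ∧
      (∀ i, f i ∈ F) ∧
      (RingHom.ker φ.toRingHom).map (algebraMap R (Localization.AtPrime (q.comap φ.toRingHom))) =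
        Ideal.span (Set.range fun i =>
          algebraMap R (Localization.AtPrime (q.comap φ.toRingHom)) (f i)) ∧
      Matrix.det (Matrix.of fun i j => B.repr (D k₀ R (f i)) (o j)) ∉ q.comap φ.toRingHom := by
  classical
  let J := RingHom.ker φ.toRingHom
  let Q := q.comap φ.toRingHom
  let P := Localization.AtPrime Q
  let A' := Localization.AtPrime q
  let π : P →+* A' := Localization.localRingHom Q q φ.toRingHom rfl
  let : Algebra P A' := π.toAlgebra
  have hπ : ∀ r, π (algebraMap R P r) = algebraMap A A' (φ r) :=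
    Localization.localRingHom_to_map _ _ _ rfl
  have : IsScalarTower k₀ P A' := .of_algebraMap_eq fun x => by
    rw [IsScalarTower.algebraMap_apply k₀ R P, RingHom.algebraMap_toAlgebra, hπ, φ.commutes]; rfl
  have hsurj : Function.Surjective (algebraMap P A') := by
    intro x
    obtain ⟨y, ⟨s, hs⟩, rfl⟩ := IsLocalization.exists_mk'_eq q.primeCompl x
    obtain ⟨y, rfl⟩ := hφ y
    obtain ⟨s, rfl⟩ := hφ s
    refine ⟨IsLocalization.mk' P y (⟨s, hs⟩ : Q.primeCompl), ?_⟩
    exact Localization.localRingHom_mk' _ _ _ rfl _ _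
  have hker : RingHom.ker (algebraMap P A') = J.map (algebraMap R P) := by
    refine le_antisymm (fun x hx => ?_) (Ideal.map_le_iff_le_comap.mpr fun r hr => ?_)
    · obtain ⟨y, s, rfl⟩ := IsLocalization.exists_mk'_eq Q.primeCompl x
      have h0 : algebraMap A A' (φ y) = 0 := by
        rw [← hπ, ← IsLocalization.mk'_spec P y s, map_mul,
          show π (IsLocalization.mk' P y s) = 0 from hx, zero_mul]
      obtain ⟨⟨t, ht⟩, ht0⟩ := (IsLocalization.map_eq_zero_iff q.primeCompl A' _).mp h0
      obtain ⟨t, rfl⟩ := hφ t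
      rw [IsLocalization.mk'_mem_map_algebraMap_iff]
      exact ⟨t, ht, by simpa [J] using ht0⟩
    · rw [Ideal.mem_comap, RingHom.mem_ker, RingHom.algebraMap_toAlgebra, hπ,
        show φ r = 0 from hr, map_zero]
  let I := RingHom.ker (algebraMap P A')
  have : Algebra.FormallyEtale R P := Algebra.FormallyEtale.of_isLocalization Q.primeCompl
  have : Algebra.FormallySmooth k₀ P := Algebra.FormallySmooth.comp k₀ R P
  have hres : ∀ r, residue P (algebraMap R P r) = 0 ↔ r ∈ Q := fun r => by
    rw [residue_eq_zero_iff, IsLocalization.AtPrime.to_map_mem_maximal_iff P Q]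
  obtain ⟨l, hl⟩ := (Algebra.FormallySmooth.iff_split_injection hsurj).mp h
  let good : ℕ → Prop := fun n => ∃ s : Finset R, s.card = n ∧ s ⊆ F ∧
    J.map (algebraMap R P) = Ideal.span (algebraMap R P '' ↑s)
  have hex : ∃ n, good n := ⟨_, F, rfl, subset_rfl, by rw [← Ideal.map_span]; congr 1⟩
  obtain ⟨s, hsn, hsF, hsgen⟩ := Nat.find_spec hex
  let e := s.equivFin.symm
  let f : Fin s.card → R := fun i => (e i).1
  have hf : ∀ i, f i ∈ J := fun i => by
    rw [show J = Ideal.span (↑F : Set R) from hF]; exact Ideal.subset_span (hsF (e i).2)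
  have hgen : J.map (algebraMap R P) = Ideal.span (Set.range fun i => algebraMap R P (f i)) := by
    rw [hsgen]; congr 1
    ext x
    constructor
    · rintro ⟨y, hy, rfl⟩; exact ⟨e.symm ⟨y, hy⟩, by simp [f]⟩
    · rintro ⟨i, rfl⟩; exact ⟨f i, (e i).2, rfl⟩
  let x : Fin s.card → I := fun i => ⟨algebraMap R P (f i), by
    change _ ∈ RingHom.ker _
    rw [hker]; exact Ideal.mem_map_of_mem _ (hf i)⟩
  have hI : I ≤ maximalIdeal P := IsLocalRing.le_maximalIdeal (RingHom.ker_ne_top _)
  have hIfg : (RingHom.ker (algebraMap P A')).FG := by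
    rw [hker, hsgen]; exact ⟨s.image (algebraMap R P), by simp⟩
  let w : ι → Fin s.card → ResidueField P := fun o i =>
    residue P (algebraMap R P (B.repr (D k₀ R (f i)) o))
  obtain ⟨o, ho⟩ := ZariskiJacobian.exists_columns w fun c hc => by
    choose c' hc' using fun i => residue_surjective (c i)
    let T : Finset ι := Finset.univ.biUnion fun i => (B.repr (D k₀ R (f i))).support
    have hdf : ∀ i, D k₀ P (x i).1 =
        ∑ t ∈ T, algebraMap R P (B.repr (D k₀ R (f i)) t) • map k₀ k₀ R P (B t) := fun i => by
      have hh : D k₀ R (f i) = ∑ t ∈ T, B.repr (D k₀ R (f i)) t • B t := by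
        conv_lhs => rw [← B.linearCombination_repr (D k₀ R (f i))]
        rw [Finsupp.linearCombination_apply]
        exact Finsupp.sum_of_support_subset _
          (Finset.subset_biUnion_of_mem (fun i => (B.repr (D k₀ R (f i))).support) (Finset.mem_univ i))
          (fun t a => a • B t) (fun _ _ => zero_smul _ _)
      change D k₀ P (algebraMap R P (f i)) = _
      rw [← map_D k₀ k₀ R P]
      conv_lhs => rw [hh, map_sum]
      simp [algebraMap_smul]
    have hmem := ZariskiJacobian.mem_maximalIdeal_smul_of_split l hl hI x c' T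
      (fun t => ∑ i, c' i * algebraMap R P (B.repr (D k₀ R (f i)) t))
      (fun t => by
        rw [← residue_eq_zero_iff, map_sum, ← hc t]
        simp [w, hc'])
      (fun t => map k₀ k₀ R P (B t)) (by
        simp only [hdf, Finset.smul_sum, smul_smul]
        rw [Finset.sum_comm]
        exact Finset.sum_congr rfl fun t _ => (Finset.sum_smul ..).symm)
    funext a
    by_contra hne
    have hu : IsUnit (c' a) := by
      rw [← residue_ne_zero_iff_isUnit, hc']; exact hne
    let s' := s.erase (f a)
    have hlt : s'.card < Nat.find hex := hsn ▸ Finset.card_erase_lt_of_mem (e a).2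
    refine Nat.find_min hex hlt ⟨s', rfl, fun y hy => hsF (Finset.mem_of_mem_erase hy), ?_⟩
    have hle : Ideal.span (algebraMap R P '' ↑s') ≤ J.map (algebraMap R P) :=
      hsgen ▸ Ideal.span_mono (Set.image_mono (Finset.erase_subset _ _))
    refine le_antisymm ?_ hle
    refine Submodule.le_of_le_smul_of_le_jacobson_bot (I := maximalIdeal P)
      (hker ▸ hIfg) (IsLocalRing.maximalIdeal_le_jacobson _) ?_
    conv_lhs => rw [hgen]
    rw [Ideal.span_le]
    rintro _ ⟨b, rfl⟩
    have hoff : ∀ i, i ≠ a → algebraMap R P (f i) ∈ Ideal.span (algebraMap R P '' ↑s') :=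
      fun i hi => Ideal.subset_span ⟨f i, Finset.mem_erase.mpr
        ⟨fun h => hi (e.injective (Subtype.ext h)), (e i).2⟩, rfl⟩
    rcases ne_or_eq b a with hb | rfl
    · exact Submodule.mem_sup_left (hoff b hb)
    · rw [← Finset.add_sum_erase _ _ (Finset.mem_univ b)] at hmem
      replace hmem := Submodule.smul_mono (le_refl (maximalIdeal P)) hker.le hmem
      obtain ⟨d, hd⟩ := hu
      have : algebraMap R P (f b) = (↑d⁻¹ : P) * (c' b * algebraMap R P (f b) +
          ∑ i ∈ Finset.univ.erase b, c' i * algebraMap R P (f i)) -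
          (↑d⁻¹ : P) * ∑ i ∈ Finset.univ.erase b, c' i * algebraMap R P (f i) := by
        rw [← hd]; simp [mul_add]
      rw [SetLike.mem_coe]
      beta_reduce
      rw [this]
      refine sub_mem (Submodule.mem_sup_right (Ideal.mul_mem_left _ _ hmem))
        (Submodule.mem_sup_left (Ideal.mul_mem_left _ _ (sum_mem fun i hi => ?_)))
      exact Ideal.mul_mem_left _ _ (hoff i (Finset.ne_of_mem_erase hi))
  refine ⟨s.card, f, o, Subtype.val_injective.comp e.injective, fun a b hab => ?_,
    fun i => hsF (e i).2, hgen, ?_⟩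
  · by_contra hne
    exact ho (Matrix.det_zero_of_column_eq hne fun i => by simp [hab])
  · intro hdet
    refine ho ?_
    have h0 := (hres _).mpr hdet
    rw [RingHom.map_det, RingHom.map_det] at h0
    convert! h0

end Groth.Agent.Alg.JacobianMinor
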