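import Groth.Agent.Segre.Param
import Groth.Agent.Alg.PthRoot.Step
import Groth.Agent.RegularLocal.GlobalDim
import Mathlib.RingTheory.RegularLocalRing.Defs

/-! `A[X_i]/(P_i(X_i))` for monic polynomials `P_i`. -/

open IsLocalRing

universe u v

namespace Groth.Agent.Alg.MonicQuot

variable {A : Type u} [CommRing A] {ι : Type v}

theorem exists_roots (P : ι → Polynomial A) (hP : ∀ i, (P i).Monic) (hd : ∀ i, (P i).natDegree ≠ 0)
    (s : Finset ι) :
    ∃ (B : Type u) (_ : CommRing B) (f : A →+* B), Function.Injective f ∧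
      ∀ i ∈ s, ∃ x : B, (P i).eval₂ f x = 0 := by
  classical
  induction s using Finset.induction with
  | empty => exact ⟨A, inferInstance, RingHom.id A, Function.injective_id, by simp⟩
  | insert i s _ ih =>
    obtain ⟨B, _, f, hf, hs⟩ := ih
    let G := (P i).map f
    have hG : G.Monic := (hP i).map f
    let g : B →+* AdjoinRoot G := AdjoinRoot.of G
    have hg : Function.Injective g := (injective_iff_map_eq_zero _).mpr fun b hb => by
      rcases subsingleton_or_nontrivial B with h | h
      · exact Subsingleton.elim _ _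
      refine Polynomial.C_eq_zero.mp (PthRoot.monic_dvd_eq_zero hG ?_ ?_)
      · rw [← AdjoinRoot.mk_eq_zero, AdjoinRoot.mk_C]; exact hb
      · refine Polynomial.degree_C_le.trans_lt ?_
        rw [Polynomial.degree_eq_natDegree hG.ne_zero, (hP i).natDegree_map]
        exact_mod_cast Nat.pos_of_ne_zero (hd i)
    refine ⟨AdjoinRoot G, inferInstance, g.comp f, hg.comp hf, fun j hj => ?_⟩
    rcases Finset.mem_insert.mp hj with rfl | hj
    · refine ⟨AdjoinRoot.root G, ?_⟩
      rw [← Polynomial.eval₂_map]
      exact AdjoinRoot.eval₂_root G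
    · obtain ⟨x, hx⟩ := hs j hj
      exact ⟨g x, by rw [← Polynomial.hom_eval₂, hx, map_zero]⟩

/-- The quotient ring. -/
abbrev Q (F : ι → MvPolynomial ι A) : Type (max u v) := MvPolynomial ι A ⧸ Ideal.span (Set.range F)

theorem lift_zero {B : Type u} [CommRing B] (F : ι → MvPolynomial ι A) (φ : MvPolynomial ι A →+* B)
    (h : ∀ i, φ (F i) = 0) : ∀ a ∈ Ideal.span (Set.range F), φ a = 0 := fun a ha => by
  have : Ideal.span (Set.range F) ≤ RingHom.ker φ := Ideal.span_le.mpr (by
    rintro _ ⟨i, rfl⟩; exact h i)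
  exact this ha

theorem injective_algebraMap [Finite ι] (P : ι → Polynomial A) (hP : ∀ i, (P i).Monic)
    (hd : ∀ i, (P i).natDegree ≠ 0) (F : ι → MvPolynomial ι A)
    (hF : ∀ i, F i = Polynomial.aeval (MvPolynomial.X i) (P i)) :
    Function.Injective (algebraMap A (Q F)) := by
  cases nonempty_fintype ι
  obtain ⟨B, _, f, hf, hroot⟩ := exists_roots P hP hd Finset.univ
  choose x hx using fun i => hroot i (Finset.mem_univ i)
  let φ := Ideal.Quotient.lift _ (MvPolynomial.eval₂Hom f x) (lift_zero F _ fun i => by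
    rw [hF, Polynomial.aeval_def, Polynomial.hom_eval₂, MvPolynomial.eval₂Hom_X',
      show (MvPolynomial.eval₂Hom f x).comp (algebraMap A (MvPolynomial ι A)) = f from
        RingHom.ext fun a => MvPolynomial.eval₂Hom_C f x a]
    exact hx i)
  intro a b h
  have h1 : ∀ c, φ (algebraMap A (Q F) c) = f c := fun c => MvPolynomial.eval₂Hom_C f x c
  exact hf (by rw [← h1, ← h1, h])

theorem isIntegral (P : ι → Polynomial A) (hP : ∀ i, (P i).Monic) (F : ι → MvPolynomial ι A)
    (hF : ∀ i, F i = Polynomial.aeval (MvPolynomial.X i) (P i)) :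
    Algebra.IsIntegral A (Q F) := by
  refine ⟨fun z => ?_⟩
  obtain ⟨q, rfl⟩ := Ideal.Quotient.mk_surjective z
  induction q using MvPolynomial.induction_on with
  | C a => exact isIntegral_algebraMap
  | add p q hp hq => rw [map_add]; exact hp.add hq
  | mul_X p i hp =>
    rw [map_mul]
    refine hp.mul ⟨P i, hP i, ?_⟩
    rw [← Polynomial.aeval_def, ← Ideal.Quotient.mkₐ_eq_mk A, Polynomial.aeval_algHom_apply,
      Ideal.Quotient.mkₐ_eq_mk, Ideal.Quotient.eq_zero_iff_mem, ← hF]
    exact Ideal.subset_span ⟨i, rfl⟩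

theorem finite [Finite ι] (P : ι → Polynomial A) (hP : ∀ i, (P i).Monic) (F : ι → MvPolynomial ι A)
    (hF : ∀ i, F i = Polynomial.aeval (MvPolynomial.X i) (P i)) :
    Module.Finite A (Q F) :=
  haveI := isIntegral P hP F hF
  Algebra.IsIntegral.finite

/-- A local integral injective extension of a regular local ring is regular iff it has the same
embedding dimension. -/
theorem isRegularRing_iff_finrank {R : Type*} [CommRing R] [IsLocalRing R] [IsNoetherianRing R]
    [IsRegularLocalRing A] [Algebra A R] [Algebra.IsIntegral A R]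
    (hinj : Function.Injective (algebraMap A R)) :
    IsRegularRing R ↔
      Module.finrank (ResidueField R) (CotangentSpace R) =
        Module.finrank (ResidueField A) (CotangentSpace A) := by
  have hdim : ringKrullDim A = ringKrullDim R :=
    Groth.Agent.Segre.Param.ringKrullDim_eq_of_isIntegral (algebraMap A R)
      (fun z => Algebra.IsIntegral.isIntegral z) hinj
  have hA := (IsRegularLocalRing.iff_finrank_cotangentSpace A).mp inferInstance
  have h1 : IsRegularRing R ↔ IsRegularLocalRing R :=
    ⟨fun _ => IsRegularLocalRing.of_isRegularRing_of_isLocalRing R, fun _ => isRegularRing_iff.mpr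
      fun p hp => Groth.Agent.RegularLocal.GlobalDim.isRegularLocalRing_localization p⟩
  rw [h1, IsRegularLocalRing.iff_finrank_cotangentSpace, ← hdim, ← hA]
  exact_mod_cast Iff.rfl

variable [IsLocalRing A]

theorem map_le_maximal {R : Type*} [CommRing R] [Algebra A R] [Algebra.IsIntegral A R] (M : Ideal R)
    [M.IsMaximal] : (maximalIdeal A).map (algebraMap A R) ≤ M := by
  rw [Ideal.map_le_iff_le_comap]
  exact (IsLocalRing.eq_maximalIdeal (Ideal.isMaximal_comap_of_isIntegral_of_isMaximal M)).ge

theorem isLocalRing_of_unique {R : Type*} [CommRing R] [Nontrivial R]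
    (h : ∀ M N : Ideal R, M.IsMaximal → N.IsMaximal → M ≤ N) : IsLocalRing R := by
  obtain ⟨M, hM⟩ := Ideal.exists_maximal R
  exact IsLocalRing.of_unique_max_ideal ⟨M, hM, fun N hN => (h N M hN hM).antisymm (h M N hM hN)⟩

end Groth.Agent.Alg.MonicQuot
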