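import Groth.Agent.Alg.MonicQuot
import Groth.Agent.Alg.PthRoot.Tower

/-! Quotients by polynomials `X_i^p + p(…) - f_i` over a local ring. -/

open IsLocalRing MvPolynomial

universe u v

namespace Groth.Agent.Alg.PPoly

open MonicQuot

variable {A : Type u} [CommRing A] {ι : Type v} (p : ℕ) (c : ι → Fin p → A) (f : ι → A)

/-- The polynomials. -/
noncomputable abbrev F : ι → MvPolynomial ι A := fun i =>
  X i ^ p + (p : MvPolynomial ι A) * (Finset.univ.sum fun j : Fin p =>
    if (j : ℕ) = 0 then 0 else C (c i j) * X i ^ (p - (j : ℕ))) - C (f i)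

/-- The quotient. -/
abbrev R : Type (max u v) := MvPolynomial ι A ⧸ Ideal.span (Set.range (F p c f))

/-- The one-variable polynomials. -/
noncomputable def P (i : ι) : Polynomial A :=
  Polynomial.X ^ p + ((p : Polynomial A) * (Finset.univ.sum fun j : Fin p =>
    if (j : ℕ) = 0 then 0 else Polynomial.C (c i j) * Polynomial.X ^ (p - (j : ℕ))) - Polynomial.C (f i))

theorem F_eq (i : ι) : F p c f i = Polynomial.aeval (X i) (P p c f i) := by
  have : ∀ j : Fin p, (Polynomial.aeval (X i : MvPolynomial ι A)
      (if (j : ℕ) = 0 then 0 else Polynomial.C (c i j) * Polynomial.X ^ (p - (j : ℕ)))) =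
      if (j : ℕ) = 0 then 0 else C (c i j) * X i ^ (p - (j : ℕ)) := fun j => by
    split_ifs <;> simp
  simp only [F, P, map_add, map_sub, map_mul, map_natCast, map_sum, this, Polynomial.aeval_X_pow, Polynomial.aeval_C]
  rw [MvPolynomial.algebraMap_eq]
  ring

variable [Fact p.Prime]

theorem degree_tail (i : ι) :
    (((p : Polynomial A) * (Finset.univ.sum fun j : Fin p =>
      if (j : ℕ) = 0 then 0 else Polynomial.C (c i j) * Polynomial.X ^ (p - (j : ℕ)))) - Polynomial.C (f i)).degree < p := by
  have hp := (Fact.out : p.Prime).pos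
  refine (Polynomial.degree_sub_le _ _).trans_lt (max_lt ?_ (Polynomial.degree_C_le.trans_lt (by exact_mod_cast hp)))
  rw [← map_natCast (Polynomial.C : A →+* Polynomial A), Finset.mul_sum]
  refine (Polynomial.degree_sum_le _ _).trans_lt ((Finset.sup_lt_iff (WithBot.bot_lt_coe _)).mpr fun j _ => ?_)
  split_ifs with hj
  · simp
  · rw [← mul_assoc, ← map_mul]
    exact (Polynomial.degree_C_mul_X_pow_le _ _).trans_lt (by exact_mod_cast Nat.sub_lt hp (Nat.pos_of_ne_zero hj))

theorem monic_P (i : ι) : (P p c f i).Monic := Polynomial.monic_X_pow_add (degree_tail p c f i)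

theorem natDegree_P [Nontrivial A] (i : ι) : (P p c f i).natDegree ≠ 0 := by
  rw [P, Polynomial.natDegree_add_eq_left_of_degree_lt, Polynomial.natDegree_X_pow]
  · exact (Fact.out : p.Prime).ne_zero
  · rw [Polynomial.degree_X_pow]; exact degree_tail p c f i

theorem injective_R [Finite ι] [Nontrivial A] : Function.Injective (algebraMap A (R p c f)) :=
  injective_algebraMap (P p c f) (monic_P p c f) (natDegree_P p c f) _ (F_eq p c f)

theorem isIntegral_R : Algebra.IsIntegral A (R p c f) :=
  MonicQuot.isIntegral (P p c f) (monic_P p c f) _ (F_eq p c f)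

theorem finite_R [Finite ι] : Module.Finite A (R p c f) :=
  MonicQuot.finite (P p c f) (monic_P p c f) _ (F_eq p c f)

omit [Fact p.Prime] in
theorem relation {I : Ideal A} (hp : (p : A) ∈ I) (i : ι) :
    Ideal.Quotient.mk _ (X i) ^ p - algebraMap A (R p c f) (f i) ∈ I.map (algebraMap A (R p c f)) := by
  have h : Ideal.Quotient.mk (Ideal.span (Set.range (F p c f))) (F p c f i) = 0 :=
    Ideal.Quotient.eq_zero_iff_mem.mpr (Ideal.subset_span ⟨i, rfl⟩)
  have hpI := Ideal.mem_map_of_mem (algebraMap A (R p c f)) hp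
  rw [map_natCast] at hpI
  simp only [F, map_add, map_sub, map_mul, map_natCast, map_pow] at h
  have e : Ideal.Quotient.mk _ (X i) ^ p - algebraMap A (R p c f) (f i) =
      -((p : R p c f) * Ideal.Quotient.mk _ (Finset.univ.sum fun j : Fin p =>
        if (j : ℕ) = 0 then 0 else C (c i j) * X i ^ (p - (j : ℕ)))) := by
    rw [eq_neg_iff_add_eq_zero]
    rw [← h]
    rw [show algebraMap A (R p c f) (f i) = Ideal.Quotient.mk _ (C (f i)) from rfl]
    ring
  rw [e]
  exact neg_mem (Ideal.mul_mem_right _ _ hpI)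

variable [IsLocalRing A]

theorem exists_pow (hp : (p : A) ∈ maximalIdeal A) (y : R p c f) :
    ∃ a, y ^ p - algebraMap A (R p c f) a ∈ (maximalIdeal A).map (algebraMap A (R p c f)) := by
  let I := (maximalIdeal A).map (algebraMap A (R p c f))
  obtain ⟨q, rfl⟩ := Ideal.Quotient.mk_surjective y
  induction q using MvPolynomial.induction_on with
  | C a => exact ⟨a ^ p, by erw [map_pow, sub_self]; exact I.zero_mem⟩
  | add u v hu hv =>
    obtain ⟨a, ha⟩ := hu
    obtain ⟨b, hb⟩ := hv
    obtain ⟨r, hr⟩ := exists_add_pow_prime_eq (Fact.out : p.Prime)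
      (Ideal.Quotient.mk (Ideal.span (Set.range (F p c f))) u) (Ideal.Quotient.mk _ v)
    refine ⟨a + b, ?_⟩
    rw [map_add, map_add, hr]
    have hpI : (p : R p c f) ∈ I := by rw [← map_natCast (algebraMap A (R p c f))]; exact Ideal.mem_map_of_mem _ hp
    convert I.add_mem (I.add_mem ha hb) (I.mul_mem_right (Ideal.Quotient.mk _ u * Ideal.Quotient.mk _ v * r) hpI) using 1
    ring
  | mul_X u i hu =>
    obtain ⟨a, ha⟩ := hu
    refine ⟨a * f i, ?_⟩
    rw [map_mul, map_mul, mul_pow]
    convert I.add_mem (I.mul_mem_right (Ideal.Quotient.mk _ (X i) ^ p) ha)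
      (I.mul_mem_left (algebraMap A (R p c f) a) (relation p c f hp i)) using 1
    ring

theorem mem_maximal_iff (hp : (p : A) ∈ maximalIdeal A) (M : Ideal (R p c f)) [M.IsMaximal] {y : R p c f} {a : A}
    (h : y ^ p - algebraMap A (R p c f) a ∈ (maximalIdeal A).map (algebraMap A (R p c f))) :
    y ∈ M ↔ a ∈ maximalIdeal A := by
  have := isIntegral_R p c f
  have hM := map_le_maximal (A := A) M h
  constructor
  · intro hy
    have h1 : algebraMap A (R p c f) a ∈ M := by
      have := M.sub_mem (M.pow_mem_of_mem hy p (Fact.out : p.Prime).pos) hM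
      rwa [sub_sub_cancel] at this
    by_contra ha
    exact Ideal.IsMaximal.ne_top ‹_› (M.eq_top_of_isUnit_mem h1 ((IsLocalRing.notMem_maximalIdeal.mp ha).map _))
  · intro ha
    refine Ideal.IsPrime.mem_of_pow_mem inferInstance p ?_
    rw [← sub_add_cancel (y ^ p) (algebraMap A (R p c f) a)]
    exact M.add_mem hM (map_le_maximal M (Ideal.mem_map_of_mem _ ha))

theorem isLocalRing_R [Finite ι] (hp : (p : A) ∈ maximalIdeal A) : IsLocalRing (R p c f) := by
  have := (injective_R p c f).nontrivial
  refine isLocalRing_of_unique fun M N hM hN y hy => ?_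
  obtain ⟨a, ha⟩ := exists_pow p c f hp y
  exact (mem_maximal_iff p c f hp N ha).mpr ((mem_maximal_iff p c f hp M ha).mp hy)

omit [Fact p.Prime] [IsLocalRing A] in
theorem exists_span {T : Type*} [CommRing T] (π : R p c f →+* T)
    (hrel : ∀ i, π (Ideal.Quotient.mk _ (X i)) ^ p = π (algebraMap A _ (f i))) (hp0 : p ≠ 0) (y : R p c f) :
    ∃ l : {e : ι →₀ ℕ // ∀ i, e i < p} →₀ A, π y = l.sum (fun e a => π (algebraMap A (R p c f) a) *
      π (Ideal.Quotient.mk _ (monomial e.1 1))) := by
  classical
  letI : Algebra A T := (π.comp (algebraMap A (R p c f))).toAlgebra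
  have hsmul : ∀ (a : A) (t : T), a • t = π (algebraMap A (R p c f) a) * t := fun a t => rfl
  let μ : {e : ι →₀ ℕ // ∀ i, e i < p} → T := fun e => π (Ideal.Quotient.mk _ (monomial e.1 1))
  suffices h : π y ∈ Submodule.span A (Set.range μ) by
    obtain ⟨l, hl⟩ := Finsupp.mem_span_range_iff_exists_finsupp.mp h
    exact ⟨l, hl.symm⟩
  obtain ⟨q, rfl⟩ := Ideal.Quotient.mk_surjective y
  induction q using MvPolynomial.induction_on with
  | C a =>
    have e : π (Ideal.Quotient.mk _ (C a)) = a • μ ⟨0, fun i => Nat.pos_of_ne_zero hp0⟩ := by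
      rw [hsmul]
      simp only [μ]
      rw [show monomial (0 : ι →₀ ℕ) (1 : A) = 1 from rfl, map_one, map_one, mul_one]
      rfl
    rw [e]
    exact Submodule.smul_mem _ _ (Submodule.subset_span ⟨_, rfl⟩)
  | add u v hu hv => rw [map_add, map_add]; exact Submodule.add_mem _ hu hv
  | mul_X u i hu =>
    rw [map_mul, map_mul]
    let Lm : T →ₗ[A] T := LinearMap.mulRight A (π (Ideal.Quotient.mk _ (X i)))
    have hle : Submodule.span A (Set.range μ) ≤ (Submodule.span A (Set.range μ)).comap Lm := by
      rw [Submodule.span_le]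
      rintro _ ⟨e, rfl⟩
      change μ e * π (Ideal.Quotient.mk _ (X i)) ∈ Submodule.span A (Set.range μ)
      simp only [μ]
      rw [← map_mul, ← map_mul, X, monomial_mul, one_mul]
      by_cases h : e.1 i + 1 < p
      · refine Submodule.subset_span ⟨⟨e.1 + Finsupp.single i 1, fun j => ?_⟩, rfl⟩
        rcases eq_or_ne j i with rfl | hj
        · simpa using h
        · simpa [Finsupp.single_eq_of_ne hj] using e.2 j
      · have hei : e.1 i + 1 = p := by have := e.2 i; omega
        have e1 : e.1 + Finsupp.single i 1 = e.1.erase i + Finsupp.single i p := by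
          ext j
          rcases eq_or_ne j i with rfl | hj
          · simp [hei]
          · simp [Finsupp.single_eq_of_ne hj, Finsupp.erase_ne hj]
        have e2 : π (Ideal.Quotient.mk _ (monomial (e.1 + Finsupp.single i 1) (1 : A))) =
            f i • μ ⟨e.1.erase i, fun j => by
              rcases eq_or_ne j i with rfl | hj
              · simp [Nat.pos_of_ne_zero hp0]
              · simpa [Finsupp.erase_ne hj] using e.2 j⟩ := by
          rw [hsmul, e1, monomial_add_single, map_mul, map_mul, map_pow, map_pow, hrel, mul_comm]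
        rw [e2]
        exact Submodule.smul_mem _ _ (Submodule.subset_span ⟨_, rfl⟩)
    exact hle hu

/-- In a quotient where the residues of the `f i` stay `p`-independent, `p`-th power zero means zero. -/
theorem eq_zero_of_pow_eq_zero' {T : Type*} [CommRing T] [Nontrivial T] [CharP T p] (π : R p c f →+* T)
    (hπ : ∀ a ∈ maximalIdeal A, π (algebraMap A _ a) = 0)
    (hrel : ∀ i, π (Ideal.Quotient.mk _ (X i)) ^ p = π (algebraMap A _ (f i)))
    [CharP (ResidueField A) p]
    (hind : LinearIndependent (↥(frobenius (ResidueField A) p).fieldRange)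
      (fun e : {e : ι →₀ ℕ // ∀ i, e i < p} => e.1.prod fun i n => residue A (f i) ^ n))
    (y : R p c f) (hy : π y ^ p = 0) : π y = 0 := by
  classical
  let θ : A →+* T := π.comp (algebraMap A (R p c f))
  have hθ : ∀ a, θ a = 0 → residue A a = 0 := fun a ha => by
    rw [residue_eq_zero_iff]
    by_contra h
    exact not_isUnit_zero (ha ▸ (IsLocalRing.notMem_maximalIdeal.mp h).map θ)
  obtain ⟨l, hl⟩ := exists_span p c f π hrel (Fact.out : p.Prime).ne_zero y
  have h1 : θ (l.sum fun e b => b ^ p * e.1.prod fun i n => f i ^ n) = 0 := by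
    rw [← hy, hl, map_finsuppSum, Finsupp.sum, Finsupp.sum, sum_pow_char]
    refine Finset.sum_congr rfl fun e _ => ?_
    rw [map_mul, mul_pow, map_pow]
    congr 1
    rw [map_finsuppProd, monomial_eq, map_one, one_mul, map_finsuppProd, map_finsuppProd, Finsupp.prod,
      Finsupp.prod, ← Finset.prod_pow]
    refine Finset.prod_congr rfl fun i _ => ?_
    rw [map_pow, map_pow, map_pow, ← pow_mul, mul_comm, pow_mul, hrel]
    rfl
  have h2 := hθ _ h1
  rw [map_finsuppSum] at h2
  let l' : {e : ι →₀ ℕ // ∀ i, e i < p} →₀ ↥(frobenius (ResidueField A) p).fieldRange :=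
    l.mapRange (fun b => ⟨residue A b ^ p, RingHom.mem_fieldRange.mpr ⟨residue A b, frobenius_def p _⟩⟩)
      (Subtype.ext (by simp [zero_pow (Fact.out : p.Prime).ne_zero]))
  have h3 : l' = 0 := by
    refine linearIndependent_iff.mp hind l' ?_
    rw [Finsupp.linearCombination_apply]
    refine (Finsupp.sum_of_support_subset l' (s := l.support) Finsupp.support_mapRange _ ?_).trans ?_
    · intro e _; exact zero_smul _ _
    refine Eq.trans (Finset.sum_congr rfl fun e _ => ?_) h2
    simp only [l', Finsupp.mapRange_apply]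
    rw [map_mul, map_pow, map_finsuppProd]
    simp only [map_pow]
    rfl
  rw [hl]
  refine Finset.sum_eq_zero fun e _ => ?_
  change π (algebraMap A _ (l e)) * _ = 0
  rw [hπ _ ?_, zero_mul]
  have h4 := congrArg Subtype.val (DFunLike.congr_fun h3 e)
  rw [← residue_eq_zero_iff]
  exact eq_zero_of_pow_eq_zero (n := p) (by simpa [l'] using h4)

theorem maximalIdeal_eq (hp : (p : A) ∈ maximalIdeal A) [CharP (ResidueField A) p]
    [IsLocalRing (R p c f)]
    (hind : LinearIndependent (↥(frobenius (ResidueField A) p).fieldRange)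
      (fun e : {e : ι →₀ ℕ // ∀ i, e i < p} => e.1.prod fun i n => residue A (f i) ^ n)) :
    maximalIdeal (R p c f) = (maximalIdeal A).map (algebraMap A (R p c f)) := by
  have := isIntegral_R p c f
  refine le_antisymm (fun y hy => ?_) (map_le_maximal _)
  have hI : (maximalIdeal A).map (algebraMap A (R p c f)) ≠ ⊤ :=
    ne_top_of_le_ne_top (maximalIdeal.isMaximal (R p c f)).ne_top (map_le_maximal _)
  have := Ideal.Quotient.nontrivial_iff.mpr hI
  have hmk : ∀ a ∈ maximalIdeal A, Ideal.Quotient.mk _ (algebraMap A (R p c f) a) = (0 : _ ⧸ (maximalIdeal A).map (algebraMap A (R p c f))) :=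
    fun a ha => Ideal.Quotient.eq_zero_iff_mem.mpr (Ideal.mem_map_of_mem _ ha)
  have : CharP (R p c f ⧸ (maximalIdeal A).map (algebraMap A (R p c f))) p :=
    (CharP.charP_iff_prime_eq_zero (R := R p c f ⧸ (maximalIdeal A).map (algebraMap A (R p c f))) Fact.out).mpr
      (by rw [← map_natCast (Ideal.Quotient.mk _), ← map_natCast (algebraMap A (R p c f))]; exact hmk _ hp)
  obtain ⟨a, ha⟩ := exists_pow p c f hp y
  let π : R p c f →+* R p c f ⧸ (maximalIdeal A).map (algebraMap A (R p c f)) := Ideal.Quotient.mk _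
  have hrel : ∀ i, π (Ideal.Quotient.mk _ (X i)) ^ p = π (algebraMap A _ (f i)) := fun i => by
    rw [← map_pow]; exact Ideal.Quotient.eq.mpr (relation p c f hp i)
  have key : π y = 0 := eq_zero_of_pow_eq_zero' (T := R p c f ⧸ (maximalIdeal A).map (algebraMap A (R p c f))) p c f π hmk hrel hind y ?_
  · exact Ideal.Quotient.eq_zero_iff_mem.mp key
  rw [← map_pow]
  exact (Ideal.Quotient.eq.mpr ha).trans (hmk _ ((mem_maximal_iff p c f hp _ ha).mp hy))

end Groth.Agent.Alg.PPoly
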