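import Groth.Agent.Alg.PPoly

/-! Embedding dimension and regularity of `A[X]/(X_i^p + p(…) - f_i)` when `p ∈ m²`. -/

open IsLocalRing MvPolynomial TensorProduct

universe u

namespace Groth.Agent.Alg.PPoly

open MonicQuot PthRoot

theorem finrank_cotangent_of_surjective {S T : Type u} [CommRing S] [CommRing T] [IsLocalRing S]
    [IsLocalRing T] [IsNoetherianRing S] (q : S →+* T) (hq : Function.Surjective q)
    (hker : RingHom.ker q ≤ maximalIdeal S ^ 2) :
    Module.finrank (ResidueField T) (CotangentSpace T) = Module.finrank (ResidueField S) (CotangentSpace S) := by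
  have := isNoetherianRing_of_surjective S T q hq
  have hmap : (maximalIdeal S).map q = maximalIdeal T := by
    refine (Ideal.map_eq_top_or_isMaximal_of_surjective q hq (maximalIdeal.isMaximal S)).elim
      (fun h => absurd ?_ (maximalIdeal.isMaximal S).ne_top) fun h => IsLocalRing.eq_maximalIdeal h
    have h1 : (⊤ : Ideal S) ≤ maximalIdeal S ⊔ RingHom.ker q := by
      rw [show RingHom.ker q = Ideal.comap q ⊥ from rfl, ← Ideal.comap_map_of_surjective q hq, h, Ideal.comap_top]
    exact eq_top_iff.mpr (h1.trans (sup_le le_rfl (hker.trans (Ideal.pow_le_self two_ne_zero))))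
  have hcom : (maximalIdeal T ^ 2).comap q = maximalIdeal S ^ 2 := by
    rw [← hmap, ← Ideal.map_pow, Ideal.comap_map_of_surjective q hq, ← RingHom.ker_eq_comap_bot]
    exact sup_eq_left.mpr hker
  let b := Module.finBasis (ResidueField S) (CotangentSpace S)
  choose x hxb using fun i => Ideal.toCotangent_surjective (maximalIdeal S) (b i)
  obtain ⟨hgen, hind⟩ := family_of_basis b (fun i => (x i : S)) (fun i => (x i).2) hxb
  rw [finrank_eq (A := T) (fun i => q (x i : S)), Fintype.card_fin]
  · exact fun i => hmap ▸ Ideal.mem_map_of_mem q (x i).2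
  · rw [← hmap, ← Ideal.map_pow]
    refine (Ideal.map_mono hgen).trans (le_of_eq ?_)
    rw [Ideal.map_sup, Ideal.map_span, ← Set.range_comp]
    rfl
  · intro c hc i
    choose d hd using fun j => hq (c j)
    have h1 : ∑ j, d j * (x j : S) ∈ maximalIdeal S ^ 2 := by
      rw [← hcom, Ideal.mem_comap, map_sum]
      simpa [hd] using hc
    rw [← hmap, ← hd i]
    exact Ideal.mem_map_of_mem q (hind d h1 i)

variable {A : Type u} [CommRing A] [IsLocalRing A]

theorem li_iff {r : ℕ} (f : Fin r → A) :
    LinearIndependent (ResidueField A) (fun i => (1 : ResidueField A) ⊗ₜ[A] KaehlerDifferential.D ℤ A (f i)) ↔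
      ∀ j, ∃ D : Derivation ℤ A (ResidueField A), ∀ i, D (f i) = if i = j then 1 else 0 := by
  refine ⟨exists_dual, fun h => Fintype.linearIndependent_iff.mpr fun g hg j => ?_⟩
  obtain ⟨D, hD⟩ := h j
  obtain ⟨L, hL⟩ := linear_of_derivation D
  simpa [map_sum, hL, hD] using congrArg L hg

theorem deriv_sq (D : Derivation ℤ A (ResidueField A)) {a : A} (ha : a ∈ maximalIdeal A ^ 2) : D a = 0 := by
  rw [sq] at ha
  refine Submodule.mul_induction_on ha (fun u hu w hw => ?_) fun u w hu hw => by rw [map_add, hu, hw, add_zero]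
  simp [Algebra.smul_def, (residue_eq_zero_iff u).mpr hu, (residue_eq_zero_iff w).mpr hw]

theorem li_quotient_iff {r : ℕ} (f : Fin r → A) [IsLocalRing (A ⧸ maximalIdeal A ^ 2)] :
    LinearIndependent (ResidueField A) (fun i => (1 : ResidueField A) ⊗ₜ[A] KaehlerDifferential.D ℤ A (f i)) ↔
      LinearIndependent (ResidueField (A ⧸ maximalIdeal A ^ 2)) (fun i => (1 : ResidueField (A ⧸ maximalIdeal A ^ 2))
        ⊗ₜ[A ⧸ maximalIdeal A ^ 2] KaehlerDifferential.D ℤ (A ⧸ maximalIdeal A ^ 2) (Ideal.Quotient.mk _ (f i))) := by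
  let q : A →+* A ⧸ maximalIdeal A ^ 2 := Ideal.Quotient.mk _
  have : IsLocalHom q := IsLocalRing.of_surjective' q Ideal.Quotient.mk_surjective |> fun _ =>
    Ideal.Quotient.mk_surjective.isLocalHom
  let e := ResidueField.map q
  have he : ∀ a, e (residue A a) = residue _ (q a) := fun a => rfl
  have hes : Function.Surjective e := fun z => by
    obtain ⟨z, rfl⟩ := residue_surjective z
    obtain ⟨a, rfl⟩ := Ideal.Quotient.mk_surjective z
    exact ⟨residue A a, rfl⟩
  let E := RingEquiv.ofBijective e ⟨e.injective, hes⟩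
  refine (li_iff f).trans (Iff.trans ?_ (li_iff (A := A ⧸ maximalIdeal A ^ 2) (fun i => q (f i))).symm)
  refine forall_congr' fun j => ⟨fun ⟨D, hD⟩ => ?_, fun ⟨D, hD⟩ => ?_⟩
  · have hw : ∀ a b : A, q a = q b → E (D a) = E (D b) := fun a b hab => by
      rw [← sub_eq_zero, ← map_sub, ← map_sub, deriv_sq D (Ideal.Quotient.eq.mp hab), map_zero]
    choose s hs using fun z : A ⧸ maximalIdeal A ^ 2 => Ideal.Quotient.mk_surjective z
    refine ⟨Derivation.mk' ((AddMonoidHom.mk' (fun z => E (D (s z))) fun z w => by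
      rw [hw (s (z + w)) (s z + s w) (by simp [q, hs]), map_add, map_add]).toIntLinearMap) fun z w => ?_,
      fun i => ?_⟩
    · simp only [AddMonoidHom.coe_toIntLinearMap, AddMonoidHom.mk'_apply]
      rw [hw (s (z * w)) (s z * s w) (by simp [q, hs]), D.leibniz, map_add]
      simp only [Algebra.smul_def, map_mul]
      rw [show ∀ a, E (algebraMap A (ResidueField A) a) = residue _ (q a) from he,
        show ∀ a, E (algebraMap A (ResidueField A) a) = residue _ (q a) from he, hs, hs]
      rfl
    · simp only [Derivation.coe_mk', AddMonoidHom.coe_toIntLinearMap, AddMonoidHom.mk'_apply]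
      rw [hw _ (f i) (by simp [q, hs]), hD i]
      split_ifs <;> simp
  · refine ⟨Derivation.mk' ((E.symm.toAddMonoidHom.comp (D.toLinearMap.toAddMonoidHom.comp q.toAddMonoidHom)).toIntLinearMap)
      fun a b => ?_, fun i => ?_⟩
    · change E.symm (D (q (a * b))) = a • E.symm (D (q b)) + b • E.symm (D (q a))
      apply E.injective
      simp only [map_mul, map_add, Derivation.leibniz, Algebra.smul_def, E.apply_symm_apply]
      rw [show ∀ a, E (algebraMap A (ResidueField A) a) = residue _ (q a) from he,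
        show ∀ a, E (algebraMap A (ResidueField A) a) = residue _ (q a) from he]
      rfl
    · change E.symm (D (q (f i))) = _
      rw [hD i]
      split_ifs <;> simp

theorem isRegularRing_iff [IsNoetherianRing A] (p : ℕ) [Fact p.Prime] {r : ℕ} (c : Fin r → Fin p → A)
    (f : Fin r → A) (hp : (p : A) ∈ maximalIdeal A ^ 2) [IsLocalRing (R p c f)] :
    Module.finrank (ResidueField (R p c f)) (CotangentSpace (R p c f)) =
      Module.finrank (ResidueField A) (CotangentSpace A) ↔
    LinearIndependent (ResidueField A) (fun i => (1 : ResidueField A) ⊗ₜ[A] KaehlerDifferential.D ℤ A (f i)) := by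
  let m2 := maximalIdeal A ^ 2
  have hm2 : m2 ≠ ⊤ := ne_top_of_le_ne_top (maximalIdeal.isMaximal A).ne_top (Ideal.pow_le_self two_ne_zero)
  have := Ideal.Quotient.nontrivial_iff.mpr hm2
  have : IsLocalRing (A ⧸ maximalIdeal A ^ 2) := IsLocalRing.of_surjective' (Ideal.Quotient.mk m2) Ideal.Quotient.mk_surjective
  have hp0 : (p : A ⧸ maximalIdeal A ^ 2) = 0 := by
    rw [← map_natCast (Ideal.Quotient.mk (maximalIdeal A ^ 2))]; exact Ideal.Quotient.eq_zero_iff_mem.mpr hp
  have : CharP (A ⧸ maximalIdeal A ^ 2) p := (CharP.charP_iff_prime_eq_zero (R := A ⧸ maximalIdeal A ^ 2) Fact.out).mpr hp0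
  let q : A →+* A ⧸ maximalIdeal A ^ 2 := Ideal.Quotient.mk _
  let f' : Fin r → A ⧸ maximalIdeal A ^ 2 := fun i => q (f i)
  obtain ⟨hl, -, hiff⟩ := tower_main p r (A ⧸ maximalIdeal A ^ 2) f'
  have := hl
  have := finite_R p c f
  have := isIntegral_R p c f
  have : IsNoetherianRing (R p c f) := IsNoetherianRing.of_finite A _
  let φ : MvPolynomial (Fin r) A →+* Tower p f' :=
    (Ideal.Quotient.mk _).comp (MvPolynomial.map q)
  let Φ : R p c f →+* Tower p f' := Ideal.Quotient.lift _ φ (lift_zero _ φ fun i => by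
    simp only [φ, F, RingHom.comp_apply, map_add, map_sub, map_mul, map_natCast, map_pow, MvPolynomial.map_X, MvPolynomial.map_C]
    rw [tower_relation, show (p : Tower p f') = 0 by
      rw [← map_natCast (algebraMap (A ⧸ maximalIdeal A ^ 2) (Tower p f')), hp0, map_zero], zero_mul, add_zero]
    exact sub_self _)
  have hΦ : Function.Surjective Φ := Ideal.Quotient.lift_surjective_of_surjective _ _
    (Ideal.Quotient.mk_surjective.comp (MvPolynomial.map_surjective q Ideal.Quotient.mk_surjective))
  let I := m2.map (algebraMap A (R p c f))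
  let γ : MvPolynomial (Fin r) (A ⧸ maximalIdeal A ^ 2) →+* R p c f ⧸ I :=
    eval₂Hom (Ideal.Quotient.lift _ ((Ideal.Quotient.mk I).comp (algebraMap A (R p c f)))
      fun a ha => Ideal.Quotient.eq_zero_iff_mem.mpr (Ideal.mem_map_of_mem _ ha))
      fun i => Ideal.Quotient.mk I (Ideal.Quotient.mk _ (X i))
  have hγ : ∀ i, γ (X i ^ p - C (f' i)) = 0 := fun i => by
    simp only [γ, f', q, map_sub, map_pow, eval₂Hom_X', eval₂Hom_C, Ideal.Quotient.lift_mk, RingHom.comp_apply]
    rw [sub_eq_zero, ← map_pow (Ideal.Quotient.mk I)]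
    exact Ideal.Quotient.eq.mpr (relation p c f hp i)
  let G : Tower p f' →+* R p c f ⧸ I := Ideal.Quotient.lift _ γ fun a ha => by
    refine (Ideal.span_le (I := RingHom.ker γ)).mpr ?_ ha
    rintro _ ⟨i, rfl⟩; exact hγ i
  have hGΦ : G.comp Φ = Ideal.Quotient.mk I := by
    refine Ideal.Quotient.ringHom_ext (MvPolynomial.ringHom_ext (fun a => ?_) fun i => ?_)
    · change γ (MvPolynomial.map q (C a)) = _
      rw [MvPolynomial.map_C]
      exact eval₂Hom_C _ _ _
    · simp [G, Φ, φ, γ]
  have hker : RingHom.ker Φ ≤ maximalIdeal (R p c f) ^ 2 := fun z hz => by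
    have h1 : z ∈ I := Ideal.Quotient.eq_zero_iff_mem.mp (by rw [← hGΦ, RingHom.comp_apply, RingHom.mem_ker.mp hz, map_zero])
    have h2 : I ≤ maximalIdeal (R p c f) ^ 2 := by
      change (maximalIdeal A ^ 2).map _ ≤ _
      rw [Ideal.map_pow]
      exact Ideal.pow_right_mono (map_le_maximal _) 2
    exact h2 h1
  have hA : Module.finrank (ResidueField (A ⧸ maximalIdeal A ^ 2)) (CotangentSpace (A ⧸ maximalIdeal A ^ 2)) =
      Module.finrank (ResidueField A) (CotangentSpace A) :=
    finrank_cotangent_of_surjective q Ideal.Quotient.mk_surjective (by rw [Ideal.mk_ker])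
  rw [← finrank_cotangent_of_surjective Φ hΦ hker, ← hA, li_quotient_iff f]
  exact eq_comm.trans hiff

end Groth.Agent.Alg.PPoly
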