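import Mathlib.RingTheory.AlgebraicIndependent.TranscendenceBasis
import Mathlib.RingTheory.Algebraic.Integral
import Mathlib.RingTheory.Trace.Basic
import Mathlib.RingTheory.MvPolynomial.Basic
import Mathlib.RingTheory.Polynomial.UniqueFactorization
import Mathlib.RingTheory.UniqueFactorizationDomain.GCDMonoid
import Mathlib.RingTheory.Polynomial.RationalRoot
import Mathlib.RingTheory.Int.Basic
import Mathlib.RingTheory.Ideal.AssociatedPrime.Finiteness
import Mathlib.RingTheory.Ideal.AssociatedPrime.Basic
import Mathlib.RingTheory.Localization.FractionRing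
import Mathlib.RingTheory.IntegralClosure.IntegrallyClosed
import Mathlib.RingTheory.Ideal.MinimalPrime.Noetherian
import Mathlib.RingTheory.FiniteType
import Mathlib.RingTheory.Ideal.Quotient.Nilpotent
import Mathlib.Algebra.CharP.Algebra
import Mathlib.Tactic.LinearCombination

/-!
Reductions modulo almost all primes of a reduced algebra of finite type over `ℤ` are reduced.
-/

set_option autoImplicit false
universe u

namespace Groth.Agent.Alg.ReducedModP

open scoped nonZeroDivisors

/-- Only finitely many prime numbers are zero divisors on a finite module over a noetherian ring. -/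
theorem finite_prime_zeroDivisors (R M : Type u) [CommRing R] [IsNoetherianRing R] [AddCommGroup M]
    [Module R M] [Module.Finite R M] :
    {p : ℕ | p.Prime ∧ ∃ m : M, m ≠ 0 ∧ (p : R) • m = 0}.Finite := by
  classical
  refine Set.Finite.subset (Set.Finite.biUnion (associatedPrimes.finite R M)
    (t := fun P => {p : ℕ | p.Prime ∧ (p : R) ∈ P}) fun P hP => ?_) ?_
  · refine Set.Subsingleton.finite fun p hp q hq => ?_
    by_contra hne
    obtain ⟨a, b, hab⟩ := Nat.isCoprime_iff_coprime.2 ((Nat.coprime_primes hp.1 hq.1).2 hne)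
    refine (IsAssociatedPrime.isPrime hP).ne_top ((Ideal.eq_top_iff_one _).2 ?_)
    have h1 : ((a : R) * (p : R) + (b : R) * (q : R)) = 1 := by exact_mod_cast congrArg (Int.cast (R := R)) hab
    rw [← h1]
    exact P.add_mem (P.mul_mem_left _ hp.2) (P.mul_mem_left _ hq.2)
  · rintro p ⟨hp, m, hm, hpm⟩
    have h2 : (p : R) ∈ ⋃ P ∈ associatedPrimes R M, (P : Set R) := by
      rw [biUnion_associatedPrimes_eq_zero_divisors]
      exact ⟨m, hm, hpm⟩
    obtain ⟨P, hP, hpP⟩ := Set.mem_iUnion₂.1 h2
    exact Set.mem_iUnion₂.2 ⟨P, hP, hp, hpP⟩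

/-- The statement for a domain of characteristic zero. -/
theorem core (B : Type u) [CommRing B] [IsDomain B] [CharZero B] [Algebra.FiniteType ℤ B] :
    ∃ bad : Set ℕ, bad.Finite ∧ ∀ p : ℕ, p.Prime → p ∉ bad →
      ∀ (x : B) (k : ℕ), (p : B) ∣ x ^ k → (p : B) ∣ x := by
  classical
  obtain ⟨s, hs⟩ := (inferInstance : Algebra.FiniteType ℤ B).out
  have : Algebra.IsAlgebraic (Algebra.adjoin ℤ (s : Set B)) B := by
    rw [hs]
    exact ⟨fun x => isAlgebraic_algebraMap (⟨x, Algebra.mem_top⟩ : (⊤ : Subalgebra ℤ B))⟩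
  have hfs : FaithfulSMul ℤ B := (faithfulSMul_iff_algebraMap_injective ℤ B).2 (by
    rw [algebraMap_int_eq]; exact Int.cast_injective)
  obtain ⟨t, ht, htb⟩ := exists_isTranscendenceBasis_subset (R := ℤ) (s : Set B)
  have : Finite t := (s.finite_toSet.subset ht).to_subtype
  let P := MvPolynomial t ℤ
  let _ : Algebra P B := (MvPolynomial.aeval (Subtype.val : t → B)).toRingHom.toAlgebra
  have hinjPB : Function.Injective (algebraMap P B) := algebraicIndependent_iff_injective_aeval.1 htb.1
  have : Algebra.IsAlgebraic P B := by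
    have h1 := htb.isAlgebraic
    let e := htb.1.aevalEquiv
    refine ⟨fun x => ?_⟩
    obtain ⟨f, hf, hfx⟩ := h1.1 x
    refine ⟨f.map e.symm.toRingEquiv.toRingHom,
      (Polynomial.map_ne_zero_iff e.symm.injective).2 hf, ?_⟩
    rw [Polynomial.aeval_def, Polynomial.eval₂_map, ← hfx, Polynomial.aeval_def]
    congr 1
    refine RingHom.ext fun r => ?_
    show MvPolynomial.aeval (Subtype.val : t → B) (e.symm r) = (r : B)
    rw [← htb.1.algebraMap_aevalEquiv, AlgEquiv.apply_symm_apply]
    rfl
  let K := FractionRing P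
  let L := FractionRing B
  have : IsScalarTower P B L := inferInstance
  have : FaithfulSMul P L := (faithfulSMul_iff_algebraMap_injective P L).2 (by
    rw [IsScalarTower.algebraMap_eq P B L]
    exact (IsFractionRing.injective B L).comp hinjPB)
  let _ : Algebra K L := FractionRing.liftAlgebra P L
  have : CharZero P := charZero_of_injective_algebraMap (R := ℤ) (MvPolynomial.C_injective t ℤ)
  have : CharZero K := charZero_of_injective_algebraMap (IsFractionRing.injective P K)
  have halg : ∀ b : B, IsAlgebraic K (algebraMap B L b) := fun b => by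
    have h2 : IsAlgebraic P (algebraMap B L b) :=
      (Algebra.IsAlgebraic.isAlgebraic (R := P) b).algHom (IsScalarTower.toAlgHom P B L)
    exact h2.extendScalars (IsFractionRing.injective P K)
  let W : IntermediateField K L := IntermediateField.adjoin K ((algebraMap B L) '' (s : Set B))
  have : Finite ((algebraMap B L) '' (s : Set B)) := (s.finite_toSet.image _).to_subtype
  have : FiniteDimensional K W := IntermediateField.finiteDimensional_adjoin fun z hz => by
    obtain ⟨b, -, rfl⟩ := hz
    exact (halg b).isIntegral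
  have hW : ∀ z : L, z ∈ W := by
    have hB : ∀ b : B, algebraMap B L b ∈ W := by
      intro b
      have hb : b ∈ Algebra.adjoin ℤ (s : Set B) := hs ▸ Algebra.mem_top
      induction hb using Algebra.adjoin_induction with
      | mem z hz => exact IntermediateField.subset_adjoin K _ ⟨z, hz, rfl⟩
      | algebraMap r => rw [algebraMap_int_eq, eq_intCast, map_intCast]; exact intCast_mem W r
      | add a c _ _ ha hc => rw [map_add]; exact add_mem ha hc
      | mul a c _ _ ha hc => rw [map_mul]; exact mul_mem ha hc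
    intro z
    obtain ⟨a, c, -, rfl⟩ := IsFractionRing.div_surjective (A := B) z
    exact div_mem (hB a) (hB c)
  have : FiniteDimensional K L := by
    have : W = ⊤ := eq_top_iff.2 fun z _ => hW z
    exact Module.Finite.equiv ((IntermediateField.equivOfEq this).trans IntermediateField.topEquiv).toLinearEquiv
  -- a basis of integral elements of `B`
  have hspan : ⊤ ≤ Submodule.span K (Set.range (algebraMap B L)) := by
    intro z _
    have hz := hW z
    rw [← IntermediateField.mem_toSubalgebra, IntermediateField.adjoin_toSubalgebra_of_isAlgebraic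
      fun w hw => Algebra.IsAlgebraic.isAlgebraic w] at hz
    refine Submodule.span_mono ?_ ((Algebra.adjoin_eq_span (R := K) _).le hz)
    refine (Submonoid.closure_le (S := MonoidHom.mrange (algebraMap B L).toMonoidHom)).2 ?_
    rintro _ ⟨b, -, rfl⟩
    exact ⟨b, rfl⟩
  let b0 := Module.Basis.ofSpan hspan
  let ι := (linearIndepOn_empty K (id : L → L)).extend (Set.empty_subset (Set.range (algebraMap B L)))
  have hb0 : ∀ i, ∃ b : B, algebraMap B L b = b0 i := fun i =>
    (Module.Basis.ofSpan_subset hspan ⟨i, rfl⟩)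
  choose bb hbb using hb0
  have : Fintype ι := Module.Basis.fintypeIndexOfRankLtAleph0 b0 (Module.rank_lt_aleph0 K L)
  obtain ⟨g, hg0, hg⟩ := Algebra.IsAlgebraic.exists_integral_multiples P (A := B)
    (s ∪ Finset.univ.image bb)
  have hgK : algebraMap P K g ≠ 0 := fun h => hg0 (IsFractionRing.injective P K (by rw [h, map_zero]))
  let e := b0.isUnitSMul (w := fun _ => algebraMap P K g) fun _ => isUnit_iff_ne_zero.2 hgK
  let eB : ι → B := fun i => g • bb i
  have heB : ∀ i, algebraMap B L (eB i) = e i := fun i => by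
    rw [Module.Basis.isUnitSMul_apply, algebraMap_smul, ← hbb]
    exact map_smul (IsScalarTower.toAlgHom P B L) g (bb i)
  have heint : ∀ i, IsIntegral P (eB i) := fun i =>
    hg _ (Finset.mem_union_right _ (Finset.mem_image_of_mem _ (Finset.mem_univ i)))
  -- every element has an integral multiple by a power of `g`
  have hpow : ∀ b : B, ∃ j : ℕ, IsIntegral P (g ^ j • b) := by
    intro b
    have hb : b ∈ Algebra.adjoin ℤ (s : Set B) := hs ▸ Algebra.mem_top
    induction hb using Algebra.adjoin_induction with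
    | mem z hz => exact ⟨1, by rw [pow_one]; exact hg z (Finset.mem_union_left _ hz)⟩
    | algebraMap r => exact ⟨0, by rw [pow_zero, one_smul, algebraMap_int_eq, eq_intCast, ← map_intCast (algebraMap P B)]; exact isIntegral_algebraMap⟩
    | add a c _ _ ha hc =>
      obtain ⟨i, hi⟩ := ha
      obtain ⟨j, hj⟩ := hc
      refine ⟨j + i, ?_⟩
      rw [smul_add]
      refine IsIntegral.add ?_ ?_
      · rw [pow_add, mul_smul]
        exact hi.smul _
      · rw [add_comm, pow_add, mul_smul]
        exact hj.smul _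
    | mul a c _ _ ha hc =>
      obtain ⟨i, hi⟩ := ha
      obtain ⟨j, hj⟩ := hc
      exact ⟨i + j, by rw [pow_add, ← smul_mul_smul_comm]; exact hi.mul hj⟩
  -- the trace matrix
  have hT : ∀ i j, ∃ r : P, algebraMap P K r = Algebra.trace K L (e i * e j) := fun i j => by
    refine IsIntegrallyClosed.isIntegral_iff.1 (Algebra.isIntegral_trace ?_)
    rw [← heB, ← heB, ← map_mul]
    exact ((heint i).mul (heint j)).map (IsScalarTower.toAlgHom P B L)
  choose T hT using hT
  let D := (Matrix.of T).det
  have hTK : (Matrix.of T).map (algebraMap P K) = (Algebra.traceForm K L).toMatrix e := by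
    ext i j
    rw [BilinForm.toMatrix_apply, Algebra.traceForm_apply]
    exact hT i j
  have hD : D ≠ 0 := fun h => det_traceForm_ne_zero e (by
    rw [← hTK, ← RingHom.mapMatrix_apply, ← RingHom.map_det]
    show algebraMap P K D = 0
    rw [h, map_zero])
  let Dg : B := algebraMap P B (D * g)
  have hDg : Dg ≠ 0 := fun h => mul_ne_zero hD hg0 (hinjPB (by rw [map_zero]; exact h))
  have : IsNoetherianRing B := Algebra.FiniteType.isNoetherianRing ℤ B
  refine ⟨_, finite_prime_zeroDivisors B (B ⧸ Ideal.span {Dg}), fun p hp hbad x k hxk => ?_⟩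
  have hbad' : ∀ c : B, Dg ∣ (p : B) * c → Dg ∣ c := by
    intro c hc
    by_contra hcon
    exact hbad ⟨hp, Ideal.Quotient.mk _ c, fun h => hcon (Ideal.mem_span_singleton.1
      (Ideal.Quotient.eq_zero_iff_mem.1 h)), Ideal.Quotient.eq_zero_iff_mem.2 (Ideal.mem_span_singleton.2 hc)⟩
  -- cancellation of powers of `D * g`
  have hcancel : ∀ (n : ℕ) (y : B), (p : B) ∣ Dg ^ n * y → (p : B) ∣ y := by
    intro n
    induction n with
    | zero => intro y hy; rwa [pow_zero, one_mul] at hy
    | succ n ih =>
      intro y hy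
      refine ih y ?_
      obtain ⟨c, hc⟩ := hy
      obtain ⟨d, hd⟩ := hbad' c ⟨Dg ^ n * y, by rw [← hc]; ring⟩
      exact ⟨d, mul_left_cancel₀ hDg (by rw [← mul_assoc, ← pow_succ', hc, hd]; ring)⟩
  rcases Nat.eq_zero_or_pos k with rfl | hk
  · rw [pow_zero] at hxk
    exact hxk.trans (one_dvd x)
  obtain ⟨b, hb⟩ := hxk
  obtain ⟨j₁, hj₁⟩ := hpow x
  obtain ⟨j₂, hj₂⟩ := hpow b
  let j := j₁ + j₂
  set z := g ^ j • x with hzdef
  have hz : IsIntegral P z := by
    rw [hzdef, show j = j₂ + j₁ from add_comm _ _, pow_add, mul_smul]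
    exact hj₁.smul _
  set b' := g ^ (j * k) • b with hb'def
  have hb' : IsIntegral P b' := by
    rw [hb'def, show j * k = (j * k - j₂) + j₂ from (Nat.sub_add_cancel
      (le_trans (Nat.le_add_left j₂ j₁) (Nat.le_mul_of_pos_right _ hk))).symm, pow_add, mul_smul]
    exact hj₂.smul _
  have hzk : z ^ k = (p : B) * b' := by
    rw [hzdef, hb'def, smul_pow, ← pow_mul, hb, mul_smul_comm]
  have hpP : Prime (p : P) := by
    rw [← map_natCast (MvPolynomial.C : ℤ →+* P), MvPolynomial.prime_C_iff]
    exact Nat.prime_iff_prime_int.1 hp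
  have hpK : (p : K) ≠ 0 := Nat.cast_ne_zero.2 hp.ne_zero
  -- traces are divisible by `p`
  have htr : ∀ y : B, IsIntegral P y → ∃ r : P,
      Algebra.trace K L (algebraMap B L (z * y)) = algebraMap P K (p * r) := by
    intro y hy
    obtain ⟨τ, hτ⟩ := IsIntegrallyClosed.isIntegral_iff.1 (Algebra.isIntegral_trace (L := K)
      ((hz.mul hy).map (IsScalarTower.toAlgHom P B L)))
    let E := AlgebraicClosure K
    let C := integralClosure P E
    let J : Ideal C := Ideal.span {(p : C)}
    have hσ : ∀ σ : L →ₐ[K] E, ∃ c : C, c ∈ J.radical ∧ (c : E) = σ (algebraMap B L (z * y)) := by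
      intro σ
      have hi : ∀ w : B, IsIntegral P w → IsIntegral P (σ (algebraMap B L w)) := fun w hw =>
        (hw.map (IsScalarTower.toAlgHom P B L)).map (σ.restrictScalars P)
      refine ⟨⟨_, hi _ (hz.mul hy)⟩, ⟨k, Ideal.mem_span_singleton.2
        ⟨⟨_, hi _ (hb'.mul (hy.pow k))⟩, Subtype.ext ?_⟩⟩, rfl⟩
      simp only [SubmonoidClass.coe_pow, MulMemClass.coe_mul]
      rw [← map_pow, ← map_pow, mul_pow, hzk, mul_assoc, map_mul, map_mul, map_natCast, map_natCast]
      rfl
    choose c hcJ hc using hσ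
    obtain ⟨M, hM⟩ : ∑ σ, c σ ∈ J.radical := sum_mem fun σ _ => hcJ σ
    obtain ⟨q, hq⟩ := Ideal.mem_span_singleton.1 hM
    have hsum : algebraMap K E (algebraMap P K τ) = ((∑ σ, c σ : C) : E) := by
      rw [hτ]
      refine (trace_eq_sum_embeddings E).trans ?_
      rw [AddSubmonoidClass.coe_finsetSum]
      exact Finset.sum_congr rfl fun σ _ => (hc σ).symm
    have hint : IsIntegral P (algebraMap P K (τ ^ M) / (p : K)) := by
      refine (isIntegral_algebraMap_iff (algebraMap K E).injective).1 ?_
      have : algebraMap K E (algebraMap P K (τ ^ M) / (p : K)) = (q : E) := by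
        rw [map_div₀, map_natCast, map_pow, map_pow, hsum, ← SubmonoidClass.coe_pow, hq,
          MulMemClass.coe_mul]
        have hc' : ((p : C) : E) = (p : E) := map_natCast C.val p
        rw [hc', mul_div_cancel_left₀]
        exact Nat.cast_ne_zero.2 hp.ne_zero
      rw [this]
      exact q.2
    obtain ⟨r, hr⟩ := IsIntegrallyClosed.isIntegral_iff.1 hint
    have hdvd : (p : P) ∣ τ ^ M := by
      refine ⟨r, IsFractionRing.injective P K ?_⟩
      rw [map_mul, hr, map_natCast, mul_div_cancel₀ _ hpK]
    obtain ⟨r', hr'⟩ := hpP.dvd_of_dvd_pow hdvd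
    exact ⟨r', by rw [← hr']; exact hτ.symm⟩
  -- Cramer
  choose r hr using fun i => htr (eB i) (heint i)
  let c : ι → K := fun i => e.repr (algebraMap B L z) i
  have hcT : Matrix.vecMul c ((Matrix.of T).map (algebraMap P K)) = fun l => algebraMap P K (p * r l) := by
    funext l
    rw [← hr l, map_mul (algebraMap B L), heB]
    conv_rhs => rw [← e.sum_repr (algebraMap B L z), Finset.sum_mul, map_sum]
    simp only [Matrix.vecMul, dotProduct, Matrix.map_apply, Matrix.of_apply]
    exact Finset.sum_congr rfl fun i _ => by rw [smul_mul_assoc, map_smul, ← hT, smul_eq_mul]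
  have hcD : ∀ i, ∃ d : P, algebraMap P K D * c i = algebraMap P K (p * d) := by
    intro i
    let M := (Matrix.of T).map (algebraMap P K)
    let Ad : Matrix ι ι P := (Matrix.of T).adjugate
    refine ⟨∑ l, r l * Ad l i, ?_⟩
    have h1 : Matrix.vecMul c (M * M.adjugate) = Matrix.vecMul (Matrix.vecMul c M) M.adjugate :=
      (Matrix.vecMul_vecMul _ _ _).symm
    rw [Matrix.mul_adjugate, Matrix.vecMul_smul, Matrix.vecMul_one, hcT] at h1
    have hdet : M.det = algebraMap P K D := (RingHom.map_det _ _).symm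
    have hadj : M.adjugate = Ad.map (algebraMap P K) := (RingHom.map_adjugate _ _).symm
    have h2 := congrFun h1 i
    rw [Pi.smul_apply, smul_eq_mul, hdet, hadj] at h2
    rw [h2, Finset.mul_sum, map_sum]
    simp [Matrix.vecMul, dotProduct, mul_assoc]
    rfl
  choose d hd using hcD
  have hDz : algebraMap P B D * z = (p : B) * ∑ i, algebraMap P B (d i) * eB i := by
    refine IsFractionRing.injective B L ?_
    rw [map_mul, map_mul, map_natCast, map_sum, Finset.mul_sum, ← IsScalarTower.algebraMap_apply]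
    conv_lhs => rw [← e.sum_repr (algebraMap B L z), Finset.mul_sum]
    refine Finset.sum_congr rfl fun i _ => ?_
    show algebraMap P L D * c i • e i = _
    rw [IsScalarTower.algebraMap_apply P K L, ← Algebra.smul_def, smul_smul, hd, map_mul (algebraMap B L),
      heB, ← IsScalarTower.algebraMap_apply, IsScalarTower.algebraMap_apply P K L (d i),
      ← Algebra.smul_def, map_mul, map_natCast, mul_smul, Nat.cast_smul_eq_nsmul, nsmul_eq_mul]
  refine hcancel (j + 1) x ((Dvd.dvd.mul_left ⟨_, hDz⟩ ((algebraMap P B D) ^ j * algebraMap P B g)).trans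
    (dvd_of_eq ?_))
  show (algebraMap P B D) ^ j * algebraMap P B g * (algebraMap P B D * z) =
    (algebraMap P B (D * g)) ^ (j + 1) * x
  rw [hzdef, Algebra.smul_def, map_pow, map_mul, mul_pow, pow_succ, pow_succ]
  ring

/-- The statement for any domain of finite type over `ℤ`. -/
theorem core_domain (B : Type u) [CommRing B] [IsDomain B] [Algebra.FiniteType ℤ B] :
    ∃ bad : Set ℕ, bad.Finite ∧ ∀ p : ℕ, p.Prime → p ∉ bad →
      ∀ (x : B) (k : ℕ), (p : B) ∣ x ^ k → (p : B) ∣ x := by
  obtain ⟨q, hq⟩ := CharP.exists B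
  rcases CharP.char_is_prime_or_zero B q with hqp | rfl
  · refine ⟨{q}, Set.finite_singleton q, fun p hp hne x k _ => IsUnit.dvd ?_⟩
    obtain ⟨a, b, hab⟩ := Nat.isCoprime_iff_coprime.2 ((Nat.coprime_primes hp hqp).2 hne)
    have h1 : ((a : B) * (p : B) + (b : B) * (q : B)) = 1 := by
      exact_mod_cast congrArg (Int.cast (R := B)) hab
    rw [CharP.cast_eq_zero B q, mul_zero, add_zero, mul_comm] at h1
    exact IsUnit.of_mul_eq_one _ h1
  · have : CharZero B := CharP.charP_to_charZero B
    exact core B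

/-- Reductions of a reduced ring of finite type over `ℤ` modulo almost all primes are reduced. -/
theorem finite_not_isReduced (A : Type u) [CommRing A] [Algebra.FiniteType ℤ A] [IsReduced A] :
    {p : ℕ | p.Prime ∧ ¬ IsReduced (A ⧸ Ideal.span {(p : A)})}.Finite := by
  classical
  have : IsNoetherianRing A := Algebra.FiniteType.isNoetherianRing ℤ A
  let ι := minimalPrimes A
  have : Finite ι := (minimalPrimes.finite_of_isNoetherianRing A).to_subtype
  have hι : ∀ P : ι, (P : Ideal A).IsPrime := fun P => Ideal.minimalPrimes_isPrime P.2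
  have hdom : ∀ P : ι, ∃ bad : Set ℕ, bad.Finite ∧ ∀ p : ℕ, p.Prime → p ∉ bad →
      ∀ (x : A ⧸ (P : Ideal A)) (k : ℕ), (p : A ⧸ (P : Ideal A)) ∣ x ^ k →
        (p : A ⧸ (P : Ideal A)) ∣ x := fun P => by
    have := hι P
    have : Algebra.FiniteType ℤ (A ⧸ (P : Ideal A)) :=
      ‹Algebra.FiniteType ℤ A›.of_surjective (Ideal.Quotient.mkₐ ℤ (P : Ideal A))
        Ideal.Quotient.mk_surjective
    exact @core_domain (A ⧸ (P : Ideal A)) _ _ (by
      convert this using 1 <;> first | rfl | exact Subsingleton.elim _ _)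
  choose bad hbad hgood using hdom
  let f : A →ₗ[A] ((P : ι) → A ⧸ (P : Ideal A)) :=
    LinearMap.pi fun P => (Ideal.Quotient.mkₐ A (P : Ideal A)).toLinearMap
  have hf : ∀ x, f x = 0 → x = 0 := by
    intro x hx
    have h1 : x ∈ sInf ((⊥ : Ideal A).minimalPrimes) := Ideal.mem_sInf.2 fun {P} hP =>
      Ideal.Quotient.eq_zero_iff_mem.1 (congrFun hx ⟨P, hP⟩)
    rw [Ideal.sInf_minimalPrimes] at h1
    exact (mem_nilradical.1 h1).eq_zero
  let Q := ((P : ι) → A ⧸ (P : Ideal A)) ⧸ LinearMap.range f
  have : Module.Finite A ((P : ι) → A ⧸ (P : Ideal A)) := Module.Finite.pi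
  refine Set.Finite.subset ((finite_prime_zeroDivisors A Q).union (Set.finite_iUnion hbad)) ?_
  rintro p ⟨hp, hnr⟩
  by_contra hcon
  rw [Set.mem_union, Set.mem_iUnion, not_or, not_exists] at hcon
  refine hnr ((Ideal.isRadical_iff_quotient_reduced _).1 ?_)
  rintro x ⟨k, hk⟩
  obtain ⟨b, hb⟩ := Ideal.mem_span_singleton.1 hk
  choose y hy using fun P : ι => hgood P p hp (hcon.2 P) (Ideal.Quotient.mk (P : Ideal A) x) k
    ⟨Ideal.Quotient.mk _ b, by rw [← map_pow, hb, map_mul, map_natCast]⟩
  have hy' : f x = (p : A) • y := by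
    funext P
    rw [Pi.smul_apply, Algebra.smul_def, map_natCast]
    exact hy P
  have hQ : (Submodule.Quotient.mk y : Q) = 0 := by
    by_contra h
    refine hcon.1 ⟨hp, _, h, ?_⟩
    rw [← Submodule.Quotient.mk_smul, Submodule.Quotient.mk_eq_zero, ← hy']
    exact ⟨x, rfl⟩
  obtain ⟨a, ha⟩ := (Submodule.Quotient.mk_eq_zero _).1 hQ
  refine Ideal.mem_span_singleton.2 ⟨a, sub_eq_zero.1 (hf _ ?_)⟩
  rw [map_sub, ← smul_eq_mul, map_smul, ha, hy', sub_self]

end Groth.Agent.Alg.ReducedModP
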