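import Mathlib.Algebra.Module.LocalizedModule.Basic
import Mathlib.Algebra.Module.Projective
import Mathlib.RingTheory.Localization.AtPrime.Basic
import Mathlib.LinearAlgebra.Finsupp.LinearCombination
import Mathlib.RingTheory.Finiteness.Defs

/-! A map from a finite module to a projective module which is locally split injective is split injective. -/

universe u v w

namespace Groth.Agent.Alg.SplitLocal

variable {R : Type u} [CommRing R] {M : Type v} {N : Type w} [AddCommGroup M] [Module R M]
  [AddCommGroup N] [Module R N]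

theorem exists_smul_retraction [Module.Finite R M] [Module.Projective R N] (u : M →ₗ[R] N)
    (S : Submonoid R) (w : N →ₗ[R] LocalizedModule S M)
    (hw : w ∘ₗ u = LocalizedModule.mkLinearMap S M) :
    ∃ c ∈ S, ∃ W : N →ₗ[R] M, W ∘ₗ u = c • LinearMap.id := by
  classical
  obtain ⟨i, hi⟩ := Module.projective_def'.mp ‹Module.Projective R N›
  let r : (N →₀ R) →ₗ[R] N := Finsupp.linearCombination R id
  obtain ⟨gen, hgen⟩ := ‹Module.Finite R M›.fg_top
  let T : Finset N := gen.biUnion fun x => (i (u x)).support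
  have key : ∀ y : N, ∃ m : M, ∃ s : S, (s : R) • w y = LocalizedModule.mkLinearMap S M m := fun y => by
    obtain ⟨⟨m, s⟩, h⟩ := IsLocalizedModule.surj S (LocalizedModule.mkLinearMap S M) (w y)
    exact ⟨m, s, h⟩
  choose num den hnd using key
  let d : S := ∏ y ∈ T, den y
  let val : N → M := fun y => if y ∈ T then (∏ z ∈ T.erase y, (den z : R)) • num y else 0
  let W₀ : (N →₀ R) →ₗ[R] M := Finsupp.linearCombination R val
  have hW₀ : ∀ l : N →₀ R, l.support ⊆ T → LocalizedModule.mkLinearMap S M (W₀ l) = (d : R) • w (r l) := by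
    intro l hl
    simp only [W₀, r, Finsupp.linearCombination_apply, map_finsuppSum, Finsupp.smul_sum]
    refine Finsupp.sum_congr fun y hy => ?_
    simp only [map_smul, id, val, if_pos (hl hy)]
    rw [← hnd y, smul_smul (∏ z ∈ T.erase y, (den z : R)), show (∏ z ∈ T.erase y, (den z : R)) * (den y : R) = (d : R) by
      rw [Finset.prod_erase_mul _ (fun z => (den z : R)) (hl hy)]; simp [d], smul_comm]
  let W₁ : N →ₗ[R] M := W₀ ∘ₗ i
  have h1 : ∀ x ∈ gen, ∃ c : S, (c : R) • (W₁ (u x) - (d : R) • x) = 0 := fun x hx => by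
    have e : LocalizedModule.mkLinearMap S M (W₁ (u x) - (d : R) • x) = 0 := by
      rw [map_sub, map_smul, show LocalizedModule.mkLinearMap S M x = w (u x) from (DFunLike.congr_fun hw x).symm]
      change LocalizedModule.mkLinearMap S M (W₀ (i (u x))) - (d : R) • w (u x) = 0
      rw [hW₀ _ (fun y hy => Finset.mem_biUnion.mpr ⟨x, hx, hy⟩),
        show r (i (u x)) = u x from DFunLike.congr_fun hi (u x), sub_self]
    exact (IsLocalizedModule.eq_zero_iff S (LocalizedModule.mkLinearMap S M)).mp e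
  choose c hc using h1
  let C : S := ∏ x ∈ gen.attach, c x.1 x.2
  refine ⟨(C : R) * d, S.mul_mem C.2 d.2, (C : R) • W₁, ?_⟩
  refine LinearMap.ext_on hgen fun x hx => ?_
  simp only [LinearMap.comp_apply, LinearMap.smul_apply, LinearMap.id_apply, mul_smul]
  rw [← sub_eq_zero, ← smul_sub]
  have hdvd : (c x hx : R) ∣ (C : R) := by
    simp only [C, Submonoid.coe_finsetProd]
    exact Finset.dvd_prod_of_mem (fun x : {x // x ∈ gen} => (c x.1 x.2 : R)) (Finset.mem_attach gen ⟨x, hx⟩)
  obtain ⟨e, he⟩ := hdvd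
  rw [he, mul_comm, mul_smul, hc x hx, smul_zero]

theorem exists_retraction [Module.Finite R M] [Module.Projective R N] (u : M →ₗ[R] N)
    (H : ∀ (P : Ideal R) [P.IsMaximal], ∃ w : N →ₗ[R] LocalizedModule P.primeCompl M,
      w ∘ₗ u = LocalizedModule.mkLinearMap P.primeCompl M) :
    ∃ W : N →ₗ[R] M, W ∘ₗ u = LinearMap.id := by
  let I : Ideal R :=
    { carrier := {c | ∃ W : N →ₗ[R] M, W ∘ₗ u = c • LinearMap.id}
      add_mem' := by
        rintro a b ⟨W, hW⟩ ⟨W', hW'⟩
        exact ⟨W + W', by rw [LinearMap.add_comp, hW, hW', add_smul]⟩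
      zero_mem' := ⟨0, by simp⟩
      smul_mem' := by
        rintro a b ⟨W, hW⟩
        exact ⟨a • W, by rw [LinearMap.smul_comp, hW, smul_eq_mul, mul_smul]⟩ }
  have hI : I = ⊤ := by
    by_contra h
    obtain ⟨P, hP, hle⟩ := Ideal.exists_le_maximal I h
    obtain ⟨w, hw⟩ := H P
    obtain ⟨c, hc, W, hW⟩ := exists_smul_retraction u _ w hw
    exact hc (hle ⟨W, hW⟩)
  obtain ⟨W, hW⟩ : (1 : R) ∈ I := hI ▸ Submodule.mem_top
  exact ⟨W, by rw [hW, one_smul]⟩

end Groth.Agent.Alg.SplitLocal
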