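import Mathlib.RingTheory.Localization.Away.Basic
import Mathlib.RingTheory.Localization.AtPrime.Basic
import Mathlib.RingTheory.FinitePresentation

/-!
# Spreading out morphisms and isomorphisms of finitely presented algebras from a prime
-/

set_option autoImplicit false

noncomputable section

universe u

namespace Groth.Agent.Alg.SpreadIso

variable {R S T : Type u} [CommRing R] [CommRing S] [CommRing T] [Algebra R S] [Algebra R T]

/-- maps out of an away localization -/
def liftA (g : S) {B : Type u} [CommRing B] [Algebra R B] (f : S →ₐ[R] B) (h : IsUnit (f g)) :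
    Localization.Away g →ₐ[R] B where
  __ := IsLocalization.Away.lift (S := Localization.Away g) g (show IsUnit (f.toRingHom g) from h)
  commutes' r := by
    change IsLocalization.Away.lift (S := Localization.Away g) g (show IsUnit (f.toRingHom g) from h) _ = _
    rw [IsScalarTower.algebraMap_apply R S (Localization.Away g), IsLocalization.Away.lift_eq]
    exact f.commutes r

@[simp] theorem liftA_alg (g : S) {B : Type u} [CommRing B] [Algebra R B] (f : S →ₐ[R] B) (h : IsUnit (f g)) (x : S) :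
    liftA g f h (algebraMap S (Localization.Away g) x) = f x := IsLocalization.Away.lift_eq g h x

theorem ext_away {g : S} {B : Type u} [CommRing B] [Algebra R B] {f₁ f₂ : Localization.Away g →ₐ[R] B}
    (h : ∀ x, f₁ (algebraMap S _ x) = f₂ (algebraMap S _ x)) : f₁ = f₂ := by
  have e : f₁.toRingHom = f₂.toRingHom := IsLocalization.ringHom_ext (Submonoid.powers g) (RingHom.ext h)
  exact AlgHom.ext fun x => RingHom.congr_fun e x

/-- the structure map -/
def loc (g : S) : S →ₐ[R] Localization.Away g := IsScalarTower.toAlgHom R S _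

@[simp] theorem loc_apply (g x : S) : loc (R := R) g x = algebraMap S (Localization.Away g) x := rfl

theorem isUnit_loc {g : S} {h : S} (hh : h ∣ g) : IsUnit (loc (R := R) g h) :=
  isUnit_of_dvd_unit (map_dvd _ hh) (IsLocalization.Away.algebraMap_isUnit g)

/-- restriction to a smaller basic open -/
def res {g g₂ : S} (h : g ∣ g₂) : Localization.Away g →ₐ[R] Localization.Away g₂ :=
  liftA g (loc g₂) (isUnit_loc h)

@[simp] theorem res_alg {g g₂ : S} (h : g ∣ g₂) (x : S) :
    res (R := R) h (algebraMap S _ x) = algebraMap S _ x := liftA_alg _ _ _ x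

variable (q : Ideal S) [q.IsPrime]

/-- the structure map to the local ring -/
def locQ : S →ₐ[R] Localization.AtPrime q := IsScalarTower.toAlgHom R S _

@[simp] theorem locQ_apply (x : S) : locQ (R := R) q x = algebraMap S (Localization.AtPrime q) x := rfl

theorem isUnit_locQ {g : S} (hg : g ∉ q) : IsUnit (locQ (R := R) q g) :=
  IsLocalization.map_units (M := q.primeCompl) (Localization.AtPrime q) ⟨g, hg⟩

/-- from a basic open to the local ring -/
def toQ {g : S} (hg : g ∉ q) : Localization.Away g →ₐ[R] Localization.AtPrime q :=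
  liftA g (locQ q) (isUnit_locQ q hg)

@[simp] theorem toQ_alg {g : S} (hg : g ∉ q) (x : S) :
    toQ (R := R) q hg (algebraMap S _ x) = algebraMap S _ x := liftA_alg _ _ _ x

theorem toQ_res {g g₂ : S} (hg : g ∉ q) (hg₂ : g₂ ∉ q) (h : g ∣ g₂) (z : Localization.Away g) :
    toQ (R := R) q hg₂ (res (R := R) h z) = toQ (R := R) q hg z := by
  rw [← AlgHom.comp_apply]
  exact AlgHom.congr_fun (ext_away fun x => by rw [AlgHom.comp_apply, res_alg, toQ_alg, toQ_alg]) z

theorem exists_frac {g : S} (z : Localization.Away g) :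
    ∃ (a : S) (k : ℕ), z * algebraMap S _ (g ^ k) = algebraMap S _ a := by
  obtain ⟨⟨a, ⟨_, k, rfl⟩⟩, rfl⟩ := IsLocalization.mk'_surjective (Submonoid.powers g) z
  exact ⟨a, k, IsLocalization.mk'_spec _ _ _⟩

theorem exists_smul_eq_zero {g : S} (hg : g ∉ q) {z : Localization.Away g} (h : toQ (R := R) q hg z = 0) :
    ∃ c, c ∉ q ∧ algebraMap S _ c * z = 0 := by
  obtain ⟨a, k, hk⟩ := exists_frac z
  have h1 := congrArg (toQ (R := R) q hg) hk
  rw [map_mul, h, zero_mul, toQ_alg, eq_comm, IsLocalization.map_eq_zero_iff q.primeCompl] at h1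
  obtain ⟨c, hc⟩ := h1
  refine ⟨c, c.2, ?_⟩
  refine ((IsLocalization.Away.algebraMap_isUnit g (S := Localization.Away g)).pow k).mul_left_injective ?_
  dsimp only
  rw [zero_mul, ← map_pow, mul_assoc, hk, ← map_mul, hc, map_zero]

/-- two maps agreeing at the prime agree on a neighbourhood -/
theorem exists_eq_of_eq [Algebra.FiniteType R T] {g : S} (hg : g ∉ q) (f₁ f₂ : T →ₐ[R] Localization.Away g)
    (h : (toQ q hg).comp f₁ = (toQ q hg).comp f₂) :
    ∃ c, c ∉ q ∧ ∀ (g₂ : S) (h₂ : g * c ∣ g₂),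
      (res (dvd_trans (dvd_mul_right g c) h₂)).comp f₁ = (res (dvd_trans (dvd_mul_right g c) h₂)).comp f₂ := by
  classical
  obtain ⟨s, hs⟩ := Algebra.FiniteType.out (R := R) (A := T)
  choose c hcq hc using fun x : T => exists_smul_eq_zero (R := R) q hg (z := f₁ x - f₂ x)
    (by rw [map_sub, sub_eq_zero]; exact AlgHom.congr_fun h x)
  refine ⟨∏ x ∈ s, c x, (q.primeCompl.prod_mem fun x _ => hcq x : _), fun g₂ h₂ => AlgHom.ext_of_adjoin_eq_top hs fun x hx => ?_⟩
  have e := congrArg (res (R := R) (dvd_trans (dvd_mul_right g _) h₂)) (hc x)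
  rw [map_mul, map_zero, res_alg, map_sub] at e
  refine sub_eq_zero.1 ((isUnit_of_dvd_unit (map_dvd (algebraMap S (Localization.Away g₂))
    ((Finset.dvd_prod_of_mem c hx).trans ((dvd_mul_left _ g).trans h₂)))
    (IsLocalization.Away.algebraMap_isUnit g₂)).mul_right_eq_zero.1 e)

/-- a map to the local ring spreads out -/
theorem exists_lift [Algebra.FinitePresentation R T] (φ : T →ₐ[R] Localization.AtPrime q) :
    ∃ (g : S) (hg : g ∉ q) (ψ : T →ₐ[R] Localization.Away g), (toQ q hg).comp ψ = φ := by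
  classical
  obtain ⟨n, π, hπ, K, hK⟩ := Algebra.FinitePresentation.out (R := R) (A := T)
  choose a b hab using fun i : Fin n => IsLocalization.exists_mk'_eq q.primeCompl (φ (π (MvPolynomial.X i)))
  let b' : S := ∏ i, (b i : S)
  have hb' : b' ∉ q := (q.primeCompl.prod_mem fun i _ => (b i).2 : _)
  have hbu : ∀ i, IsUnit (algebraMap S (Localization.Away b') (b i)) := fun i =>
    isUnit_of_dvd_unit (map_dvd _ (Finset.dvd_prod_of_mem (fun i => (b i : S)) (Finset.mem_univ i)))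
      (IsLocalization.Away.algebraMap_isUnit b')
  let P : MvPolynomial (Fin n) R →ₐ[R] Localization.Away b' :=
    MvPolynomial.aeval fun i => algebraMap S _ (a i) * ((hbu i).unit⁻¹ : (Localization.Away b')ˣ)
  have hP : (toQ q hb').comp P = φ.comp π := by
    refine MvPolynomial.algHom_ext fun i => ?_
    rw [AlgHom.comp_apply, AlgHom.comp_apply, MvPolynomial.aeval_X, map_mul, toQ_alg, ← hab i]
    refine (IsLocalization.map_units (Localization.AtPrime q) (b i)).mul_right_cancel ?_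
    have h1 := congrArg (toQ (R := R) q hb') (hbu i).val_inv_mul
    rw [map_mul, toQ_alg, map_one] at h1
    rw [IsLocalization.mk'_spec, mul_assoc, h1, mul_one]
  choose c hcq hc using fun x : K => exists_smul_eq_zero (R := R) q hb' (z := P x)
    ((AlgHom.congr_fun hP x).trans (by
      rw [AlgHom.comp_apply, show π (x : MvPolynomial (Fin n) R) = 0 from hK.le (Ideal.subset_span x.2), map_zero]))
  let g := b' * ∏ x : K, c x
  have hg : g ∉ q := fun h => (Ideal.IsPrime.mem_or_mem inferInstance h).elim hb' (q.primeCompl.prod_mem fun x _ => hcq x : _)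
  let P' := (res (dvd_mul_right b' (∏ x : K, c x))).comp P
  have hker : RingHom.ker π.toRingHom ≤ RingHom.ker P'.toRingHom := by
    rw [← hK]
    refine Ideal.span_le.2 fun x hx => ?_
    have e := congrArg (res (R := R) (dvd_mul_right b' (∏ x : K, c x))) (hc ⟨x, hx⟩)
    rw [map_mul, map_zero, res_alg] at e
    exact (isUnit_of_dvd_unit (map_dvd _ ((Finset.dvd_prod_of_mem c (Finset.mem_univ (⟨x, hx⟩ : K))).trans (dvd_mul_left _ b')))
      (IsLocalization.Away.algebraMap_isUnit g)).mul_right_eq_zero.1 e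
  refine ⟨g, hg, AlgHom.liftOfSurjective π hπ P' hker, AlgHom.ext fun t => ?_⟩
  obtain ⟨x, rfl⟩ := hπ t
  rw [AlgHom.comp_apply, show (AlgHom.liftOfSurjective π hπ P' hker) (π x) = P' x from
    AlgHom.congr_fun (AlgHom.liftOfSurjective_comp π hπ P' hker) x, ← AlgHom.comp_apply φ, ← hP]
  simp only [P', AlgHom.comp_apply]
  exact toQ_res q hb' hg _ (P x)

/-- numerators of elements that are units at the prime -/
theorem exists_numerator {g : S} (hg : g ∉ q) (z : Localization.Away g) (hz : IsUnit (toQ (R := R) q hg z)) :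
    ∃ (a : S) (k : ℕ), a ∉ q ∧ z * algebraMap S _ (g ^ k) = algebraMap S _ a := by
  obtain ⟨a, k, hk⟩ := exists_frac z
  refine ⟨a, k, ?_, hk⟩
  have h1 := congrArg (toQ (R := R) q hg) hk
  rw [map_mul, toQ_alg, toQ_alg] at h1
  have h2 : IsUnit (algebraMap S (Localization.AtPrime q) a) := h1 ▸ hz.mul (by rw [map_pow]; exact (isUnit_locQ (R := R) q hg).pow k)
  exact (IsLocalization.AtPrime.isUnit_to_map_iff _ q a).1 h2

theorem mul_notMem' {W : Type u} [CommRing W] (I : Ideal W) [I.IsPrime] {x y : W} (hx : x ∉ I) (hy : y ∉ I) : x * y ∉ I :=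
  fun h => (Ideal.IsPrime.mem_or_mem inferInstance h).elim hx hy

theorem exists_iso [Algebra.FinitePresentation R S] [Algebra.FinitePresentation R T] (p : Ideal T) [p.IsPrime]
    (e : Localization.AtPrime q ≃ₐ[R] Localization.AtPrime p) :
    ∃ (g : S) (g' : T), g ∉ q ∧ g' ∉ p ∧ Nonempty (Localization.Away g ≃ₐ[R] Localization.Away g') := by
  obtain ⟨k₀, hk₀, ψ, hψ⟩ := exists_lift (T := S) p (e.toAlgHom.comp (locQ q))
  obtain ⟨g₀, hg₀, ψ', hψ'⟩ := exists_lift (T := T) q (e.symm.toAlgHom.comp (locQ p))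
  -- a left inverse of `ψ`
  obtain ⟨a, ka, haq, ha⟩ := exists_numerator (R := R) q hg₀ (ψ' k₀) (by
    rw [show toQ (R := R) q hg₀ (ψ' k₀) = e.symm (locQ (R := R) p k₀) from AlgHom.congr_fun hψ' k₀]
    exact (isUnit_locQ (R := R) p hk₀).map e.symm)
  let g₁ := g₀ * a
  have hg₁ : g₁ ∉ q := mul_notMem' q hg₀ haq
  have hu₁ : IsUnit (((res (dvd_mul_right g₀ a)).comp ψ') k₀) := by
    have h := congrArg (res (R := R) (dvd_mul_right g₀ a)) ha
    rw [map_mul, res_alg, res_alg] at h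
    refine isUnit_of_mul_isUnit_left (y := algebraMap S (Localization.Away g₁) (g₀ ^ ka)) ?_
    rw [AlgHom.comp_apply, h]
    exact isUnit_loc (R := R) (dvd_mul_left a g₀)
  let Ψ₁ : Localization.Away k₀ →ₐ[R] Localization.Away g₁ := liftA k₀ _ hu₁
  have hΨ₁ : (toQ q hg₁).comp Ψ₁ = e.symm.toAlgHom.comp (toQ p hk₀) := ext_away fun y => by
    simp only [Ψ₁, AlgHom.comp_apply, liftA_alg, toQ_alg]
    have h := AlgHom.congr_fun hψ' y
    rw [AlgHom.comp_apply] at h
    refine Eq.trans ?_ h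
    exact toQ_res q hg₀ hg₁ _ (ψ' y)
  obtain ⟨c, hcq, hc⟩ := exists_eq_of_eq (R := R) (T := S) q hg₁ (Ψ₁.comp ψ) (loc g₁) (AlgHom.ext fun x => by
    rw [AlgHom.comp_apply, AlgHom.comp_apply, AlgHom.comp_apply, ← AlgHom.comp_apply, hΨ₁, AlgHom.comp_apply]
    rw [show toQ (R := R) p hk₀ (ψ x) = e (locQ (R := R) q x) from AlgHom.congr_fun hψ x]
    simp)
  let g₂ := g₁ * c
  have hg₂ : g₂ ∉ q := mul_notMem' q hg₁ hcq
  let Ψ₁' : Localization.Away k₀ →ₐ[R] Localization.Away g₂ := (res (dvd_mul_right g₁ c)).comp Ψ₁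
  have hl : ∀ x, Ψ₁' (ψ x) = algebraMap S _ x := fun x => by
    have := AlgHom.congr_fun (hc g₂ dvd_rfl) x
    simpa [Ψ₁'] using this
  -- localize `T`
  obtain ⟨b, kb, hbp, hb⟩ := exists_numerator (R := R) p hk₀ (ψ g₂) (by
    rw [show toQ (R := R) p hk₀ (ψ g₂) = e (locQ (R := R) q g₂) from AlgHom.congr_fun hψ g₂]
    exact (isUnit_locQ (R := R) q hg₂).map e)
  let k₂ := k₀ * b
  have hk₂ : k₂ ∉ p := mul_notMem' p hk₀ hbp
  let r₁ : Localization.Away k₀ →ₐ[R] Localization.Away k₂ := res (dvd_mul_right k₀ b)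
  have hr₁ : ∀ y, r₁ (algebraMap T _ y) = algebraMap T _ y := fun y => res_alg _ y
  have huΦ : IsUnit ((r₁.comp ψ) g₂) := by
    have h := congrArg r₁ hb
    rw [map_mul, hr₁, hr₁] at h
    refine isUnit_of_mul_isUnit_left (y := algebraMap T (Localization.Away k₂) (k₀ ^ kb)) ?_
    rw [AlgHom.comp_apply, h]
    exact isUnit_loc (R := R) (dvd_mul_left b k₀)
  let Φ₂ : Localization.Away g₂ →ₐ[R] Localization.Away k₂ := liftA g₂ _ huΦ
  have huΨ : IsUnit ((Ψ₁'.comp (loc k₀)) k₂) := by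
    rw [AlgHom.comp_apply, loc_apply, map_mul, map_mul]
    refine ((IsLocalization.Away.algebraMap_isUnit k₀).map Ψ₁').mul ?_
    rw [← hb, map_mul, hl]
    exact (IsLocalization.Away.algebraMap_isUnit g₂).mul (by rw [map_pow]; exact ((IsLocalization.Away.algebraMap_isUnit k₀).pow kb).map Ψ₁')
  let Ψ₂ : Localization.Away k₂ →ₐ[R] Localization.Away g₂ := liftA k₂ _ huΨ
  have hΨ₂ : ∀ z, Ψ₂ (r₁ z) = Ψ₁' z := fun z => by
    have h : Ψ₂.comp r₁ = Ψ₁' := ext_away fun y => by
      rw [AlgHom.comp_apply, hr₁]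
      exact liftA_alg _ _ _ y
    exact AlgHom.congr_fun h z
  have hΨ₂q : (toQ q hg₂).comp Ψ₂ = e.symm.toAlgHom.comp (toQ p hk₂) := ext_away fun y => by
    simp only [Ψ₂, Ψ₁', AlgHom.comp_apply, liftA_alg, loc_apply, toQ_alg]
    have h := AlgHom.congr_fun hΨ₁ (algebraMap T _ y)
    simp only [AlgHom.comp_apply, toQ_alg] at h
    refine Eq.trans ?_ h
    exact toQ_res q hg₁ hg₂ _ _
  have hΦ₂q : (toQ p hk₂).comp Φ₂ = e.toAlgHom.comp (toQ q hg₂) := ext_away fun y => by
    simp only [Φ₂, AlgHom.comp_apply, liftA_alg, toQ_alg]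
    refine Eq.trans ?_ (AlgHom.congr_fun hψ y)
    exact toQ_res p hk₀ hk₂ _ _
  obtain ⟨c', hc'p, hc'⟩ := exists_eq_of_eq p hk₂ (Φ₂.comp (Ψ₂.comp (loc k₂))) (loc k₂) (AlgHom.ext fun y => by
    simp only [AlgHom.comp_apply, loc_apply, toQ_alg]
    rw [← AlgHom.comp_apply, hΦ₂q, AlgHom.comp_apply, ← AlgHom.comp_apply (toQ q hg₂), hΨ₂q]
    simp)
  let k₃ := k₂ * c'
  have hk₃ : k₃ ∉ p := mul_notMem' p hk₂ hc'p
  obtain ⟨a₃, k3, ha₃q, ha₃⟩ := exists_numerator (R := R) q hg₂ (Ψ₂ (loc (R := R) k₂ c')) (by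
    rw [← AlgHom.comp_apply, hΨ₂q, AlgHom.comp_apply, loc_apply, toQ_alg]
    exact (isUnit_locQ (R := R) p hc'p).map e.symm)
  let g₃ := g₂ * a₃
  have hg₃ : g₃ ∉ q := mul_notMem' q hg₂ ha₃q
  let r₂ : Localization.Away k₂ →ₐ[R] Localization.Away k₃ := res (R := R) (dvd_mul_right k₂ c')
  let s₂ : Localization.Away g₂ →ₐ[R] Localization.Away g₃ := res (R := R) (dvd_mul_right g₂ a₃)
  have hagree : ∀ y, r₂ (Φ₂ (Ψ₂ (algebraMap T _ y))) = algebraMap T _ y := fun y => by
    have := AlgHom.congr_fun (hc' k₃ dvd_rfl) y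
    simpa [r₂] using this
  have huΦ₃ : IsUnit ((r₂.comp (Φ₂.comp (loc g₂))) g₃) := by
    simp only [AlgHom.comp_apply, loc_apply, g₃, map_mul]
    refine ((((IsLocalization.Away.algebraMap_isUnit g₂).map Φ₂).map r₂)).mul ?_
    rw [← ha₃, map_mul, map_mul, loc_apply, hagree]
    exact (isUnit_loc (R := R) (dvd_mul_left c' k₂)).mul
      (by rw [map_pow]; exact (((IsLocalization.Away.algebraMap_isUnit g₂).pow k3).map Φ₂).map r₂)
  let Φ₃ : Localization.Away g₃ →ₐ[R] Localization.Away k₃ := liftA g₃ _ huΦ₃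
  have huΨ₃ : IsUnit ((s₂.comp (Ψ₂.comp (loc k₂))) k₃) := by
    simp only [AlgHom.comp_apply, loc_apply, k₃, map_mul]
    refine ((((IsLocalization.Away.algebraMap_isUnit k₂).map Ψ₂).map s₂)).mul ?_
    have h := congrArg s₂ ha₃
    rw [map_mul, res_alg, res_alg] at h
    refine isUnit_of_mul_isUnit_left (y := algebraMap S (Localization.Away g₃) (g₂ ^ k3)) ?_
    rw [show s₂ (Ψ₂ (algebraMap T _ c')) = s₂ (Ψ₂ (loc (R := R) k₂ c')) from rfl, h]
    exact isUnit_loc (R := R) (dvd_mul_left a₃ g₂)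
  let Ψ₃ : Localization.Away k₃ →ₐ[R] Localization.Away g₃ := liftA k₃ _ huΨ₃
  have hΨ₃ : ∀ z, Ψ₃ (r₂ z) = s₂ (Ψ₂ z) := fun z => by
    rw [← AlgHom.comp_apply, ← AlgHom.comp_apply s₂]
    exact AlgHom.congr_fun (ext_away fun y => by simp [Ψ₃, r₂]) z
  have hΦ₃ : ∀ z, Φ₃ (s₂ z) = r₂ (Φ₂ z) := fun z => by
    rw [← AlgHom.comp_apply, ← AlgHom.comp_apply r₂]
    exact AlgHom.congr_fun (ext_away fun y => by simp [Φ₃, s₂]) z
  refine ⟨g₃, k₃, hg₃, hk₃, ⟨AlgEquiv.ofAlgHom Φ₃ Ψ₃ (ext_away fun y => ?_) (ext_away fun y => ?_)⟩⟩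
  · simp only [AlgHom.comp_apply, Ψ₃, liftA_alg, loc_apply, AlgHom.id_apply]
    rw [hΦ₃]
    exact hagree y
  · simp only [AlgHom.comp_apply, Φ₃, liftA_alg, loc_apply, AlgHom.id_apply]
    rw [hΨ₃]
    simp only [Φ₂, liftA_alg, AlgHom.comp_apply, hΨ₂, hl]
    simp [s₂]

end Groth.Agent.Alg.SpreadIso
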