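import Groth.Prelude.Def_Smoothing
import Groth.Agent.Alg.JacobianMinor
import Mathlib.RingTheory.Smooth.StandardSmooth
import Mathlib.RingTheory.Extension.Presentation.Submersive
import Mathlib.RingTheory.RingHom.StandardSmooth
import Mathlib.LinearAlgebra.Matrix.Adjugate
import Mathlib.Logic.Equiv.Fintype

/-! Standard elements and the singular ideal. -/

open MvPolynomial

universe u

namespace Groth.Agent.Alg.StandardElements

set_option backward.isDefEq.respectTransparency false

variable {R A : Type u} [CommRing R] [CommRing A] [Algebra R A]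

/-- If `a` is a multiple of a leading Jacobian minor and kills the tail relations, `A_a` is
standard smooth. -/
theorem isStandardSmooth_away (P : Smoothing.MarkedPresentation R A) (cols : Fin P.c → Fin P.n)
    (hcols : Function.Injective cols) (a a₁ : A)
    (ha₁ : a = a₁ * P.hom (Smoothing.jacobianMinor P.rel (Fin.castLE P.hcm) cols))
    (hkill : Smoothing.KillsTail P a) : Algebra.IsStandardSmooth R (Localization.Away a) := by
  classical
  obtain ⟨a', ha'⟩ := P.surj a
  let I : Ideal (MvPolynomial (Fin P.n) R) := Ideal.span (Set.range P.rel)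
  let v : Fin P.c → MvPolynomial (Fin P.n) R := fun j => P.rel (Fin.castLE P.hcm j)
  let L : Ideal (MvPolynomial (Fin P.n) R) := Ideal.span (Set.range v)
  have hI : ∀ x ∈ I, P.hom x = 0 := fun x hx => by
    have : x ∈ RingHom.ker P.hom.toRingHom := P.ker_eq ▸ hx
    exact this
  have hrel : ∀ j, ∃ q : Fin P.m → MvPolynomial (Fin P.n) R, (∀ i, q i ∈ I) ∧
      a' * P.rel j - ∑ i, q i * P.rel i ∈ L := fun j => by
    by_cases hj : (j : ℕ) < P.c
    · exact ⟨0, fun i => I.zero_mem, by
        simpa using L.mul_mem_left a' (show P.rel j ∈ L from Ideal.subset_span ⟨⟨j, hj⟩, rfl⟩)⟩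
    · obtain ⟨l, hl, r, hr, hlr⟩ := Submodule.mem_sup.mp (hkill a' ha' j (not_lt.mp hj))
      rw [pow_two] at hr
      obtain ⟨q, hq, hqr⟩ := (Submodule.mem_ideal_smul_span_iff_exists_sum I P.rel r).mp hr
      refine ⟨fun i => q i, hq, ?_⟩
      have : (∑ i, q i * P.rel i) = r := by
        rw [← hqr]
        exact (Finsupp.sum_fintype q (fun i c => c • P.rel i) (fun i => zero_smul _ _)).symm
      rw [this, ← hlr, add_sub_cancel_right]
      refine Ideal.span_mono ?_ hl
      rintro _ ⟨i, hi, rfl⟩
      exact ⟨⟨i, hi⟩, rfl⟩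
  choose q hqI hqL using hrel
  let M : Matrix (Fin P.m) (Fin P.m) (MvPolynomial (Fin P.n) R) :=
    Matrix.scalar (Fin P.m) a' - Matrix.of q
  let h : MvPolynomial (Fin P.n) R := a' * M.det
  have hMrel : ∀ j, (M.mulVec P.rel) j ∈ L := fun j => by
    simpa [M, Matrix.mulVec, dotProduct, Matrix.sub_apply, sub_mul, Matrix.diagonal_apply,
      Finset.sum_sub_distrib] using hqL j
  have hdetL : ∀ j, M.det * P.rel j ∈ L := fun j => by
    have : M.det * P.rel j = (M.adjugate.mulVec (M.mulVec P.rel)) j := by
      rw [Matrix.mulVec_mulVec, Matrix.adjugate_mul, Matrix.smul_mulVec, Matrix.one_mulVec]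
      rfl
    rw [this]
    change ∑ i, M.adjugate j i * (M.mulVec P.rel) i ∈ L
    exact sum_mem fun i _ => L.mul_mem_left _ (hMrel i)
  have hhI : ∀ x ∈ I, h * x ∈ L := fun x hx => by
    obtain ⟨c, rfl⟩ := Submodule.mem_span_range_iff_exists_fun _ |>.mp hx
    rw [Finset.mul_sum]
    refine sum_mem fun i _ => ?_
    rw [smul_eq_mul, show h * (c i * P.rel i) = (a' * c i) * (M.det * P.rel i) by ring]
    exact L.mul_mem_left _ (hdetL i)
  have hLI : L ≤ I := Ideal.span_le.mpr (by rintro _ ⟨i, rfl⟩; exact Ideal.subset_span ⟨_, rfl⟩)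
  have hh : P.hom h = a ^ (P.m + 1) := by
    rw [map_mul, ha', AlgHom.map_det, pow_succ']
    congr 1
    have : P.hom.mapMatrix M = Matrix.scalar (Fin P.m) a := by
      ext i j
      rcases eq_or_ne i j with rfl | hij
      · simp [M, ha', hI _ (hqI i i)]
      · simp [M, hij, hI _ (hqI i j)]
    rw [this]
    simp
  let B := MvPolynomial (Fin P.n) R ⧸ L
  let π : B →ₐ[R] A := Ideal.Quotient.liftₐ L P.hom fun x hx => hI x (hLI hx)
  have hπ : ∀ x, π (Ideal.Quotient.mk L x) = P.hom x := fun x => rfl
  have hker : ∀ z : B, π z = 0 → Ideal.Quotient.mk L h * z = 0 := fun z hz => by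
    obtain ⟨z, rfl⟩ := Ideal.Quotient.mk_surjective z
    rw [← map_mul, Ideal.Quotient.eq_zero_iff_mem]
    refine hhI z ?_
    change z ∈ Ideal.span (Set.range P.rel)
    rw [← P.ker_eq]; exact hz
  let T := Localization.Away a
  let : Algebra B T := ((algebraMap A T).comp π.toRingHom).toAlgebra
  have : IsScalarTower R B T := IsScalarTower.of_algebraMap_eq (R := R) (S := B) (A := T) fun r => by
    change _ = algebraMap A T (π (algebraMap R B r))
    rw [π.commutes]; rfl
  have haT : ∀ k, IsUnit (algebraMap A T (a ^ k)) := fun k =>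
    IsLocalization.map_units T (⟨a ^ k, k, rfl⟩ : Submonoid.powers a)
  have : IsLocalization.Away (Ideal.Quotient.mk L h) T := by
    refine IsLocalization.Away.mk _ ?_ ?_ ?_
    · change IsUnit (algebraMap A T (π (Ideal.Quotient.mk L h)))
      rw [hπ, hh]; exact haT _
    · intro x
      obtain ⟨k, z, hz⟩ := IsLocalization.Away.surj a x
      obtain ⟨z, rfl⟩ := P.surj z
      refine ⟨k, Ideal.Quotient.mk L (z * a' ^ (P.m * k)), ?_⟩
      change x * algebraMap A T (π (Ideal.Quotient.mk L h)) ^ k = algebraMap A T (π _)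
      rw [hπ, hπ, hh, map_mul, map_mul, map_pow, map_pow, ← hz, map_pow, ha', ← pow_mul]
      ring
    · intro x y hxy
      obtain ⟨⟨_, k, rfl⟩, hk⟩ := (IsLocalization.eq_iff_exists (Submonoid.powers a) T).mp hxy
      refine ⟨k + 1, ?_⟩
      have h1 : π (Ideal.Quotient.mk L h ^ k * (x - y)) = 0 := by
        change a ^ k * π x = a ^ k * π y at hk
        rw [map_mul, map_pow, hπ, hh, map_sub, ← pow_mul,
          show (P.m + 1) * k = P.m * k + k by ring, pow_add, mul_assoc, mul_sub (a ^ k), hk,
          sub_self, mul_zero]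
      have := hker _ h1
      rw [← mul_assoc, ← pow_succ', mul_sub, sub_eq_zero] at this
      exact this
  let Q := Algebra.PreSubmersivePresentation.localizationAway T (Ideal.Quotient.mk L h)
  let N : Algebra.PreSubmersivePresentation R B (Fin P.n) (Fin P.c) :=
    Algebra.PreSubmersivePresentation.naive (v := v) cols hcols
  refine Algebra.SubmersivePresentation.isStandardSmooth
    ⟨Q.comp N, ?_⟩
  rw [Algebra.PreSubmersivePresentation.comp_jacobian_eq_jacobian_smul_jacobian,
    Algebra.PreSubmersivePresentation.localizationAway_jacobian, Algebra.smul_def]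
  refine IsUnit.mul ?_ (IsLocalization.Away.algebraMap_isUnit _)
  have hN : N.jacobian = Ideal.Quotient.mk L
      (Smoothing.jacobianMinor P.rel (Fin.castLE P.hcm) cols) := by
    rw [Algebra.PreSubmersivePresentation.jacobian_eq_jacobiMatrix_det, Smoothing.jacobianMinor,
      ← Matrix.det_transpose (Matrix.of _)]
    have : N.jacobiMatrix = (Matrix.of fun j k : Fin P.c =>
        pderiv (cols k) (P.rel (Fin.castLE P.hcm j))).transpose := by
      ext i j : 1
      exact Algebra.PreSubmersivePresentation.jacobiMatrix_naive ..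
    rw [this]
    rfl
  rw [hN]
  change IsUnit (algebraMap A T (π _))
  rw [hπ]
  have := haT 1
  have h2 : algebraMap A T (a ^ 1) = algebraMap A T a₁ *
      algebraMap A T (P.hom (Smoothing.jacobianMinor P.rel (Fin.castLE P.hcm) cols)) := by
    rw [← map_mul, ← ha₁, pow_one]
  rw [h2] at this
  exact isUnit_of_mul_isUnit_right this

theorem isStrictlyStandard_of_isElementaryStandard {a : A}
    (h : Smoothing.IsElementaryStandard R A a) : Smoothing.IsStrictlyStandard R A a := by
  obtain ⟨P, ⟨a', ha⟩, hk⟩ := h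
  refine ⟨P, ?_, hk⟩
  rw [ha]
  exact Ideal.mul_mem_left _ _ (Ideal.subset_span ⟨Fin.castLE P.hcn, rfl⟩)

theorem killsTail_mul (P : Smoothing.MarkedPresentation R A) {a : A} (h : Smoothing.KillsTail P a)
    (b : MvPolynomial (Fin P.n) R) : Smoothing.KillsTail P (a * P.hom b) := by
  intro a₁ ha₁ j hj
  obtain ⟨a', ha'⟩ := P.surj a
  have h0 : a₁ - a' * b ∈ Ideal.span (Set.range P.rel) := by
    rw [← P.ker_eq]; exact RingHom.mem_ker.mpr (by simp [ha₁, ha'])
  rw [show a₁ * P.rel j = b * (a' * P.rel j) + (a₁ - a' * b) * P.rel j by ring]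
  refine add_mem (Ideal.mul_mem_left _ _ (h a' ha' j hj)) (Submodule.mem_sup_right ?_)
  rw [pow_two]; exact Ideal.mul_mem_mul h0 (Ideal.subset_span ⟨j, rfl⟩)

theorem isSmoothAt_of_isStrictlyStandard [Algebra.FinitePresentation R A] {a : A}
    (h : Smoothing.IsStrictlyStandard R A a) (q : Ideal A) [q.IsPrime] (ha : a ∉ q) :
    Algebra.IsSmoothAt R q := by
  obtain ⟨P, hspan, hk⟩ := h
  obtain ⟨cols, hcols⟩ : ∃ cols : Fin P.c → Fin P.n,
      P.hom (Smoothing.jacobianMinor P.rel (Fin.castLE P.hcm) cols) ∉ q := by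
    by_contra hne
    push Not at hne
    exact ha (Ideal.span_le.mpr (by rintro _ ⟨c, rfl⟩; exact hne c) hspan)
  have hinj : Function.Injective cols := fun i j hij => by
    by_contra hne
    refine hcols ?_
    rw [show Smoothing.jacobianMinor P.rel (Fin.castLE P.hcm) cols = 0 from
      Matrix.det_zero_of_column_eq hne fun k => by simp [hij], map_zero]
    exact q.zero_mem
  let Δ := Smoothing.jacobianMinor P.rel (Fin.castLE P.hcm) cols
  have hss := isStandardSmooth_away P cols hinj (a * P.hom Δ) a rfl (killsTail_mul P hk Δ)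
  have hmem : (⟨q, inferInstance⟩ : PrimeSpectrum A) ∈ PrimeSpectrum.basicOpen (a * P.hom Δ) :=
    fun h => (Ideal.IsPrime.mem_or_mem inferInstance h).elim ha hcols
  have : Algebra.Smooth R (Localization.Away (a * P.hom Δ)) := inferInstance
  exact Algebra.basicOpen_subset_smoothLocus_iff_smooth.mpr this hmem

theorem exists_isElementaryStandard_notMem [Algebra.FinitePresentation R A] (q : Ideal A) [q.IsPrime]
    [Algebra.IsSmoothAt R q] : ∃ a ∉ q, Smoothing.IsElementaryStandard R A a := by
  classical
  obtain ⟨n, φ, hφ, hfg⟩ := Algebra.FinitePresentation.out (R := R) (A := A)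
  obtain ⟨s, hs⟩ := hfg
  let f : Fin s.card → MvPolynomial (Fin n) R := fun i => (s.equivFin.symm i).1
  have hrange : Set.range f = ↑s := by
    ext x; exact ⟨by rintro ⟨i, rfl⟩; exact (s.equivFin.symm i).2,
      fun hx => ⟨s.equivFin ⟨x, hx⟩, by simp [f]⟩⟩
  obtain ⟨c, g, o, hg, ho, hgF, hgen, hdet⟩ := JacobianMinor.exists_minor φ hφ s hs.symm q
    inferInstance (KaehlerDifferential.mvPolynomialBasis R (Fin n))
  have hrows : ∀ i, ∃ l, f l = g i := fun i => by
    have : g i ∈ Set.range f := hrange ▸ hgF i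
    exact this
  choose rows hrows using hrows
  have hrinj : Function.Injective rows := fun a b hab => hg (by rw [← hrows a, ← hrows b, hab])
  have hcm : c ≤ s.card := by simpa using Fintype.card_le_of_injective rows hrinj
  have hcn : c ≤ n := by simpa using Fintype.card_le_of_injective o ho
  let σ : Equiv.Perm (Fin s.card) :=
    (((Equiv.ofInjective (Fin.castLE hcm) (Fin.castLE_injective _)).symm.trans
      (Equiv.ofInjective rows hrinj)) : { x // x ∈ Set.range (Fin.castLE hcm) } ≃ _).extendSubtype
  let τ : Equiv.Perm (Fin n) :=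
    (((Equiv.ofInjective (Fin.castLE hcn) (Fin.castLE_injective _)).symm.trans
      (Equiv.ofInjective o ho)) : { x // x ∈ Set.range (Fin.castLE hcn) } ≃ _).extendSubtype
  have hσ : ∀ i, σ (Fin.castLE hcm i) = rows i := fun i => by
    change Equiv.extendSubtype _ _ = _
    rw [Equiv.extendSubtype_apply_of_mem _ _ ⟨i, rfl⟩]; simp
  have hτ : ∀ i, τ (Fin.castLE hcn i) = o i := fun i => by
    change Equiv.extendSubtype _ _ = _
    rw [Equiv.extendSubtype_apply_of_mem _ _ ⟨i, rfl⟩]; simp
  have hden : ∀ l, ∃ t ∉ q.comap φ.toRingHom, t * f l ∈ Ideal.span (Set.range (f ∘ rows)) := fun l => by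
    have h1 : algebraMap _ (Localization.AtPrime (q.comap φ.toRingHom)) (f l) ∈
        (Ideal.span (Set.range (f ∘ rows))).map
          (algebraMap _ (Localization.AtPrime (q.comap φ.toRingHom))) := by
      rw [Ideal.map_span, ← Set.range_comp]
      have := hgen ▸ Ideal.mem_map_of_mem (algebraMap _ (Localization.AtPrime (q.comap φ.toRingHom)))
        (show f l ∈ RingHom.ker φ.toRingHom from hs ▸ Ideal.subset_span (hrange ▸ ⟨l, rfl⟩))
      refine Ideal.span_mono ?_ this
      rintro _ ⟨i, rfl⟩
      exact ⟨i, by simp [hrows]⟩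
    obtain ⟨⟨⟨a, ha⟩, ⟨u, hu⟩⟩, h⟩ := (IsLocalization.mem_map_algebraMap_iff
      (q.comap φ.toRingHom).primeCompl _).mp h1
    obtain ⟨⟨t, ht⟩, htt⟩ := (IsLocalization.eq_iff_exists (q.comap φ.toRingHom).primeCompl _).mp
      (show algebraMap _ (Localization.AtPrime (q.comap φ.toRingHom)) (f l * u) =
        algebraMap _ _ a by rw [map_mul]; exact h)
    refine ⟨t * u, fun hts => ((Ideal.IsPrime.mem_or_mem inferInstance hts).elim ht hu), ?_⟩
    rw [show t * u * f l = t * (f l * u) by ring, htt]
    exact Ideal.mul_mem_left _ _ ha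
  choose t ht htmem using hden
  let r : MvPolynomial (Fin n) R →ₐ[R] MvPolynomial (Fin n) R := rename τ.symm
  let P : Smoothing.MarkedPresentation R A :=
    { n := n, m := s.card, c := c, hcn := hcn, hcm := hcm
      rel := fun j => r (f (σ j))
      hom := φ.comp (rename τ)
      surj := hφ.comp (fun x => ⟨r x, by simp [r, rename_rename]⟩)
      ker_eq := by
        have : Ideal.span (Set.range fun j => r (f (σ j))) = (RingHom.ker φ.toRingHom).map r := by
          rw [← hs, ← hrange]
          change _ = (Ideal.span (Set.range f)).map r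
          rw [Ideal.map_span, ← Set.range_comp, ← σ.surjective.range_comp (r ∘ f)]
          rfl
        rw [this]
        refine le_antisymm (fun x hx => ?_) (Ideal.map_le_iff_le_comap.mpr fun x hx => ?_)
        · have : x = r (rename τ x) := by simp [r, rename_rename]
          rw [this]; exact Ideal.mem_map_of_mem _ hx
        · simp only [Ideal.mem_comap, RingHom.mem_ker] at hx ⊢
          simpa [r, rename_rename] using hx }
  have hminor : φ (Matrix.det (Matrix.of fun i j => pderiv (o j) (g i))) =
      P.hom (Smoothing.jacobianMinor P.rel (Fin.castLE hcm) (Fin.castLE hcn)) := by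
    change _ = φ (rename τ (Matrix.det _))
    rw [AlgHom.map_det (rename τ)]
    congr 2
    ext1 i j
    change pderiv (o j) (g i) = rename τ (pderiv (Fin.castLE hcn j) (r (f (σ (Fin.castLE hcm i)))))
    rw [← pderiv_rename τ.injective, hσ, hτ, hrows]
    simp [r, rename_rename]
  let b := φ (∏ l, t l)
  refine ⟨b * P.hom (Smoothing.jacobianMinor P.rel (Fin.castLE hcm) (Fin.castLE hcn)), ?_,
    P, ⟨b, rfl⟩, ?_⟩
  · rw [← hminor]
    intro h
    rcases Ideal.IsPrime.mem_or_mem inferInstance h with hb | hd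
    · obtain ⟨l, -, hl⟩ := (Ideal.IsPrime.prod_mem_iff (p := q.comap φ.toRingHom)).mp hb
      exact ht l hl
    · refine hdet ?_
      simpa using hd
  · intro a₁ ha₁ j hj
    obtain ⟨Δ, hΔ⟩ : ∃ Δ, Δ = Smoothing.jacobianMinor P.rel (Fin.castLE hcm) (Fin.castLE hcn) :=
      ⟨_, rfl⟩
    have hb : P.hom (r (∏ l, t l)) = b := by
      change φ (rename τ (r _)) = φ _
      simp [r, rename_rename]
    have h0 : a₁ - r (∏ l, t l) * Δ ∈ Ideal.span (Set.range P.rel) := by
      rw [← P.ker_eq]
      refine RingHom.mem_ker.mpr ?_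
      rw [AlgHom.toRingHom_eq_coe, RingHom.coe_coe, map_sub, map_mul, ha₁, hb, hΔ, sub_self]
    rw [show a₁ * P.rel j = r (∏ l, t l) * Δ * P.rel j + (a₁ - r (∏ l, t l) * Δ) * P.rel j by ring]
    refine add_mem (Submodule.mem_sup_left ?_) (Submodule.mem_sup_right ?_)
    · have hlead : Ideal.span (Set.range fun i => r (f (rows i))) ≤
          Ideal.span (P.rel '' {j' : Fin P.m | (j' : ℕ) < P.c}) := by
        refine Ideal.span_mono ?_
        rintro _ ⟨i, rfl⟩
        exact ⟨Fin.castLE hcm i, i.2, by simp only [P, hσ]⟩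
      refine hlead ?_
      have hm := Ideal.mem_map_of_mem r (htmem (σ j))
      rw [Ideal.map_span, ← Set.range_comp, map_mul] at hm
      rw [← Finset.mul_prod_erase Finset.univ t (Finset.mem_univ (σ j)), map_mul,
        show r (t (σ j)) * r (∏ x ∈ Finset.univ.erase (σ j), t x) * Δ * P.rel j =
          (r (∏ x ∈ Finset.univ.erase (σ j), t x) * Δ) * (r (t (σ j)) * r (f (σ j))) by
          simp only [P]; ring]
      exact Ideal.mul_mem_left _ _ hm
    · rw [pow_two]; exact Ideal.mul_mem_mul h0 (Ideal.subset_span ⟨j, rfl⟩)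

end Groth.Agent.Alg.StandardElements
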