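import Mathlib.RingTheory.Smooth.Basic
import Mathlib.RingTheory.Smooth.Kaehler
import Mathlib.RingTheory.Etale.Kaehler
import Mathlib.RingTheory.Localization.AtPrime.Basic
import Mathlib.RingTheory.Localization.Submodule
import Mathlib.RingTheory.Nakayama
import Mathlib.RingTheory.Noetherian.Basic
import Mathlib.LinearAlgebra.Matrix.NonsingularInverse
import Mathlib.LinearAlgebra.Dimension.StrongRankCondition
import Mathlib.LinearAlgebra.Dual.Lemmas

/-! Zariski's Jacobian criterion for formal smoothness over a ground ring. -/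

open TensorProduct KaehlerDifferential IsLocalRing

universe u v

namespace Groth.Agent.Alg.ZariskiJacobian

set_option backward.isDefEq.respectTransparency false

/-- From a split injection of the conormal module: independence of differentials mod `m`. -/
theorem mem_maximalIdeal_smul_of_split {k₀ P A : Type*} [CommRing k₀] [CommRing P] [CommRing A]
    [IsLocalRing P] [Algebra k₀ P] [Algebra P A]
    (l : A ⊗[P] Ω[P⁄k₀] →ₗ[P] (RingHom.ker (algebraMap P A)).Cotangent)
    (hl : l ∘ₗ kerCotangentToTensor k₀ P A = LinearMap.id)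
    (hI : RingHom.ker (algebraMap P A) ≤ maximalIdeal P)
    {ι : Type*} [Fintype ι] (x : ι → RingHom.ker (algebraMap P A)) (c : ι → P)
    {κ : Type*} (T : Finset κ) (a : κ → P) (ha : ∀ t, a t ∈ maximalIdeal P) (ω : κ → Ω[P⁄k₀])
    (h : ∑ i, c i • D k₀ P (x i).1 = ∑ t ∈ T, a t • ω t) :
    ∑ i, c i * (x i).1 ∈ maximalIdeal P • RingHom.ker (algebraMap P A) := by
  let I := RingHom.ker (algebraMap P A)
  let z : I := ∑ i, c i • x i
  have h1 : (I.toCotangent z) ∈ maximalIdeal P • (⊤ : Submodule P I.Cotangent) := by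
    have : I.toCotangent z = l (1 ⊗ₜ (∑ i, c i • D k₀ P (x i).1)) := by
      have : (1 : A) ⊗ₜ[P] (∑ i, c i • D k₀ P (x i).1) =
          kerCotangentToTensor k₀ P A (I.toCotangent z) := by
        simp [z, I, tmul_sum, kerCotangentToTensor_toCotangent]
      rw [this, ← LinearMap.comp_apply, hl, LinearMap.id_apply]
    rw [this, h, tmul_sum, map_sum]
    refine Submodule.sum_mem _ fun t _ => ?_
    rw [tmul_smul, map_smul]
    exact Submodule.smul_mem_smul (ha t) trivial
  have h2 : z ∈ maximalIdeal P • (⊤ : Submodule P I) := by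
    have : maximalIdeal P • (⊤ : Submodule P I.Cotangent) =
        (maximalIdeal P • (⊤ : Submodule P I)).map I.toCotangent := by
      rw [Submodule.map_smul'', Submodule.map_top, LinearMap.range_eq_top.mpr I.toCotangent_surjective]
    rw [this] at h1
    obtain ⟨y, hy, hyz⟩ := h1
    rw [Ideal.toCotangent_eq] at hyz
    have hd : z - y ∈ maximalIdeal P • (⊤ : Submodule P I) := by
      have : (z - y : I).1 ∈ maximalIdeal P • I := by
        rw [smul_eq_mul]
        refine Ideal.mul_mono hI le_rfl ?_
        rw [← pow_two]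
        have := neg_mem hyz
        rwa [neg_sub] at this
      rw [show maximalIdeal P • I = (maximalIdeal P • (⊤ : Submodule P I)).map I.subtype by
        rw [Submodule.map_smul'', Submodule.map_subtype_top]] at this
      obtain ⟨v, hv, hvz⟩ := this
      exact (Subtype.ext hvz : v = z - y) ▸ hv
    simpa using add_mem hd hy
  have h3 : I.subtype z ∈ (maximalIdeal P • (⊤ : Submodule P I)).map I.subtype := ⟨z, h2, rfl⟩
  rw [Submodule.map_smul'', Submodule.map_subtype_top] at h3
  simpa [z] using h3

theorem exists_columns {κ : Type*} [Field κ] {m : ℕ} {Ω : Type*} (w : Ω → Fin m → κ)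
    (h : ∀ c : Fin m → κ, (∀ o, ∑ i, c i * w o i = 0) → c = 0) :
    ∃ o : Fin m → Ω, (Matrix.of fun i j => w (o j) i).det ≠ 0 := by
  have hspan : Submodule.span κ (Set.range w) = ⊤ := by
    by_contra hne
    obtain ⟨φ, hφ0, hφ⟩ := Submodule.exists_dual_map_eq_bot_of_lt_top (lt_top_iff_ne_top.mpr hne)
      inferInstance
    refine hφ0 ?_
    have hc : (fun i => φ (Pi.single i 1)) = 0 := h _ fun o => by
      have h0 : φ (w o) = 0 := by
        have : φ (w o) ∈ (Submodule.span κ (Set.range w)).map φ :=
          ⟨w o, Submodule.subset_span ⟨o, rfl⟩, rfl⟩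
        simpa [hφ] using this
      conv_rhs => rw [← h0, pi_eq_sum_univ' (w o), map_sum]
      exact Finset.sum_congr rfl fun i _ => by rw [map_smul, smul_eq_mul, mul_comm]
    ext i
    simpa using congrFun hc i
  obtain ⟨b, hb, hbspan, hbli⟩ := exists_linearIndependent κ (Set.range w)
  rw [hspan] at hbspan
  let B := Module.Basis.mk hbli (by rw [Subtype.range_coe, hbspan])
  have : Fintype b := FiniteDimensional.fintypeBasisIndex B
  have hcard : Fintype.card b = m := by
    rw [← Module.finrank_eq_card_basis B, Module.finrank_fin_fun]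
  let e : Fin m ≃ b := (Fintype.equivFinOfCardEq hcard).symm
  choose g hg using fun v : b => hb v.2
  refine ⟨fun j => g (e j), ?_⟩
  rw [← isUnit_iff_ne_zero, ← Matrix.isUnit_iff_isUnit_det, ← Matrix.linearIndependent_cols_iff_isUnit]
  convert! hbli.comp e e.injective
  ext j i
  simp [Matrix.col, Matrix.of, hg]
  rfl

theorem formallySmooth_iff {k₀ R : Type u} [CommRing k₀] [CommRing R] [Algebra k₀ R]
    [Algebra.FormallySmooth k₀ R] [IsNoetherianRing R] (J q : Ideal R) [q.IsPrime] (hJq : J ≤ q)
    [(q.map (Ideal.Quotient.mk J)).IsPrime] :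
    Algebra.FormallySmooth k₀ (Localization.AtPrime (q.map (Ideal.Quotient.mk J))) ↔
      ∃ (m : ℕ) (f : Fin m → R) (D : Fin m → Derivation k₀ R R),
        (∀ i, f i ∈ J) ∧
        J.map (algebraMap R (Localization.AtPrime q)) =
          Ideal.span (Set.range fun i => algebraMap R (Localization.AtPrime q) (f i)) ∧
        Matrix.det (Matrix.of fun i j => D j (f i)) ∉ q := by
  classical
  let P := Localization.AtPrime q
  let qb := q.map (Ideal.Quotient.mk J)
  let A := Localization.AtPrime qb
  have hcomap : q = qb.comap (Ideal.Quotient.mk J) := by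
    rw [Ideal.comap_map_of_surjective _ Ideal.Quotient.mk_surjective, ← RingHom.ker_eq_comap_bot,
      Ideal.mk_ker, sup_eq_left.mpr hJq]
  let π : P →+* A := Localization.localRingHom q qb (Ideal.Quotient.mk J) hcomap
  let : Algebra P A := π.toAlgebra
  have hπ : ∀ r, π (algebraMap R P r) = algebraMap (R ⧸ J) A (Ideal.Quotient.mk J r) :=
    Localization.localRingHom_to_map _ _ _ hcomap
  have : IsScalarTower k₀ P A := .of_algebraMap_eq fun x => by
    rw [IsScalarTower.algebraMap_apply k₀ R P, RingHom.algebraMap_toAlgebra, hπ]; rfl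
  have hsurj : Function.Surjective (algebraMap P A) := by
    intro x
    obtain ⟨y, ⟨s, hs⟩, rfl⟩ := IsLocalization.exists_mk'_eq qb.primeCompl x
    obtain ⟨y, rfl⟩ := Ideal.Quotient.mk_surjective y
    obtain ⟨s, rfl⟩ := Ideal.Quotient.mk_surjective s
    refine ⟨IsLocalization.mk' P y (⟨s, fun h => hs (Ideal.mem_map_of_mem _ h)⟩ : q.primeCompl), ?_⟩
    exact Localization.localRingHom_mk' _ _ _ hcomap _ _
  have hker : RingHom.ker (algebraMap P A) = J.map (algebraMap R P) := by
    refine le_antisymm (fun x hx => ?_) (Ideal.map_le_iff_le_comap.mpr fun r hr => ?_)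
    · obtain ⟨y, s, rfl⟩ := IsLocalization.exists_mk'_eq q.primeCompl x
      have h0 : algebraMap (R ⧸ J) A (Ideal.Quotient.mk J y) = 0 := by
        rw [← hπ, ← IsLocalization.mk'_spec P y s, map_mul, show π (IsLocalization.mk' P y s) = 0 from hx,
          zero_mul]
      obtain ⟨⟨t, ht⟩, ht0⟩ := (IsLocalization.map_eq_zero_iff qb.primeCompl A _).mp h0
      obtain ⟨t, rfl⟩ := Ideal.Quotient.mk_surjective t
      rw [IsLocalization.mk'_mem_map_algebraMap_iff]
      refine ⟨t, fun h => ht (Ideal.mem_map_of_mem _ h), ?_⟩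
      rwa [← map_mul, Ideal.Quotient.eq_zero_iff_mem] at ht0
    · rw [Ideal.mem_comap, RingHom.mem_ker, RingHom.algebraMap_toAlgebra, hπ,
        Ideal.Quotient.eq_zero_iff_mem.mpr hr, map_zero]
  let I := RingHom.ker (algebraMap P A)
  have : Algebra.FormallyEtale R P := Algebra.FormallyEtale.of_isLocalization q.primeCompl
  have : Algebra.FormallySmooth k₀ P := Algebra.FormallySmooth.comp k₀ R P
  have hres : ∀ r, residue P (algebraMap R P r) = 0 ↔ r ∈ q := fun r => by
    rw [residue_eq_zero_iff, IsLocalization.AtPrime.to_map_mem_maximal_iff P q]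
  rw [Algebra.FormallySmooth.iff_split_injection hsurj]
  constructor
  · rintro ⟨l, hl⟩
    obtain ⟨s₀, hs₀⟩ := IsNoetherian.noetherian J
    let good : ℕ → Prop := fun n => ∃ s : Finset R, s.card = n ∧ (↑s : Set R) ⊆ J ∧
      J.map (algebraMap R P) = Ideal.span (algebraMap R P '' ↑s)
    have hex : ∃ n, good n := ⟨_, s₀, rfl, hs₀ ▸ Submodule.subset_span, by
      rw [← Ideal.map_span]; congr 1; exact hs₀.symm⟩
    obtain ⟨s, hsn, hsJ, hsgen⟩ := Nat.find_spec hex
    let e := s.equivFin.symm
    let f : Fin s.card → R := fun i => (e i).1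
    have hf : ∀ i, f i ∈ J := fun i => hsJ (e i).2
    have hgen : J.map (algebraMap R P) = Ideal.span (Set.range fun i => algebraMap R P (f i)) := by
      rw [hsgen]; congr 1
      ext x
      constructor
      · rintro ⟨y, hy, rfl⟩; exact ⟨e.symm ⟨y, hy⟩, by simp [f]⟩
      · rintro ⟨i, rfl⟩; exact ⟨f i, (e i).2, rfl⟩
    let x : Fin s.card → I := fun i => ⟨algebraMap R P (f i), by
      change _ ∈ RingHom.ker _
      rw [hker]; exact Ideal.mem_map_of_mem _ (hf i)⟩
    have hI : I ≤ maximalIdeal P := IsLocalRing.le_maximalIdeal (RingHom.ker_ne_top _)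
    obtain ⟨σ, hσ⟩ := Module.projective_def.mp
      (inferInstance : Module.Projective R Ω[R⁄k₀])
    let w : Ω[R⁄k₀] → Fin s.card → ResidueField P := fun o i =>
      residue P (algebraMap R P (σ (D k₀ R (f i)) o))
    obtain ⟨o, ho⟩ := exists_columns w fun c hc => by
      choose c' hc' using fun i => residue_surjective (c i)
      let T : Finset Ω[R⁄k₀] := Finset.univ.biUnion fun i => (σ (D k₀ R (f i))).support
      have hdf : ∀ i, D k₀ P (x i).1 =
          ∑ t ∈ T, algebraMap R P (σ (D k₀ R (f i)) t) • map k₀ k₀ R P t := fun i => by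
        have hh : D k₀ R (f i) = ∑ t ∈ T, σ (D k₀ R (f i)) t • t := by
          conv_lhs => rw [← hσ (D k₀ R (f i))]
          rw [Finsupp.linearCombination_apply]
          exact Finsupp.sum_of_support_subset _
            (Finset.subset_biUnion_of_mem (fun i => (σ (D k₀ R (f i))).support) (Finset.mem_univ i))
            (fun t a => a • id t) (fun _ _ => zero_smul _ _)
        change D k₀ P (algebraMap R P (f i)) = _
        rw [← map_D k₀ k₀ R P]
        conv_lhs => rw [hh, map_sum]
        simp [algebraMap_smul]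
      have hmem := mem_maximalIdeal_smul_of_split l hl hI x c' T
        (fun t => ∑ i, c' i * algebraMap R P (σ (D k₀ R (f i)) t))
        (fun t => by
          rw [← residue_eq_zero_iff, map_sum, ← hc t]
          simp [w, hc'])
        (fun t => map k₀ k₀ R P t) (by
          simp only [hdf, Finset.smul_sum, smul_smul]
          rw [Finset.sum_comm]
          exact Finset.sum_congr rfl fun t _ => (Finset.sum_smul ..).symm)
      funext a
      by_contra hne
      have hu : IsUnit (c' a) := by
        rw [← residue_ne_zero_iff_isUnit, hc']; exact hne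
      let s' := s.erase (f a)
      have hlt : s'.card < Nat.find hex := hsn ▸ Finset.card_erase_lt_of_mem (e a).2
      refine Nat.find_min hex hlt ⟨s', rfl, fun y hy => hsJ (Finset.mem_of_mem_erase hy), ?_⟩
      have hle : Ideal.span (algebraMap R P '' ↑s') ≤ J.map (algebraMap R P) :=
        hsgen ▸ Ideal.span_mono (Set.image_mono (Finset.erase_subset _ _))
      refine le_antisymm ?_ hle
      refine Submodule.le_of_le_smul_of_le_jacobson_bot (I := maximalIdeal P)
        (hker ▸ (IsNoetherian.noetherian (RingHom.ker (algebraMap P A))))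
        (IsLocalRing.maximalIdeal_le_jacobson _) ?_
      conv_lhs => rw [hgen]
      rw [Ideal.span_le]
      rintro _ ⟨b, rfl⟩
      have hoff : ∀ i, i ≠ a → algebraMap R P (f i) ∈ Ideal.span (algebraMap R P '' ↑s') :=
        fun i hi => Ideal.subset_span ⟨f i, Finset.mem_erase.mpr
          ⟨fun h => hi (e.injective (Subtype.ext h)), (e i).2⟩, rfl⟩
      rcases ne_or_eq b a with hb | rfl
      · exact Submodule.mem_sup_left (hoff b hb)
      · rw [← Finset.add_sum_erase _ _ (Finset.mem_univ b)] at hmem
        replace hmem := Submodule.smul_mono (le_refl (maximalIdeal P)) hker.le hmem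
        obtain ⟨d, hd⟩ := hu
        have : algebraMap R P (f b) = (↑d⁻¹ : P) * (c' b * algebraMap R P (f b) +
            ∑ i ∈ Finset.univ.erase b, c' i * algebraMap R P (f i)) -
            (↑d⁻¹ : P) * ∑ i ∈ Finset.univ.erase b, c' i * algebraMap R P (f i) := by
          rw [← hd]; simp [mul_add]
        rw [SetLike.mem_coe]
        beta_reduce
        rw [this]
        refine sub_mem (Submodule.mem_sup_right (Ideal.mul_mem_left _ _ hmem))
          (Submodule.mem_sup_left (Ideal.mul_mem_left _ _ (sum_mem fun i hi => ?_)))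
        exact Ideal.mul_mem_left _ _ (hoff i (Finset.ne_of_mem_erase hi))
    refine ⟨s.card, f, fun j => ((Finsupp.lapply (o j)).comp σ).compDer (D k₀ R), hf, hgen, ?_⟩
    rw [← hres, RingHom.map_det, RingHom.map_det]
    convert! ho
  · rintro ⟨m, f, Dv, hf, hgen, hdet⟩
    let x : Fin m → I := fun i => ⟨algebraMap R P (f i), by
      change _ ∈ RingHom.ker _
      rw [hker]; exact Ideal.mem_map_of_mem _ (hf i)⟩
    let M : Matrix (Fin m) (Fin m) P := Matrix.of fun i j => algebraMap R P (Dv j (f i))
    have hM : IsUnit M.det := by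
      rw [show M.det = algebraMap R P (Matrix.det (Matrix.of fun i j => Dv j (f i))) from
        (RingHom.map_det _ _).symm]
      exact IsLocalization.map_units P (⟨_, hdet⟩ : q.primeCompl)
    have hbc := KaehlerDifferential.isBaseChange_of_formallyEtale k₀ R P
    let φ : Fin m → (Ω[P⁄k₀] →ₗ[P] P) := fun j =>
      hbc.lift ((Algebra.linearMap R P).comp (Dv j).liftKaehlerDifferential)
    have hφ : ∀ j r, φ j (D k₀ P (algebraMap R P r)) = algebraMap R P (Dv j r) := fun j r => by
      rw [← map_D k₀ k₀ R P, hbc.lift_eq]; simp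
    let Φ : Fin m → (A ⊗[P] Ω[P⁄k₀] →ₗ[P] A) := fun j =>
      (TensorProduct.rid P A).toLinearMap ∘ₗ (φ j).lTensor A
    let g : Fin m → (A →ₗ[P] I.Cotangent) := fun i =>
      (Submodule.liftQ (LinearMap.ker (Algebra.linearMap P A))
        (LinearMap.toSpanSingleton P I.Cotangent (I.toCotangent (x i))) (fun p hp => by
          simp only [LinearMap.mem_ker, LinearMap.toSpanSingleton_apply]
          rw [← map_smul, Ideal.toCotangent_eq_zero, pow_two]
          exact Ideal.mul_mem_mul hp (x i).2)) ∘ₗ
        ((Algebra.linearMap P A).quotKerEquivOfSurjective hsurj).symm.toLinearMap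
    have hg : ∀ i p, g i (algebraMap P A p) = p • I.toCotangent (x i) := fun i p => by
      have : ((Algebra.linearMap P A).quotKerEquivOfSurjective hsurj).symm (algebraMap P A p) =
          Submodule.Quotient.mk p := by
        rw [LinearEquiv.symm_apply_eq]; rfl
      simp only [g, LinearMap.comp_apply, LinearEquiv.coe_coe, this]
      rfl
    refine ⟨∑ i, (g i) ∘ₗ ∑ j, M⁻¹ j i • Φ j, LinearMap.ext fun z => ?_⟩
    obtain ⟨⟨z, hz⟩, rfl⟩ := I.toCotangent_surjective z
    have hz' : z ∈ Ideal.span (Set.range fun i => algebraMap R P (f i)) := by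
      rw [← hgen, ← hker]; exact hz
    obtain ⟨c, hc⟩ := (Submodule.mem_span_range_iff_exists_fun _).mp hz'
    have : (⟨z, hz⟩ : I) = ∑ a, c a • x a := Subtype.ext (by simp [x, ← hc])
    rw [this, map_sum, map_sum, map_sum]
    refine Finset.sum_congr rfl fun a _ => ?_
    rw [map_smul, map_smul, map_smul]
    congr 1
    rw [LinearMap.comp_apply, kerCotangentToTensor_toCotangent, LinearMap.id_apply, LinearMap.sum_apply]
    have key : ∀ i, (∑ j, M⁻¹ j i • Φ j) (1 ⊗ₜ[P] D k₀ P (x a).1) =
        algebraMap P A ((M * M⁻¹) a i) := fun i => by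
      rw [LinearMap.sum_apply, Matrix.mul_apply, map_sum]
      refine Finset.sum_congr rfl fun j _ => ?_
      have hΦ : Φ j (1 ⊗ₜ[P] D k₀ P (x a).1) = algebraMap P A (M a j) := by
        simp only [Φ, LinearMap.comp_apply, LinearMap.lTensor_tmul, LinearEquiv.coe_coe,
          TensorProduct.rid_tmul]
        rw [show (x a).1 = algebraMap R P (f a) from rfl, hφ]
        exact (Algebra.algebraMap_eq_smul_one _).symm
      rw [LinearMap.smul_apply, hΦ, map_mul, Algebra.smul_def, mul_comm]
    simp only [LinearMap.comp_apply, key, Matrix.mul_nonsing_inv _ hM, Matrix.one_apply]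
    rw [Finset.sum_eq_single a (fun i _ hi => by rw [if_neg (Ne.symm hi), map_zero, map_zero])
      (fun h => absurd (Finset.mem_univ a) h), if_pos rfl, hg, one_smul]

end Groth.Agent.Alg.ZariskiJacobian
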